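import Cfsg.Agent.Chev.EDeg.Count

/-! Passing from one fundamental root to an adjacent one. -/

set_option autoImplicit false
set_option linter.unusedSectionVars false

open Cfsg.Lie
open Cfsg.Lib.Chev

namespace Cfsg.Lib.EDeg

/-- Adding one root to a mask. -/
def addBit (m r : ℕ) : ℕ := m ||| 2 ^ r

section tables

variable (D : ChevalleyDatum) (C : Cert)

/-- The checks for one side of a pair of adjacent fundamental roots. -/
noncomputable def okHalf (Q A B Z i : ℕ) : Bool :=
  let QA := addBit Q A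
  let QZ := addBit Q Z
  let QAZ := addBit QA Z
  let P := addBit QAZ B
  okUn D Q [Z] QZ && okUn D QA [Z] QAZ && okUn D QZ [A] QAZ && okUn D QAZ [B] P &&
  !bit Q Z && !bit QA Z && !bit QZ A && !bit QAZ B &&
  okStab D Q Q Z && okStab D QA Q Z && okStab D QZ Q A && okStab D QAZ QZ B &&
  okW D C [i] QA QZ && okW D C [i] QZ QA &&
  okRow D QAZ B (fun δ k => bit QAZ k && (Nat.beq δ A || bit Q k)) && bit QAZ A && bit QAZ Z && bit QA A &&
  decide (D.chainRoot B A 1 = some Z) && okLe D Q QAZ && !Nat.beq A Z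

/-- The checks for a pair of adjacent fundamental nodes. -/
noncomputable def okAdj (P Q Z a b : ℕ) : Bool :=
  okHalf D C Q (C.sr a) (C.sr b) Z b && okHalf D C Q (C.sr b) (C.sr a) Z a &&
  Nat.beq (addBit (addBit (addBit Q (C.sr a)) Z) (C.sr b)) P &&
  Nat.beq (addBit (addBit (addBit Q (C.sr b)) Z) (C.sr a)) P

end tables

variable {D : ChevalleyDatum} {C : Cert} (E : Env D C) {F : Type*} [Field F] [Fintype F] [DecidableEq F]
  {V : Type*} [AddCommGroup V] [Module ℂ V] [FiniteDimensional ℂ V] (φ : ↥(D.group F) →* Module.End ℂ V)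

/-- A dimension of an eigenspace. -/
noncomputable def dm (m : ℕ) (w : ℕ → F) : ℕ := Module.finrank ℂ ↥(ES E φ (Mem D m) w)

variable {φ}

theorem dm_congr {m : ℕ} {w w' : ℕ → F} (h : ∀ δ, Mem D m δ → w δ = w' δ) : dm E φ m w = dm E φ m w' := by
  rw [dm, ES_congr E (fun _ => Iff.rfl) h]; rfl

theorem split_dm {m z r m' : ℕ} {w : ℕ → F} (hs : okStab D m z r = true) (hu : okUn D m [r] m' = true)
    (hr : bit m r = false) (hw : ∀ δ, Mem D z δ → w δ = 0) :
    dm E φ m w = ∑ x : F, dm E φ m' (Function.update w r x) := by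
  rw [dm, split E (okStab_spec E hs hw) (fun h => by simp [h.2] at hr)]
  refine Finset.sum_congr rfl fun x _ => ?_
  rw [dm, ES_congr E (okUn_spec hu) fun _ _ => rfl]

theorem sum_split (F0 : F → ℕ) : ∑ x, F0 x = F0 0 + ∑ x ∈ Finset.univ.erase 0, F0 x :=
  (Finset.add_sum_erase _ _ (Finset.mem_univ 0)).symm

theorem half {Q A B Z i : ℕ} (h : okHalf D C Q A B Z i = true) :
    ∃ T : ℕ, dm E φ (addBit Q A) (fun _ => (0 : F)) = dm E φ (addBit (addBit Q A) Z) (fun _ => (0 : F)) + T ∧
      dm E φ (addBit Q Z) (fun _ => (0 : F)) = dm E φ (addBit (addBit Q A) Z) (fun _ => (0 : F)) + T ∧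
      dm E φ Q (fun _ => (0 : F)) = dm E φ (addBit Q Z) (fun _ => (0 : F)) + Fintype.card F * T ∧
      dm E φ (addBit (addBit Q A) Z) (fun _ => (0 : F)) =
        dm E φ (addBit (addBit (addBit Q A) Z) B) (fun _ => (0 : F)) +
          ∑ x ∈ Finset.univ.erase (0 : F),
            dm E φ (addBit (addBit (addBit Q A) Z) B) (Function.update (fun _ => (0 : F)) B x) := by
  simp only [okHalf, Bool.and_eq_true, Bool.not_eq_true', decide_eq_true_eq] at h
  obtain ⟨⟨⟨⟨⟨⟨⟨⟨⟨⟨⟨⟨⟨⟨⟨⟨⟨⟨⟨⟨hu1, hu2⟩, hu3⟩, hu4⟩, hn1⟩, hn2⟩, hn3⟩, hn4⟩, hs1⟩, hs2⟩, hs3⟩, hs4⟩, hW⟩, hW'⟩,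
    hrow⟩, hA⟩, hZ⟩, hAA⟩, hsum⟩, hQ⟩, hAZ⟩ := h
  have hAZ' : A ≠ Z := Nat.ne_of_beq_eq_false hAZ
  have hc : Function.update (fun _ => (0 : F)) Z (0 : F) = fun _ => 0 := funext fun δ => by
    simp [Function.update_apply]
  have hc' : Function.update (fun _ => (0 : F)) A (0 : F) = fun _ => 0 := funext fun δ => by
    simp [Function.update_apply]
  have hc'' : Function.update (fun _ => (0 : F)) B (0 : F) = fun _ => 0 := funext fun δ => by
    simp [Function.update_apply]
  have hmove : ∀ {L : List ℕ} {src dst : ℕ}, okW D C L src dst = true →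
      dm E φ src (fun _ => (0 : F)) ≤ dm E φ dst (fun _ => (0 : F)) := fun {L src dst} hh => by
    obtain ⟨n, κ, -, hn⟩ := wey E (φ := φ) hh
    refine finrank_le_of_map E n fun v hv => ?_
    have := hn _ v hv
    simpa using this
  have eAZ : dm E φ (addBit Q A) (fun _ => (0 : F)) = dm E φ (addBit Q Z) (fun _ => (0 : F)) :=
    le_antisymm (hmove hW) (hmove hW')
  have hQZ : ∀ δ, Mem D Q δ → δ ≠ Z := fun δ hδ e => by rw [← e] at hn1; simp [hδ.2] at hn1
  have s2 := split_dm E (φ := φ) (w := fun _ => (0 : F)) hs2 hu2 hn2 fun _ _ => rfl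
  have s3 := split_dm E (φ := φ) (w := fun _ => (0 : F)) hs3 hu3 hn3 fun _ _ => rfl
  have s1 := split_dm E (φ := φ) (w := fun _ => (0 : F)) hs1 hu1 hn1 fun _ _ => rfl
  have s4 := split_dm E (φ := φ) (w := fun _ => (0 : F)) hs4 hu4 hn4 fun _ _ => rfl
  rw [sum_split, hc] at s2 s1
  rw [sum_split, hc'] at s3
  rw [sum_split, hc''] at s4
  refine ⟨∑ x ∈ Finset.univ.erase (0 : F), dm E φ (addBit (addBit Q A) Z) (Function.update (fun _ => (0 : F)) Z x),
    s2, by rw [← eAZ]; exact s2, ?_, s4⟩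
  rw [s1, Finset.mul_sum]
  refine congrArg _ (Finset.sum_congr rfl fun x hx => ?_)
  have hx0 : x ≠ 0 := (Finset.mem_erase.1 hx).1
  rw [split_dm E hs3 hu3 hn3 fun δ hδ => by rw [Function.update_of_ne (hQZ δ hδ)]]
  obtain ⟨hrn, hsum'⟩ := okRow_spec hrow
  have hM : (D.chainM B A 1 : F) ≠ 0 := by
    rcases unit_M E.hone hrn hsum with e | e <;> simp [e]
  have htr : Trans D (Mem D (addBit (addBit Q A) Z)) B := ⟨hrn, fun δ hδ => ⟨(hsum' δ hδ).1, (hsum' δ hδ).2.1,
    fun k hk => ⟨(chain_some E.S.chain hrn (k := 0) hk).1, by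
      have := (hsum' δ hδ).2.2 k hk
      simp only [Bool.and_eq_true] at this
      exact this.1⟩⟩⟩
  have hle : ∀ y y' : F, dm E φ (addBit (addBit Q A) Z) (Function.update (Function.update (fun _ => (0 : F)) Z x) A y) ≤
      dm E φ (addBit (addBit Q A) Z) (Function.update (Function.update (fun _ => (0 : F)) Z x) A y') := fun y y' => by
    refine finrank_le_of_map E (g E B ((y - y') / ((D.chainM B A 1 : F) * x))) fun v hv => ?_
    have := translate E htr ((y - y') / ((D.chainM B A 1 : F) * x)) hv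
    rwa [ES_congr E (R' := Mem D (addBit (addBit Q A) Z))
      (w' := Function.update (Function.update (fun _ => (0 : F)) Z x) A y') (fun _ => Iff.rfl) fun δ hδ => ?_] at this
    rcases eq_or_ne δ A with rfl | hne
    · rw [shiftW_some hsum, Function.update_self, Function.update_self,
        Function.update_of_ne hAZ'.symm, Function.update_self]
      field_simp
      ring
    · rw [shiftW_zero fun k hk => ?_, Function.update_of_ne hne, Function.update_of_ne hne]
      have := (hsum' δ hδ).2.2 k hk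
      simp only [Bool.and_eq_true, Bool.or_eq_true] at this
      have hkQ : Mem D Q k := ⟨(chain_some E.S.chain hrn (k := 0) hk).1,
        this.2.resolve_left fun e => hne (Nat.eq_of_beq_eq_true e)⟩
      have hkA : k ≠ A := fun e => by
        rw [← e] at hn3
        simp [((okUn_spec hu1 k).1 (Or.inr hkQ)).2] at hn3
      rw [Function.update_of_ne hkA, Function.update_of_ne (hQZ k hkQ)]
  rw [Finset.sum_congr rfl fun y _ => le_antisymm (hle y 0) (hle 0 y), Finset.sum_const, Finset.card_univ,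
    smul_eq_mul]
  congr 1
  refine dm_congr E fun δ _ => ?_
  rcases eq_or_ne δ A with rfl | hne
  · rw [Function.update_self, Function.update_of_ne hAZ']
  · rw [Function.update_of_ne hne]

theorem adjacent {P Q Z a b : ℕ} (h : okAdj D C P Q Z a b = true) (hA : SimpleVec E φ P a) : SimpleVec E φ P b := by
  simp only [okAdj, Bool.and_eq_true] at h
  obtain ⟨⟨⟨h1, h2⟩, h3⟩, h4⟩ := h
  obtain ⟨T, a1, a2, a3, a4⟩ := half E (φ := φ) h1
  obtain ⟨T', b1, b2, b3, b4⟩ := half E (φ := φ) h2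
  rw [Nat.eq_of_beq_eq_true h3] at a4
  rw [Nat.eq_of_beq_eq_true h4] at b4
  have hT : T = T' := Nat.eq_of_mul_eq_mul_left (Fintype.card_pos (α := F)) (by omega)
  obtain ⟨w, hw0, hwa, hne⟩ := hA
  have hpos : 0 < ∑ x ∈ Finset.univ.erase (0 : F), dm E φ P (Function.update (fun _ => (0 : F)) (C.sr a) x) := by
    refine lt_of_lt_of_le ?_ (Finset.single_le_sum (fun _ _ => Nat.zero_le _)
      (Finset.mem_erase.2 ⟨hwa, Finset.mem_univ _⟩))
    rw [dm_congr E (w' := w) fun δ hδ => ?_, dm]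
    · exact Nat.pos_of_ne_zero fun e => hne (Submodule.finrank_eq_zero.1 e)
    · rcases eq_or_ne δ (C.sr a) with rfl | hd
      · rw [Function.update_self]
      · rw [Function.update_of_ne hd, hw0 δ hδ hd]
  obtain ⟨x, hx, hx'⟩ := Finset.exists_ne_zero_of_sum_ne_zero
    (show ∑ x ∈ Finset.univ.erase (0 : F), dm E φ P (Function.update (fun _ => (0 : F)) (C.sr b) x) ≠ 0 by omega)
  exact ⟨_, fun δ _ hd => by rw [Function.update_of_ne hd], by rw [Function.update_self]; exact (Finset.mem_erase.1 hx).1,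
    fun e => hx' (Submodule.finrank_eq_zero.2 e)⟩

/-- Reaching every node from one along a list of edges. -/
noncomputable def okTree (D : ChevalleyDatum) (C : Cert) (P : ℕ) (L : List (ℕ × ℕ × ℕ × ℕ)) : List ℕ → Bool :=
  @List.rec (ℕ × ℕ × ℕ × ℕ) (fun _ => List ℕ → Bool) (fun done => kall (fun k => done.elem k) (krange 0 D.rank))
    (fun e _ ih done => done.elem e.1 && okAdj D C P e.2.2.1 e.2.2.2 e.1 e.2.1 && ih (e.2.1 :: done)) L

theorem tree {P : ℕ} : ∀ (L : List (ℕ × ℕ × ℕ × ℕ)) (done : List ℕ), okTree D C P L done = true →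
    (∀ d ∈ done, SimpleVec E φ P d) → ∀ k < D.rank, SimpleVec E φ P k := by
  intro L
  induction L with
  | nil =>
    intro done hok hd k hk
    exact hd k (by simpa using kall_krange (show kall (fun k => done.elem k) (krange 0 D.rank) = true from hok) k hk)
  | cons e L ih =>
    intro done hok hd
    replace hok : (done.elem e.1 && okAdj D C P e.2.2.1 e.2.2.2 e.1 e.2.1 && okTree D C P L (e.2.1 :: done)) = true :=
      hok
    simp only [Bool.and_eq_true, List.elem_eq_mem, decide_eq_true_eq] at hok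
    refine ih _ hok.2 fun d hd' => ?_
    rcases List.mem_cons.1 hd' with rfl | hd'
    · exact adjacent E hok.1.2 (hd _ hok.1.1)
    · exact hd d hd'

end Cfsg.Lib.EDeg
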