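import Cfsg.Agent.Chev.Tw.Setup
import Cfsg.Agent.Chev.Types
import Cfsg.Agent.Chev.GTwoDeg.Eigen

/-! Eigenvectors of root subgroups in representations of simply laced Chevalley groups. -/

set_option autoImplicit false
set_option linter.unusedSectionVars false

open Cfsg.Lie
open Cfsg.Lib.Chev
open Cfsg.Lib.TwDeg (proj act_end act_ne_zero act_cancel e_mul_proj mem_iff sum_proj proj_mul)
open Cfsg.Lib.GTwoDeg (psi psi_nd ch chE ch_apply chE_apply ch_ne_zero)

namespace Cfsg.Lib.EDeg

section tables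

variable (D : ChevalleyDatum) (C : Cert)

/-- A row of the chain table. -/
noncomputable def row (r : ℕ) : List (ℕ × Array (ℕ × ℤ)) := (D.chain.getD r #[]).toList

/-- The root carried by an entry of a row. -/
noncomputable def tgt (e : ℕ × Array (ℕ × ℤ)) : ℕ := (e.2.toList.headD (0, 0)).1

/-- All chains have length one and unit coefficients. -/
noncomputable def okOne : Bool :=
  kall (fun r => kall (fun e => match e.2.toList with
    | [q] => decide (q.2 = 1 ∨ q.2 = -1)
    | _ => false) (row D r)) (krange 0 D.nroots)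

/-- Membership in a set of roots given by a mask. -/
noncomputable def bit (m r : ℕ) : Bool := Nat.beq (Nat.land (Nat.shiftRight m r) 1) 1

/-- The roots of a mask. -/
def Mem (m r : ℕ) : Prop := r < D.nroots ∧ bit m r = true

/-- The roots of a list, added to a set. -/
def Un (L : List ℕ) (R : ℕ → Prop) (r : ℕ) : Prop := r ∈ L ∨ R r

/-- Translation by `r` respects the set. -/
def Trans (R : ℕ → Prop) (r : ℕ) : Prop :=
  r < D.nroots ∧ ∀ δ, R δ → δ < D.nroots ∧ δ ≠ D.neg r ∧ ∀ k, D.chainRoot r δ 1 = some k → R k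

/-- Translation by `r` fixes the phases on the set. -/
def Stab {F : Type*} [Zero F] (R : ℕ → Prop) (w : ℕ → F) (r : ℕ) : Prop :=
  r < D.nroots ∧ ∀ δ, R δ → δ < D.nroots ∧ δ ≠ D.neg r ∧ ∀ k, D.chainRoot r δ 1 = some k → R k ∧ w k = 0

/-- A property of the sums with `r`. -/
noncomputable def okRow (src : ℕ) (r : ℕ) (good : ℕ → ℕ → Bool) : Bool :=
  Nat.blt r D.nroots && !bit src (D.negIdx.getD r 0) &&
    kall (fun e => !bit src e.1 || good e.1 (tgt e)) (row D r)

variable {D C}

theorem chainRoot_mem {r δ k : ℕ} (hk : D.chainRoot r δ 1 = some k) :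
    ∃ e ∈ row D r, e.1 = δ ∧ tgt e = k := by
  rw [ChevalleyDatum.chainRoot, chainEntry_eq] at hk
  cases hf : (D.chain.getD r #[]).toList.find? (fun e => e.1 = δ) with
  | none => rw [hf] at hk; exact absurd hk (by simp)
  | some e =>
    have hes : e.1 = δ := by simpa using List.find?_some hf
    refine ⟨e, List.mem_of_find?_eq_some hf, hes, ?_⟩
    simp only [hf, Option.toList_some, List.flatMap_cons, List.flatMap_nil, List.append_nil, Nat.sub_self] at hk
    unfold tgt
    cases hq : e.2.toList with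
    | nil => simp [hq] at hk
    | cons q qs =>
      rw [hq] at hk
      simpa using hk

theorem okRow_spec {src r : ℕ} {good : ℕ → ℕ → Bool} (h : okRow D src r good = true) :
    r < D.nroots ∧ ∀ δ, Mem D src δ → δ < D.nroots ∧ δ ≠ D.neg r ∧
      ∀ k, D.chainRoot r δ 1 = some k → good δ k = true := by
  simp only [okRow, Bool.and_eq_true, Nat.blt, Nat.ble_eq, Bool.not_eq_true', kall_iff, Bool.or_eq_true] at h
  obtain ⟨⟨h1, h2⟩, h3⟩ := h
  refine ⟨h1, fun δ hδ => ⟨hδ.1, fun e => ?_, fun k hk => ?_⟩⟩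
  · have := hδ.2
    rw [e, show D.neg r = D.negIdx.getD r 0 from rfl, h2] at this
    exact Bool.noConfusion this
  · obtain ⟨e, he, rfl, rfl⟩ := chainRoot_mem hk
    exact (h3 e he).resolve_left (by simp [hδ.2])

theorem one_entry (h : okOne D = true) (r : ℕ) (hr : r < D.nroots) (s : ℕ) :
    (D.chainEntry r s).length ≤ 1 ∧ ∀ q ∈ D.chainEntry r s, q.2 = 1 ∨ q.2 = -1 := by
  rw [chainEntry_eq]
  cases hf : (D.chain.getD r #[]).toList.find? (fun e => e.1 = s) with
  | none => simp
  | some e =>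
    have := (kall_iff _ _).1 (kall_krange h r hr) e (List.mem_of_find?_eq_some hf)
    revert this
    simp only [Option.toList_some, List.flatMap_cons, List.flatMap_nil, List.append_nil]
    rcases e.2.toList with _ | ⟨q, _ | ⟨q', qs⟩⟩ <;> simp

theorem chain_long (h : okOne D = true) {r : ℕ} (hr : r < D.nroots) (s i : ℕ) (hi : 2 ≤ i) :
    D.chainRoot r s i = none := by
  rw [ChevalleyDatum.chainRoot, List.getElem?_eq_none (by have := (one_entry h r hr s).1; omega)]
  rfl

theorem unit_M (h : okOne D = true) {r : ℕ} (hr : r < D.nroots) {s k : ℕ} (hk : D.chainRoot r s 1 = some k) :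
    D.chainM r s 1 = 1 ∨ D.chainM r s 1 = -1 := by
  simp only [ChevalleyDatum.chainRoot, Nat.sub_self, Option.map_eq_some_iff] at hk
  obtain ⟨q, hq, -⟩ := hk
  simp only [ChevalleyDatum.chainM, Nat.sub_self, hq, Option.map_some, Option.getD_some]
  exact (one_entry h r hr s).2 q (List.mem_of_getElem? hq)

theorem commTerms_eq (h : okOne D = true) {r s : ℕ} (hr : r < D.nroots) (hs : s < D.nroots) :
    D.commTerms r s = match D.chainRoot r s 1 with
      | none => []
      | some k => [(k, D.chainM r s 1, 1, 1)] := by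
  unfold ChevalleyDatum.commTerms
  simp only [chain_long h hr s 2 le_rfl, chain_long h hs r 2 le_rfl, chain_long h hr s 3 (by norm_num),
    chain_long h hs r 3 (by norm_num), Option.bind_none]
  cases D.chainRoot r s 1 <;> simp

end tables

/-- A simply laced datum with a certificate. -/
structure Env (D : ChevalleyDatum) (C : Cert) : Prop where
  /-- the structure -/
  S : Struct D C
  hN : okNeg D = true
  hone : okOne D = true

variable {D : ChevalleyDatum} {C : Cert} (E : Env D C) {F : Type*} [Field F]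

/-- A root element in the group. -/
noncomputable def g (r : ℕ) (t : F) : ↥(D.group F) := ⟨E.S.ok.xG r t, E.S.ok.xG_mem_group r t⟩

theorem g_add (r : ℕ) (a b : F) : g E r a * g E r b = g E r (a + b) := Subtype.ext (E.S.ok.xG_mul r a b)

theorem g_zero (r : ℕ) : g E r (0 : F) = 1 := Subtype.ext (E.S.xG_zero r)

/-- The shifted phases. -/
noncomputable def shiftW (D : ChevalleyDatum) (w : ℕ → F) (r : ℕ) (t : F) (δ : ℕ) : F :=
  w δ - ((D.chainRoot r δ 1).map fun k => (D.chainM r δ 1 : F) * t * w k).getD 0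

theorem shiftW_none {w : ℕ → F} {r δ : ℕ} {t : F} (h : D.chainRoot r δ 1 = none) :
    shiftW D w r t δ = w δ := by simp [shiftW, h]

theorem shiftW_some {w : ℕ → F} {r δ k : ℕ} {t : F} (h : D.chainRoot r δ 1 = some k) :
    shiftW D w r t δ = w δ - (D.chainM r δ 1 : F) * t * w k := by simp [shiftW, h]

theorem shiftW_zero {w : ℕ → F} {r δ : ℕ} {t : F} (h : ∀ k, D.chainRoot r δ 1 = some k → w k = 0) :
    shiftW D w r t δ = w δ := by
  cases hk : D.chainRoot r δ 1 with
  | none => exact shiftW_none hk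
  | some k => simp [shiftW_some hk, h k hk]

variable [Fintype F] {V : Type*} [AddCommGroup V] [Module ℂ V] [FiniteDimensional ℂ V] (φ : ↥(D.group F) →* Module.End ℂ V)

/-- The common eigenspace of root subgroups with given phases. -/
noncomputable def ES (R : ℕ → Prop) (w : ℕ → F) : Submodule ℂ V where
  carrier := {v | ∀ r, R r → ∀ a, φ (g E r a) v = psi (w r * a) • v}
  zero_mem' := fun r _ a => by simp
  add_mem' := fun {u v} hu hv r hr a => by rw [map_add, hu r hr a, hv r hr a, smul_add]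
  smul_mem' := fun c v hv r hr a => by rw [map_smul, hv r hr a, smul_comm]

variable {φ}

theorem ES_congr {R R' : ℕ → Prop} {w w' : ℕ → F} (hR : ∀ r, R r ↔ R' r) (hw : ∀ r, R r → w r = w' r) :
    ES E φ R w = ES E φ R' w' := by
  ext v
  exact ⟨fun hv r hr a => by rw [← hw r ((hR r).2 hr)]; exact hv r ((hR r).2 hr) a,
    fun hv r hr a => by rw [hw r hr]; exact hv r ((hR r).1 hr) a⟩

theorem ES_mono {R R' : ℕ → Prop} {w w' : ℕ → F} (hR : ∀ r, R r → R' r) (hw : ∀ r, R r → w r = w' r) :
    ES E φ R' w' ≤ ES E φ R w := fun v hv r hr a => by rw [hw r hr]; exact hv r (hR r hr) a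

theorem phase_unique {R : ℕ → Prop} {w w' : ℕ → F} {v : V} (hv0 : v ≠ 0) (hv : v ∈ ES E φ R w)
    (hv' : v ∈ ES E φ R w') {r : ℕ} (hr : R r) : w r = w' r := by
  refine Cfsg.Lib.GTwoDeg.ch_inj (DFunLike.ext _ _ fun a => ?_)
  have h := (hv r hr a).symm.trans (hv' r hr a)
  rw [ch_apply, ch_apply]
  exact smul_left_injective ℂ hv0 h

theorem ne_of_mem {R : ℕ → Prop} {δ r : ℕ} (h : R δ) (hr : ¬ R r) : δ ≠ r := fun e => hr (e ▸ h)

theorem rel_comm {r δ : ℕ} (hr : r < D.nroots) (hδ : δ < D.nroots) (hne : δ ≠ D.neg r) (t u : F) :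
    g E δ u * g E r t = g E r t * (g E δ u *
      ((D.chainRoot r δ 1).map fun k => g E k ((D.chainM r δ 1 : F) * -t * u)).getD 1) := by
  rcases eq_or_ne δ r with rfl | hne2
  · have hnone : D.chainRoot δ δ 1 = none := by
      cases hk : D.chainRoot δ δ 1 with
      | none => rfl
      | some k => exact absurd rfl (chain_some E.S.chain hδ (k := 0) hk).2.2.2.1
    rw [hnone, Option.map_none, Option.getD_none, mul_one, g_add, g_add, add_comm]
  · apply Subtype.ext
    have e := E.S.ok.commRel E.S.chain E.S.base hr hδ hne2 hne t u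
    rw [Subgroup.coe_mul, Subgroup.coe_mul, Subgroup.coe_mul, ← mul_assoc]
    show E.S.ok.xG δ u * E.S.ok.xG r t = _
    rw [e]
    congr 1
    rw [ChevalleyDatum.commWord, commTerms_eq E.hone hr hδ]
    cases D.chainRoot r δ 1 with
    | none => simp [Ok.wG]
    | some k => simp [Ok.wG, g]

theorem translate {R : ℕ → Prop} {w : ℕ → F} {r : ℕ} (hR : Trans D R r) (t : F) {v : V}
    (hv : v ∈ ES E φ R w) : φ (g E r t) v ∈ ES E φ R (shiftW D w r t) := by
  intro δ hδ u
  obtain ⟨hδn, hne, hsum⟩ := hR.2 δ hδ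
  rw [← act_end, rel_comm E hR.1 hδn hne, act_end, act_end]
  cases hk : D.chainRoot r δ 1 with
  | none =>
    rw [Option.map_none, Option.getD_none, map_one, Module.End.one_apply, hv δ hδ, map_smul, shiftW_none hk]
  | some k =>
    rw [Option.map_some, Option.getD_some, hv k (hsum k hk), map_smul, map_smul, hv δ hδ, map_smul, smul_smul,
      ← AddChar.map_add_eq_mul, shiftW_some hk]
    congr 2
    ring

theorem shift_fix {R : ℕ → Prop} {w : ℕ → F} {r : ℕ} (hR : Stab D R w r) (t : F) {v : V}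
    (hv : v ∈ ES E φ R w) : φ (g E r t) v ∈ ES E φ R w := by
  have h := translate E (r := r) ⟨hR.1, fun δ hδ => ⟨(hR.2 δ hδ).1, (hR.2 δ hδ).2.1,
    fun k hk => ((hR.2 δ hδ).2.2 k hk).1⟩⟩ t hv
  rwa [ES_congr E (w' := w) (fun _ => Iff.rfl) fun δ hδ => shiftW_zero fun k hk => ((hR.2 δ hδ).2.2 k hk).2] at h

/-- An injective operator carrying one eigenspace into another. -/
theorem finrank_le_of_map (x : ↥(D.group F)) {R R' : ℕ → Prop} {w w' : ℕ → F}
    (h : ∀ v ∈ ES E φ R w, φ x v ∈ ES E φ R' w') :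
    Module.finrank ℂ ↥(ES E φ R w) ≤ Module.finrank ℂ ↥(ES E φ R' w') := by
  refine LinearMap.finrank_le_finrank_of_injective (f := (φ x).restrict h) fun a b e => Subtype.ext ?_
  have e1 := congrArg (φ x⁻¹) (congrArg Subtype.val e)
  simpa [← act_end] using e1

/-- The eigenspace splits under a root subgroup stabilising it. -/
theorem split {R : ℕ → Prop} {w : ℕ → F} {r : ℕ} (hR : Stab D R w r) (hr : ¬ R r) :
    Module.finrank ℂ ↥(ES E φ R w) =
      ∑ x : F, Module.finrank ℂ ↥(ES E φ (Un [r] R) (Function.update w r x)) := by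
  classical
  have he : ∀ a b : F, g E r a * g E r b = g E r (a + b) := g_add E r
  have hY : ∀ x (v : V), v ∈ ES E φ R w → proj φ (g E r) (ch x) v ∈ ES E φ (Un [r] R) (Function.update w r x) := by
    intro x v hv δ hδ a
    by_cases h : δ = r
    · subst h
      rw [Function.update_self, ← ch_apply, ← Module.End.mul_apply, e_mul_proj he]
      rfl
    · rw [Function.update_of_ne h]
      have hRδ : R δ := hδ.resolve_left (by simpa using h)
      have hp : proj φ (g E r) (ch x) v ∈ ES E φ R w := by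
        simp only [proj, LinearMap.smul_apply, LinearMap.sum_apply]
        exact Submodule.smul_mem _ _ (Submodule.sum_mem _ fun a _ => Submodule.smul_mem _ _ (shift_fix E hR a hv))
      exact hp δ hRδ a
  have hin : ∀ x (v : V), v ∈ ES E φ (Un [r] R) (Function.update w r x) → v ∈ ES E φ R w := fun x v hv =>
    ES_mono E (fun δ h => Or.inr h) (fun δ h => (Function.update_of_ne (ne_of_mem h hr) _ _).symm) hv
  have hid : ∀ x y (v : V), v ∈ ES E φ (Un [r] R) (Function.update w r x) →
      proj φ (g E r) (ch y) v = if y = x then v else 0 := by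
    intro x y v hv
    obtain ⟨u, hu⟩ := (mem_iff he (ch x) v).2 fun a => by
      have := hv r (Or.inl (by simp)) a
      rwa [Function.update_self, ← ch_apply] at this
    rw [← hu, ← Module.End.mul_apply, proj_mul he]
    rcases eq_or_ne y x with rfl | h
    · simp
    · simp [h, Cfsg.Lib.GTwoDeg.ch_inj.ne h]
  let e : ↥(ES E φ R w) ≃ₗ[ℂ] Π x : F, ↥(ES E φ (Un [r] R) (Function.update w r x)) :=
    { toFun := fun v x => ⟨proj φ (g E r) (ch x) v, hY x v v.2⟩
      map_add' := fun u v => funext fun x => Subtype.ext (by simp)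
      map_smul' := fun c v => funext fun x => Subtype.ext (by simp)
      invFun := fun f => ⟨∑ x, (f x : V), Submodule.sum_mem _ fun x _ => hin x _ (f x).2⟩
      left_inv := fun v => Subtype.ext (by
        have h := LinearMap.congr_fun (sum_proj (φ := φ) he) (v : V)
        rw [LinearMap.sum_apply, Module.End.one_apply, ← (chE (F := F)).sum_comp] at h
        exact h)
      right_inv := fun f => funext fun y => Subtype.ext (by
        show proj φ (g E r) (ch y) (∑ x, (f x : V)) = f y
        rw [map_sum, Finset.sum_congr rfl fun x _ => hid x y _ (f x).2]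
        simp) }
  rw [e.finrank_eq, Module.finrank_pi_fintype]

theorem agree_upd {R : ℕ → Prop} {w f : ℕ → F} {r : ℕ} {L : List ℕ} {x : F} (hr : ¬ R r) (hx : f r = x)
    (hf : ∀ δ, R δ → f δ = w δ) :
    (∀ δ, Un [r] R δ → f δ = Function.update w r x δ) ∧ ∀ δ, (Un L (Un [r] R) δ ↔ Un (r :: L) R δ) := by
  refine ⟨fun δ hδ => ?_, fun δ => ?_⟩
  · rcases hδ with h | h
    · rw [List.mem_singleton] at h
      rw [h, Function.update_self, hx]
    · rw [hf δ h, Function.update_of_ne (ne_of_mem h hr)]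
  · simp only [Un, List.mem_singleton, List.mem_cons]
    tauto

/-- The conditions for splitting along a list. -/
def SplitOK (D : ChevalleyDatum) (R : ℕ → Prop) (w : ℕ → F) (L : List ℕ) : Prop :=
  L.Nodup ∧ ∀ r ∈ L, r < D.nroots ∧ ¬ R r ∧
    ∀ δ, Un L R δ → δ < D.nroots ∧ δ ≠ D.neg r ∧ ∀ k, D.chainRoot r δ 1 = some k → R k ∧ w k = 0

theorem SplitOK.cons {R : ℕ → Prop} {w : ℕ → F} {r : ℕ} {L : List ℕ} (h : SplitOK D R w (r :: L)) (x : F) :
    Stab D R w r ∧ ¬ R r ∧ SplitOK D (Un [r] R) (Function.update w r x) L := by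
  obtain ⟨hnd, h⟩ := h
  obtain ⟨hrn, hr, hrs⟩ := h r List.mem_cons_self
  rw [List.nodup_cons] at hnd
  refine ⟨⟨hrn, fun δ hδ => hrs δ (Or.inr hδ)⟩, hr, hnd.2, fun s hs => ?_⟩
  obtain ⟨hsn, hsR, hss⟩ := h s (List.mem_cons_of_mem _ hs)
  refine ⟨hsn, ?_, fun δ hδ => ?_⟩
  · rintro (h' | h')
    · rw [List.mem_singleton] at h'
      exact hnd.1 (h' ▸ hs)
    · exact hsR h'
  · obtain ⟨a, b, c⟩ := hss δ ((agree_upd (R := R) (L := L) (w := w) (f := Function.update w r x) hr
      (Function.update_self ..) (fun δ h => Function.update_of_ne (ne_of_mem h hr) _ _)).2 δ |>.1 hδ)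
    refine ⟨a, b, fun k hk => ?_⟩
    obtain ⟨hkR, hk0⟩ := c k hk
    exact ⟨Or.inr hkR, by rw [Function.update_of_ne (ne_of_mem hkR hr), hk0]⟩

theorem split_ge : ∀ (L : List ℕ) (R : ℕ → Prop) (w : ℕ → F), SplitOK D R w L →
    ∀ S : Finset (ℕ → F), (∀ f ∈ S, ∀ δ, R δ → f δ = w δ) →
      (∀ f ∈ S, ∀ f' ∈ S, (∀ r ∈ L, f r = f' r) → f = f') →
      ∑ f ∈ S, Module.finrank ℂ ↥(ES E φ (Un L R) f) ≤ Module.finrank ℂ ↥(ES E φ R w) := by
  intro L
  induction L with
  | nil =>
    intro R w _ S hS hd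
    rcases S.eq_empty_or_nonempty with rfl | ⟨f, hf⟩
    · simp
    · rw [Finset.eq_singleton_iff_unique_mem.2 ⟨hf, fun f' hf' => hd f' hf' f hf (by simp)⟩, Finset.sum_singleton,
        ES_congr E (R := Un [] R) (R' := R) (w' := w) (by simp [Un]) (fun δ hδ => hS f hf δ (by simpa [Un] using hδ))]
  | cons r L ih =>
    intro R w hok S hS hd
    classical
    obtain ⟨hst, hr, -⟩ := hok.cons 0
    rw [split E hst hr, ← Finset.sum_fiberwise S (fun f => f r)]
    refine Finset.sum_le_sum fun x _ => ?_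
    refine le_trans (le_of_eq (Finset.sum_congr rfl fun f hf => ?_))
      (ih _ _ (hok.cons x).2.2 (S.filter fun f => f r = x) ?_ ?_)
    · rw [ES_congr E (R := Un (r :: L) R) (R' := Un L (Un [r] R)) (w' := f)
        (fun δ => ((agree_upd (R := R) (L := L) (w := w) hr (Finset.mem_filter.1 hf).2
          (hS f (Finset.mem_filter.1 hf).1)).2 δ).symm) fun _ _ => rfl]
    · intro f hf
      exact (agree_upd (L := L) hr (Finset.mem_filter.1 hf).2 (hS f (Finset.mem_filter.1 hf).1)).1
    · intro f hf f' hf' h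
      rw [Finset.mem_filter] at hf hf'
      exact hd f hf.1 f' hf'.1 fun s hs => (List.mem_cons.1 hs).elim (fun e => by rw [e, hf.2, hf'.2]) (h s)

theorem split_const : ∀ (L : List ℕ) (R : ℕ → Prop) (w : ℕ → F), SplitOK D R w L → ∀ a : ℕ,
    (∀ f : ℕ → F, (∀ δ, R δ → f δ = w δ) → Module.finrank ℂ ↥(ES E φ (Un L R) f) = a) →
    Module.finrank ℂ ↥(ES E φ R w) = Fintype.card F ^ L.length * a := by
  intro L
  induction L with
  | nil =>
    intro R w _ a ha
    rw [List.length_nil, pow_zero, one_mul, ← ha w fun _ _ => rfl,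
      ES_congr E (R := Un [] R) (R' := R) (by simp [Un]) fun _ _ => rfl]
  | cons r L ih =>
    intro R w hok a ha
    obtain ⟨hst, hr, -⟩ := hok.cons 0
    rw [split E hst hr, List.length_cons, pow_succ', mul_assoc]
    rw [Finset.sum_congr rfl fun x _ => ih _ _ (hok.cons x).2.2 a fun f hf => ?_]
    · simp
    · have hf' : ∀ δ, R δ → f δ = w δ := fun δ hδ => by
        rw [hf δ (Or.inr hδ), Function.update_of_ne (ne_of_mem hδ hr)]
      rw [ES_congr E (R' := Un (r :: L) R) (w' := f) ((agree_upd (L := L) hr rfl hf').2) fun _ _ => rfl]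
      exact ha f hf'

/-- Common eigenvectors extend along a list. -/
theorem extend : ∀ (L : List ℕ) (R : ℕ → Prop) (w : ℕ → F), SplitOK D R w L → ES E φ R w ≠ ⊥ →
    ∃ w' : ℕ → F, (∀ δ, R δ → w' δ = w δ) ∧ ES E φ (Un L R) w' ≠ ⊥ := by
  intro L
  induction L with
  | nil =>
    intro R w _ h
    exact ⟨w, fun _ _ => rfl, by rwa [ES_congr E (R := Un [] R) (R' := R) (by simp [Un]) fun _ _ => rfl]⟩
  | cons r L ih =>
    intro R w hok h
    obtain ⟨hst, hr, -⟩ := hok.cons 0
    have h0 : Module.finrank ℂ ↥(ES E φ R w) ≠ 0 := fun e => h (Submodule.finrank_eq_zero.1 e)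
    rw [split E hst hr] at h0
    obtain ⟨x, -, hx⟩ := Finset.exists_ne_zero_of_sum_ne_zero h0
    obtain ⟨w', hw', hne⟩ := ih _ _ (hok.cons x).2.2 fun e => hx (Submodule.finrank_eq_zero.2 e)
    have hf' : ∀ δ, R δ → w' δ = w δ := fun δ hδ => by
      rw [hw' δ (Or.inr hδ), Function.update_of_ne (ne_of_mem hδ hr)]
    refine ⟨w', hf', ?_⟩
    rwa [ES_congr E (R' := Un L (Un [r] R)) (w' := w')
      (fun δ => ((agree_upd (L := L) hr rfl hf').2 δ).symm) fun _ _ => rfl]

/-- On a line stabilised by a root subgroup, that subgroup acts by a character. -/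
theorem line_eig {R : ℕ → Prop} {w : ℕ → F} {r : ℕ} (hR : Stab D R w r) (hr : ¬ R r)
    (h1 : Module.finrank ℂ ↥(ES E φ R w) = 1) :
    ∃ x : F, ∀ v ∈ ES E φ R w, ∀ a, φ (g E r a) v = psi (x * a) • v := by
  have h := split E (φ := φ) hR hr
  rw [h1] at h
  obtain ⟨x, -, hx⟩ := Finset.exists_ne_zero_of_sum_ne_zero (by rw [← h]; exact one_ne_zero)
  have hle : ES E φ (Un [r] R) (Function.update w r x) ≤ ES E φ R w :=
    ES_mono E (fun δ h => Or.inr h) fun δ h => (Function.update_of_ne (ne_of_mem h hr) _ _).symm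
  have heq := Submodule.eq_of_le_of_finrank_le hle (by omega)
  refine ⟨x, fun v hv a => ?_⟩
  rw [← heq] at hv
  simpa using hv r (Or.inl (by simp)) a

/-- Two root subgroups acting by characters on a vector make the sum root act trivially. -/
theorem comm_triv {r δ k : ℕ} (hr : r < D.nroots) (hδ : δ < D.nroots) (hne : δ ≠ D.neg r)
    (hk : D.chainRoot r δ 1 = some k) {v : V} {x y : F}
    (hx : ∀ a, φ (g E r a) v = psi (x * a) • v) (hy : ∀ a, φ (g E δ a) v = psi (y * a) • v) (a : F) :
    φ (g E k a) v = v := by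
  have hc : (D.chainM r δ 1 : F) ≠ 0 := by
    rcases unit_M E.hone hr hk with e | e <;> simp [e]
  have h := congrArg (fun z => φ z v) (rel_comm E (F := F) hr hδ hne 1 (-a / (D.chainM r δ 1 : F)))
  simp only [hk, Option.map_some, Option.getD_some, mul_neg, mul_one, neg_mul, mul_div_cancel₀ _ hc, neg_neg] at h
  rw [act_end, act_end, act_end, hx, map_smul, hy, smul_smul] at h
  have h2 := congrArg (φ (g E r (-1))) h
  rw [map_smul, hx, ← act_end, g_add, neg_add_cancel, g_zero, map_one, Module.End.one_apply, smul_smul] at h2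
  have h3 := congrArg (φ (g E δ (-(-a / (D.chainM r δ 1 : F))))) h2
  rw [← act_end, g_add, neg_add_cancel, g_zero, map_one, Module.End.one_apply, map_smul, hy, smul_smul] at h3
  rw [← h3]
  conv_rhs => rw [← one_smul ℂ v]
  congr 1
  rw [← AddChar.map_add_eq_mul, ← AddChar.map_add_eq_mul, ← AddChar.map_add_eq_mul,
    ← (AddChar.map_zero_eq_one (psi (F := F)))]
  congr 1
  ring

end Cfsg.Lib.EDeg
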