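import Cfsg.Agent.Chev.EDeg.Move
import Cfsg.Agent.Known.RootCent

/-! The size of the class of an element of the highest root subgroup. -/

set_option autoImplicit false
set_option linter.unusedSectionVars false

open Cfsg.Lie
open Cfsg.Lib.Chev
open Cfsg.Lib.Chev.Struct (Nw Neg)

namespace Cfsg.Lib.EDeg

/-- The data of the Weyl orbit of the highest root. -/
structure Orb where
  /-- the highest root -/
  th : ℕ
  /-- a node joined to it -/
  sn : ℕ
  /-- the roots not orthogonal to it among the positive ones -/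
  ph : ℕ
  /-- all positive roots -/
  pos : ℕ
  /-- a word for each root -/
  words : List (List ℕ)
  /-- the lengths -/
  cnts : List ℕ

/-- The orbit polynomial. -/
def Orb.poly (O : Orb) (q : ℕ) : ℕ := (O.cnts.map fun c => q ^ c).sum

section tables

variable (D : ChevalleyDatum) (C : Cert) (O : Orb)

/-- Checks on the orbit data. -/
noncomputable def Orb.ok : Bool :=
  let h := D.nroots / 2
  Nat.blt O.th D.nroots && Nat.ble h O.th && Nat.blt O.sn D.rank && decide (D.cartan O.sn O.th = 1) &&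
  okRow D O.pos O.th (fun _ _ => false) &&
  kall (fun r => bit O.pos r == Nat.ble h r) (krange 0 D.nroots) &&
  kall (fun r => bit O.ph r == (Nat.beq r O.th || (D.chainRoot O.th (D.negIdx.getD r 0) 1).isSome))
    (krange 0 D.nroots) &&
  kall (fun r => !bit O.ph r || Nat.ble h r) (krange 0 D.nroots) &&
  decide (O.cnts.length = D.nroots) &&
  kall (fun γ => let w := O.words.getD γ []
    kall (fun i => Nat.blt i D.rank) w && Nat.beq (C.wL w O.th) γ &&
    kall (fun δ => Nat.blt δ h || bit O.ph δ || Nat.ble h (C.wL w δ)) (krange 0 D.nroots) &&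
    Nat.beq (kcount (fun δ => Nat.blt (C.wL w δ) h) (krange h h)) (O.cnts.getD γ 0)) (krange 0 D.nroots)

end tables

variable {D : ChevalleyDatum} {C : Cert} (E : Env D C)

/-- The property defining the positive roots not orthogonal to the highest one. -/
def Near (D : ChevalleyDatum) (th r : ℕ) : Prop := r = th ∨ (D.chainRoot th (D.neg r) 1).isSome

include E in
theorem near_w {th : ℕ} (hth : th < D.nroots) (L : List (Fin D.rank))
    (hfix : (E.S.wpL L ⟨th, hth⟩).val = th) (r : Fin D.nroots) : Near D th (E.S.wpL L r).val ↔ Near D th r := by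
  have hn : D.neg r < D.nroots := by have := (E.S.order_row r.isLt).1; omega
  have hchain : ∀ (L : List (Fin D.rank)) (a b : Fin D.nroots),
      (D.chainRoot (E.S.wpL L a) (E.S.wpL L b) 1).isSome = (D.chainRoot a b 1).isSome := by
    intro L
    induction L with
    | nil => intro a b; simp [Struct.wpL]
    | cons i L ih =>
      intro a b
      have := ih a b
      simp only [Struct.wpL, List.map_cons, List.prod_cons, Equiv.Perm.mul_apply, Struct.wp_val] at this ⊢
      rw [← this, E.S.ok.chain_w E.S.chain i.isLt (Fin.isLt _) (Fin.isLt _) 0, Option.isSome_map]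
  refine or_congr ⟨fun h => ?_, fun h => ?_⟩ (Iff.of_eq (congrArg (· = true) ?_))
  · exact congrArg Fin.val ((E.S.wpL L).injective (Fin.ext (h.trans hfix.symm) : E.S.wpL L r = E.S.wpL L ⟨th, hth⟩))
  · rw [show r = ⟨th, hth⟩ from Fin.ext h, hfix]
  · rw [← E.S.wp_neg L r hn, ← hchain L ⟨th, hth⟩ ⟨D.neg r, hn⟩, hfix]

variable {F : Type*} [Field F] [Fintype F]

theorem pos_comm {O : Orb} (hO : O.ok D C = true) (t : F) {u : GL D.Idx F} (hu : u ∈ D.posUnipotent F) :
    Commute u (E.S.ok.xG O.th t) := by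
  simp only [Orb.ok, Bool.and_eq_true, kall_iff, Nat.blt, Nat.ble_eq] at hO
  obtain ⟨⟨⟨⟨⟨⟨⟨⟨⟨-, -⟩, -⟩, -⟩, hrow⟩, hpos⟩, -⟩, -⟩, -⟩, -⟩ := hO
  obtain ⟨hth, hsum⟩ := okRow_spec hrow
  have hle : D.posUnipotent F ≤ Subgroup.centralizer {E.S.ok.xG O.th t} := by
    refine (Subgroup.closure_le _).2 ?_
    rintro x ⟨r, a, hr, hx⟩
    obtain ⟨ha, hb⟩ := E.S.isPos_iff.1 hr
    rw [E.S.ok.eq_xG hx, SetLike.mem_coe, Subgroup.mem_centralizer_singleton_iff]
    obtain ⟨-, hne, hk⟩ := hsum r ⟨hb, by rw [beq_iff_eq.1 (hpos r (mem_krange0 hb))]; simpa using ha⟩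
    have h := rel_comm E (F := F) hth hb hne t a
    cases hc : D.chainRoot O.th r 1 with
    | some k => exact absurd (hk k hc) (by simp)
    | none =>
      rw [hc, Option.map_none, Option.getD_none, mul_one] at h
      exact congrArg Subtype.val h
  exact Subgroup.mem_centralizer_singleton_iff.1 (hle hu)

open scoped Classical in
/-- The sum over the stabiliser of the highest root. -/
noncomputable def fixSum (th : ℕ) (q : ℕ) : ℕ :=
  Finset.sum (Finset.univ.filter fun w : ↥E.S.WG => ∀ r : Fin D.nroots, r.val = th →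
    ((w : Equiv.Perm (Fin D.nroots)) r).val = th) fun w : ↥E.S.WG => q ^ Nw D (w : Equiv.Perm _)

open scoped Classical in
theorem orbit_sum {O : Orb} (hO : O.ok D C = true) (q : ℕ) :
    ∑ w : ↥E.S.WG, q ^ Nw D (w : Equiv.Perm _) = O.poly q * fixSum E O.th q := by
  simp only [Orb.ok, Bool.and_eq_true, kall_iff, Nat.blt, Nat.ble_eq, decide_eq_true_eq, Bool.or_eq_true,
    Bool.not_eq_true'] at hO
  obtain ⟨⟨⟨⟨⟨⟨⟨⟨⟨hth, hth'⟩, -⟩, -⟩, -⟩, -⟩, hph⟩, hphp⟩, hlen⟩, hw⟩ := hO
  have hS := E.S.hsum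
  let θ : Fin D.nroots := ⟨O.th, hth⟩
  have hu : ∀ γ : Fin D.nroots, ∃ L : List (Fin D.rank), (E.S.wpL L θ).val = γ.val ∧
      (∀ δ : Fin D.nroots, D.nroots / 2 ≤ δ.val → ¬ Mem D O.ph δ → D.nroots / 2 ≤ (E.S.wpL L δ).val) ∧
      Nw D (E.S.wpL L) = O.cnts.getD γ 0 := by
    intro γ
    obtain ⟨⟨⟨hL, hb⟩, hs⟩, hc⟩ := hw γ.val (mem_krange0 γ.isLt)
    let L : List (Fin D.rank) := (O.words.getD γ []).pmap Fin.mk hL
    have e1 : L.map Fin.val = O.words.getD γ [] := by simp [L, List.map_pmap]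
    refine ⟨L, by rw [E.S.wpL_val, e1]; exact Nat.eq_of_beq_eq_true hb, fun δ hδ hnot => ?_, ?_⟩
    · rw [E.S.wpL_val, e1]
      rcases hs δ.val (mem_krange0 δ.isLt) with (h | h) | h
      · omega
      · exact absurd ⟨δ.isLt, h⟩ hnot
      · exact h
    · rw [← Nat.eq_of_beq_eq_true hc, kcount_eq, krange_eq,
        ← List.toFinset_card_of_nodup (List.Nodup.filter _ List.nodup_range'), Nw]
      refine Finset.card_bij (fun r _ => r.val) ?_ (fun r _ s _ h => Fin.ext h) ?_
      · intro r hr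
        simp only [Finset.mem_filter, Finset.mem_univ, true_and] at hr
        simp only [List.mem_toFinset, List.mem_filter, List.mem_range'_1, Nat.blt, Nat.ble_eq]
        rw [E.S.wpL_val, e1] at hr
        exact ⟨⟨hr.1, by omega⟩, hr.2⟩
      · intro b hb
        simp only [List.mem_toFinset, List.mem_filter, List.mem_range'_1, Nat.blt, Nat.ble_eq] at hb
        refine ⟨⟨b, by omega⟩, ?_, rfl⟩
        simp only [Finset.mem_filter, Finset.mem_univ, true_and]
        rw [E.S.wpL_val, e1]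
        exact ⟨hb.1.1, hb.2⟩
  choose u hu1 hu2 hu3 using hu
  let Fix : Finset ↥E.S.WG := Finset.univ.filter fun w => ∀ r : Fin D.nroots, r.val = O.th →
    ((w : Equiv.Perm (Fin D.nroots)) r).val = O.th
  have hmem : ∀ r : Fin D.nroots, Mem D O.ph r ↔ Near D O.th r := fun r => by
    have := beq_iff_eq.1 (hph r.val (mem_krange0 r.isLt))
    simp [Mem, r.isLt, Near, this, ChevalleyDatum.neg]
  have hadd : ∀ γ, ∀ v ∈ Fix, Nw D (E.S.wpL (u γ) * v) = Nw D (E.S.wpL (u γ)) + Nw D (v : Equiv.Perm _) := by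
    intro γ v hv
    simp only [Fix, Finset.mem_filter, Finset.mem_univ, true_and] at hv
    obtain ⟨M, hM⟩ := E.S.exists_wpL v.2
    have hvm : ∀ r : Fin D.nroots, Mem D O.ph ((v : Equiv.Perm (Fin D.nroots)) r) ↔ Mem D O.ph r := fun r => by
      rw [hmem, hmem, hM]
      exact near_w E hth M (by rw [← hM]; exact hv θ rfl) r
    have hvp : ∀ r : Fin D.nroots, Mem D O.ph r → D.nroots / 2 ≤ r.val := fun r hr =>
      (hphp r.val (mem_krange0 r.isLt)).resolve_left (by simp [hr.2])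
    let P : (Fin D.nroots → Prop) := fun r => Mem D O.ph r
    have hN : ∀ w : Equiv.Perm (Fin D.nroots),
        Nw D w = (Finset.univ.filter fun r : Fin D.nroots =>
            D.nroots / 2 ≤ r.val ∧ P r ∧ (w r).val < D.nroots / 2).card +
          (Finset.univ.filter fun r : Fin D.nroots =>
            D.nroots / 2 ≤ r.val ∧ ¬ P r ∧ (w r).val < D.nroots / 2).card := by
      intro w
      rw [← Finset.card_union_of_disjoint (by
        rw [Finset.disjoint_left]; intro r; simp only [Finset.mem_filter]; tauto)]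
      unfold Nw
      congr 1
      ext r
      simp only [Finset.mem_union, Finset.mem_filter, Finset.mem_univ, true_and]
      tauto
    rw [hN (E.S.wpL (u γ) * v), hN (E.S.wpL (u γ)), hN (v : Equiv.Perm _)]
    have e1 : (Finset.univ.filter fun r : Fin D.nroots =>
        D.nroots / 2 ≤ r.val ∧ P r ∧ ((v : Equiv.Perm _) r).val < D.nroots / 2) = ∅ := by
      rw [Finset.filter_eq_empty_iff]
      rintro r - ⟨-, hr, hr'⟩
      have := hvp _ ((hvm r).2 hr)
      omega
    have e2 : (Finset.univ.filter fun r : Fin D.nroots =>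
        D.nroots / 2 ≤ r.val ∧ ¬ P r ∧ (E.S.wpL (u γ) r).val < D.nroots / 2) = ∅ := by
      rw [Finset.filter_eq_empty_iff]
      rintro r - ⟨hr0, hr, hr'⟩
      have := hu2 γ r hr0 hr
      omega
    have e3 : (Finset.univ.filter fun r : Fin D.nroots =>
        D.nroots / 2 ≤ r.val ∧ ¬ P r ∧ ((E.S.wpL (u γ) * v) r).val < D.nroots / 2) =
        (Finset.univ.filter fun r : Fin D.nroots =>
        D.nroots / 2 ≤ r.val ∧ ¬ P r ∧ ((v : Equiv.Perm _) r).val < D.nroots / 2) := by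
      refine Finset.filter_congr fun r _ => ?_
      rw [Equiv.Perm.mul_apply]
      refine and_congr_right fun hr0 => and_congr_right fun hr => ?_
      set x := (v : Equiv.Perm (Fin D.nroots)) r
      have hxn : ¬ Mem D O.ph x := fun h => hr ((hvm r).1 h)
      constructor
      · intro h
        by_contra hx
        have := hu2 γ x (by omega) hxn
        omega
      · intro hx
        have hn : D.neg x.val < D.nroots := by have := (E.S.order_row x.isLt).1; omega
        have hn' : D.neg r.val < D.nroots := by have := (E.S.order_row r.isLt).1; omega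
        have hxe : (v : Equiv.Perm _) ⟨D.neg r.val, hn'⟩ = (⟨D.neg x.val, hn⟩ : Fin D.nroots) := Fin.ext (by
          rw [hM, E.S.wp_neg M r hn', ← hM])
        have h1 : ¬ Mem D O.ph (⟨D.neg x.val, hn⟩ : Fin D.nroots) := fun h => by
          rw [← hxe, hvm] at h
          have h5 := hvp _ h
          have := (E.S.order_row r.isLt).1
          simp only at h5
          omega
        have h2 := hu2 γ ⟨D.neg x.val, hn⟩ (by have := (E.S.order_row x.isLt).1; show D.nroots / 2 ≤ D.neg x.val; omega)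
          h1
        rw [E.S.wp_neg (u γ) x hn] at h2
        have := (E.S.order_row (E.S.wpL (u γ) x).isLt).1
        omega
    have e4 : (Finset.univ.filter fun r : Fin D.nroots =>
        D.nroots / 2 ≤ r.val ∧ P r ∧ ((E.S.wpL (u γ) * v) r).val < D.nroots / 2).card =
        (Finset.univ.filter fun r : Fin D.nroots =>
        D.nroots / 2 ≤ r.val ∧ P r ∧ (E.S.wpL (u γ) r).val < D.nroots / 2).card := by
      refine Finset.card_equiv (v : Equiv.Perm (Fin D.nroots)) fun r => ?_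
      rw [Finset.mem_filter, Finset.mem_filter]
      simp only [Finset.mem_univ, true_and, Equiv.Perm.mul_apply]
      exact ⟨fun ⟨_, b, c⟩ => ⟨hvp _ ((hvm r).2 b), (hvm r).2 b, c⟩,
        fun ⟨_, b, c⟩ => ⟨hvp _ ((hvm r).1 b), (hvm r).1 b, c⟩⟩
    rw [e1, e2, e3, e4, Finset.card_empty]
    ring
  let θimg : ↥E.S.WG → Fin D.nroots := fun w => (w : Equiv.Perm (Fin D.nroots)) θ
  rw [← Finset.sum_fiberwise Finset.univ θimg]
  have hfib : ∀ γ, ∑ w ∈ Finset.univ.filter (fun w => θimg w = γ), q ^ Nw D (w : Equiv.Perm (Fin D.nroots)) =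
      q ^ O.cnts.getD γ.val 0 * fixSum E O.th q := by
    intro γ
    let U : ↥E.S.WG := ⟨E.S.wpL (u γ), E.S.wpL_mem_WG _⟩
    rw [fixSum, Finset.mul_sum]
    refine (Finset.sum_equiv (Equiv.mulLeft U) (fun v => ?_) fun v hv => ?_).symm
    · simp only [Finset.mem_filter, Finset.mem_univ, true_and, Equiv.coe_mulLeft, θimg]
      constructor
      · intro h
        rw [Subgroup.coe_mul, Equiv.Perm.mul_apply,
          show (v : Equiv.Perm (Fin D.nroots)) θ = θ from Fin.ext (h θ rfl)]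
        exact Fin.ext (hu1 γ)
      · intro h r hr
        rw [show r = θ from Fin.ext hr]
        rw [Subgroup.coe_mul, Equiv.Perm.mul_apply] at h
        have h2 : (v : Equiv.Perm (Fin D.nroots)) θ = θ :=
          (E.S.wpL (u γ)).injective (h.trans (Fin.ext (hu1 γ).symm))
        exact congrArg Fin.val h2
    · rw [Equiv.coe_mulLeft, Subgroup.coe_mul, ← hu3 γ, ← pow_add]
      congr 1
      exact (hadd γ v (Finset.mem_filter.2 ⟨Finset.mem_univ _, (Finset.mem_filter.1 hv).2⟩)).symm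
  rw [Finset.sum_congr rfl fun γ _ => hfib γ, ← Finset.sum_mul]
  congr 1
  have e : (O.cnts.map fun c => q ^ c) = List.ofFn fun i : Fin D.nroots => q ^ O.cnts.getD i.val 0 := by
    refine List.ext_getElem (by simp [hlen]) fun i h1 h2 => ?_
    simp [List.getElem?_eq_getElem (show i < O.cnts.length by simpa using h1)]
  rw [Orb.poly, e, List.sum_ofFn]

/-- The elements moving the root element within its root subgroup. -/
def Nset (O : Orb) : Type _ :=
  {g : ↥(D.group F) // ∃ μ : F, (g : GL D.Idx F) * E.S.ok.xG O.th 1 * (g : GL D.Idx F)⁻¹ = E.S.ok.xG O.th μ}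

open scoped Classical in
theorem card_Nset {O : Orb} (hO : O.ok D C = true) :
    Nat.card (Nset E (F := F) O) = Nat.card ↥(D.borelSubgroup F) * fixSum E O.th (Fintype.card F) := by
  have hO' := hO
  simp only [Orb.ok, Bool.and_eq_true, Nat.blt, Nat.ble_eq] at hO'
  obtain ⟨⟨⟨⟨⟨⟨⟨⟨⟨hth, hth'⟩, -⟩, -⟩, -⟩, -⟩, -⟩, -⟩, -⟩, -⟩ := hO'
  let θ : Fin D.nroots := ⟨O.th, hth⟩
  choose L hL using fun w : ↥E.S.WG => E.S.exists_wpL w.2
  have hact : ∀ w : ↥E.S.WG, Act E.S.ok (E.S.nL F (L w)) (w : Equiv.Perm _) := fun w => by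
    rw [hL w]; exact E.S.act_nL _
  have hB : ∀ b ∈ D.borelSubgroup F, ∀ (γ : Fin D.nroots) (c : F), c ≠ 0 →
      ((∃ μ, b * E.S.ok.xG γ.val c * b⁻¹ = E.S.ok.xG O.th μ) ↔ γ = θ) := by
    intro b hb γ c hc
    obtain ⟨u', hu', d, hd, rfl⟩ := E.S.borel_decomp hb
    obtain ⟨-, a, ha, e⟩ := E.S.act_diag hd γ
    have e' : u' * d * E.S.ok.xG γ.val c * (u' * d)⁻¹ = u' * E.S.ok.xG γ.val (a * c) * u'⁻¹ := by
      rw [mul_inv_rev, show u' * d * E.S.ok.xG γ.val c * (d⁻¹ * u'⁻¹) =
        u' * (d * E.S.ok.xG γ.val c * d⁻¹) * u'⁻¹ by group, (e c).1]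
      rfl
    rw [e']
    constructor
    · rintro ⟨μ, hμ⟩
      have h1 : E.S.ok.xG γ.val (a * c) = E.S.ok.xG O.th μ := by
        have h2 : u'⁻¹ * E.S.ok.xG O.th μ * u' = E.S.ok.xG O.th μ := by
          rw [mul_assoc, ← (pos_comm E hO μ hu').eq, inv_mul_cancel_left]
        rw [← h2, ← hμ]; group
      have hμ0 : μ ≠ 0 := fun h => by
        rw [h, E.S.xG_zero] at h1
        exact mul_ne_zero ha hc (E.S.xG_eq_one γ.isLt h1)
      exact Fin.ext (Cfsg.Lib.Known.RootCent.xG_inj_pos E.S E.hN γ.isLt hth hth' hμ0 h1).1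
    · rintro rfl
      exact ⟨a * c, by rw [(pos_comm E hO (a * c) hu').eq, mul_inv_cancel_right]⟩
  have hiff : ∀ (w : ↥E.S.WG) (b u : GL D.Idx F), b ∈ D.borelSubgroup F →
      u ∈ D.posUnipotent F →
      ((∃ μ, b * E.S.nL F (L w) * u * E.S.ok.xG O.th 1 * (b * E.S.nL F (L w) * u)⁻¹ = E.S.ok.xG O.th μ) ↔
        (∀ r : Fin D.nroots, r.val = O.th → ((w : Equiv.Perm (Fin D.nroots)) r).val = O.th)) := by
    intro w b u hb hu
    obtain ⟨-, c, hc, e⟩ := hact w θ
    have e' : b * E.S.nL F (L w) * u * E.S.ok.xG O.th 1 * (b * E.S.nL F (L w) * u)⁻¹ =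
        b * E.S.ok.xG ((w : Equiv.Perm (Fin D.nroots)) θ).val c * b⁻¹ := by
      rw [mul_inv_rev, mul_inv_rev, show b * E.S.nL F (L w) * u * E.S.ok.xG O.th 1 *
        (u⁻¹ * ((E.S.nL F (L w))⁻¹ * b⁻¹)) =
        b * (E.S.nL F (L w) * (u * E.S.ok.xG O.th 1 * u⁻¹) * (E.S.nL F (L w))⁻¹) * b⁻¹ by group,
        (pos_comm E hO 1 hu).eq, mul_inv_cancel_right, show O.th = θ.val from rfl, (e 1).1, mul_one]
    rw [e', hB b hb _ c hc]
    exact ⟨fun h r hr => by rw [show r = θ from Fin.ext hr, h], fun h => Fin.ext (h θ rfl)⟩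
  let Fix := {w : ↥E.S.WG // ∀ r : Fin D.nroots, r.val = O.th → ((w : Equiv.Perm (Fin D.nroots)) r).val = O.th}
  let f : (Σ w : Fix, ↥(D.borelSubgroup F) × ↥(E.S.UPsi F (Neg D (w.1 : Equiv.Perm _)))) → Nset E (F := F) O :=
    fun x => ⟨⟨x.2.1.1 * E.S.nL F (L x.1.1) * x.2.2.1, mul_mem (mul_mem (E.S.borel_le_group x.2.1.2)
      (E.S.mono_le_group (E.S.nL_mem_mono _))) (E.S.borel_le_group (E.S.B_le_of (E.S.UPsi_le _ x.2.2.2)))⟩,
      (hiff x.1.1 _ _ x.2.1.2 (E.S.UPsi_le _ x.2.2.2)).2 x.1.2⟩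
  have hf : Function.Bijective f := by
    constructor
    · rintro ⟨⟨w, hw⟩, ⟨b, hb⟩, u, hu⟩ ⟨⟨w', hw'⟩, ⟨b', hb'⟩, u', hu'⟩ e
      have e' : b * E.S.nL F (L w) * u = b' * E.S.nL F (L w') * u' :=
        congrArg (fun x : Nset E (F := F) O => ((x.1 : ↥(D.group F)) : GL D.Idx F)) e
      have hd := E.S.normal_form_cong E.hN hb hb' (E.S.nL_mem_mono _) (E.S.nL_mem_mono _)
        (E.S.UPsi_le _ hu) (E.S.UPsi_le _ hu') e'
      have hww : w = w' := by
        refine Subtype.ext ?_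
        have h1 := E.S.act_mul (hact w) (E.S.act_diag hd)
        rw [mul_inv_cancel_left, mul_one] at h1
        exact (E.S.act_unique (hact w') h1).symm
      subst hww
      obtain ⟨rfl, rfl⟩ := E.S.normal_form_unique E.hN hb hb' (hact w) hu hu' e'
      rfl
    · rintro ⟨⟨g, hg⟩, μ, hμ⟩
      obtain ⟨b, hb, n, hn, M, hM, u, hu, rfl⟩ := E.S.normal_form E.hN hg
      let w : ↥E.S.WG := ⟨E.S.wpL M, E.S.wpL_mem_WG M⟩
      obtain ⟨M', hM', hiff'⟩ := E.S.exists_act (mul_mem hn (inv_mem (E.S.nL_mem_mono (F := F) (L w))))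
      have hd : n * (E.S.nL F (L w))⁻¹ ∈ D.diagonalSubgroup F := by
        refine hiff'.1 ?_
        have h1 := E.S.act_mul hM' (hact w)
        rw [inv_mul_cancel_right] at h1
        exact mul_eq_right.1 (E.S.act_unique h1 hM)
      have hb' : b * (n * (E.S.nL F (L w))⁻¹) ∈ D.borelSubgroup F := mul_mem hb (Subgroup.mem_sup_right hd)
      have hval : b * (n * (E.S.nL F (L w))⁻¹) * E.S.nL F (L w) * u = b * n * u := by group
      refine ⟨⟨⟨w, (hiff w _ u hb' (E.S.UPsi_le _ hu)).1 ⟨μ, by rw [hval]; exact hμ⟩⟩, ⟨_, hb'⟩, u, hu⟩,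
        Subtype.ext (Subtype.ext hval)⟩
  rw [← Nat.card_eq_of_bijective f hf, Nat.card_sigma, fixSum, Finset.mul_sum,
    Finset.sum_subtype (p := fun w : ↥E.S.WG => ∀ r : Fin D.nroots, r.val = O.th →
      ((w : Equiv.Perm (Fin D.nroots)) r).val = O.th) _ (fun w => by simp)]
  refine Finset.sum_congr rfl fun w _ => ?_
  rw [Nat.card_prod, E.S.card_UPsi_Neg E.hN (hact w.1)]

/-- The size of the class. -/
theorem index_cent {O : Orb} (hO : O.ok D C = true) :
    (Subgroup.centralizer ({g E O.th (1 : F)} : Set ↥(D.group F))).index =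
      (Fintype.card F - 1) * O.poly (Fintype.card F) := by
  classical
  have hO' := hO
  simp only [Orb.ok, Bool.and_eq_true, Nat.blt, Nat.ble_eq, decide_eq_true_eq] at hO'
  obtain ⟨⟨⟨⟨⟨⟨⟨⟨⟨hth, hth'⟩, hsn⟩, hct⟩, -⟩, -⟩, -⟩, -⟩, -⟩, -⟩ := hO'
  set z := g E O.th (1 : F)
  set Z := Subgroup.centralizer ({z} : Set ↥(D.group F))
  have htt : ∀ x : Fˣ, tt E ⟨O.sn, hsn⟩ x * z * (tt E ⟨O.sn, hsn⟩ x)⁻¹ = g E O.th ((x : Fˣ) : F) := fun x => by
    apply Subtype.ext
    have h := E.S.tG_conj_xG hth (Pi.mulSingle (⟨O.sn, hsn⟩ : Fin D.rank) x) (1 : F)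
    rw [Fintype.prod_eq_single (⟨O.sn, hsn⟩ : Fin D.rank) (fun j hj => by simp [Pi.mulSingle_eq_of_ne hj]),
      Pi.mulSingle_eq_same, hct, zpow_one, mul_one] at h
    exact h
  let f : Fˣ × ↥Z → Nset E (F := F) O := fun p => ⟨tt E ⟨O.sn, hsn⟩ p.1 * p.2.1, ((p.1 : Fˣ) : F), by
    have hc : p.2.1 * z = z * p.2.1 := Subgroup.mem_centralizer_singleton_iff.1 p.2.2
    have h : tt E ⟨O.sn, hsn⟩ p.1 * p.2.1 * z * (tt E ⟨O.sn, hsn⟩ p.1 * p.2.1)⁻¹ = g E O.th ((p.1 : Fˣ) : F) := by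
      rw [← htt, mul_inv_rev, mul_assoc (tt E _ _) p.2.1 z, hc]
      group
    exact congrArg Subtype.val h⟩
  have hinj : ∀ a b : F, g E O.th a = g E O.th b → a = b := fun a b h => by
    have h1 : g E O.th (a + -b) = 1 := by rw [← g_add, h, g_add, add_neg_cancel, g_zero]
    exact eq_of_sub_eq_zero (by rw [sub_eq_add_neg]; exact E.S.xG_eq_one hth (congrArg Subtype.val h1))
  have hf : Function.Bijective f := by
    constructor
    · rintro ⟨x, c⟩ ⟨x', c'⟩ e
      have e' : tt E ⟨O.sn, hsn⟩ x * c.1 = tt E ⟨O.sn, hsn⟩ x' * c'.1 := congrArg Subtype.val e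
      have h : ∀ (x : Fˣ) (c : ↥Z), (tt E ⟨O.sn, hsn⟩ x * c.1) * z * (tt E ⟨O.sn, hsn⟩ x * c.1)⁻¹ =
          g E O.th ((x : Fˣ) : F) := fun x c => by
        rw [← htt, mul_inv_rev, mul_assoc (tt E _ _) c.1 z, Subgroup.mem_centralizer_singleton_iff.1 c.2]
        group
      have hx : x = x' := Units.ext (hinj _ _ ((h x c).symm.trans (by rw [e']; exact h x' c')))
      subst hx
      exact Prod.ext rfl (Subtype.ext (mul_left_cancel e'))
    · rintro ⟨y, μ, hμ⟩
      have hμ' : y * z * y⁻¹ = g E O.th μ := Subtype.ext hμ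
      have h0 : μ ≠ 0 := fun h => by
        rw [h, g_zero, mul_inv_eq_one, mul_eq_left] at hμ'
        exact one_ne_zero (E.S.xG_eq_one hth (congrArg Subtype.val hμ'))
      refine ⟨(Units.mk0 μ h0, ⟨(tt E ⟨O.sn, hsn⟩ (Units.mk0 μ h0))⁻¹ * y, ?_⟩),
        Subtype.ext (mul_inv_cancel_left _ _)⟩
      rw [Subgroup.mem_centralizer_singleton_iff]
      have h1 := htt (Units.mk0 μ h0)
      rw [Units.val_mk0, ← hμ', mul_inv_eq_iff_eq_mul] at h1
      have h3 : Commute (y⁻¹ * tt E ⟨O.sn, hsn⟩ (Units.mk0 μ h0)) z := by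
        show _ = _
        rw [mul_assoc, h1]
        group
      have h4 := h3.inv_left.eq
      rwa [mul_inv_rev, inv_inv] at h4
  have h1 : (Fintype.card F - 1) * Nat.card ↥Z =
      Nat.card ↥(D.borelSubgroup F) * fixSum E O.th (Fintype.card F) := by
    rw [← card_Nset E hO, ← Nat.card_eq_of_bijective f hf, Nat.card_prod, Nat.card_units,
      Nat.card_eq_fintype_card (α := F)]
  have h2 : Nat.card ↥Z * Z.index = Nat.card ↥(D.borelSubgroup F) * (O.poly (Fintype.card F) * fixSum E O.th (Fintype.card F)) := by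
    rw [Z.card_mul_index, E.S.card_group E.hN, orbit_sum E hO]
  have hpos : 0 < Nat.card ↥Z := Nat.card_pos
  refine Nat.eq_of_mul_eq_mul_left hpos (h2.trans ?_)
  calc _ = O.poly (Fintype.card F) * ((Fintype.card F - 1) * Nat.card ↥Z) := by rw [h1]; ring
    _ = _ := by ring

end Cfsg.Lib.EDeg
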