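import Cfsg.Agent.Chev.EDeg.Move

/-! Counting the vectors fixed by successive radicals. -/

set_option autoImplicit false
set_option linter.unusedSectionVars false

open Cfsg.Lie
open Cfsg.Lib.Chev
open Cfsg.Lib.TwDeg (act_ne_zero)

namespace Cfsg.Lib.EDeg

/-- A cell: its leading root, the roots with zero phase, a Weyl word reaching it from a fundamental root, that root's
node, a node for the torus, and the translations. -/
structure Cell where
  /-- the leading root -/
  gam : ℕ
  /-- zero phases -/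
  zm : ℕ
  /-- the word -/
  word : List ℕ
  /-- the fundamental node -/
  k : ℕ
  /-- the torus node -/
  node : ℕ
  /-- translations -/
  rs : List (ℕ × ℕ)

/-- A step: the roots fixed so far, the new roots, their union, and the cells. -/
structure Step where
  /-- roots fixed so far -/
  pre : ℕ
  /-- new roots -/
  new : List ℕ
  /-- the union -/
  all : ℕ
  /-- the cells -/
  cells : List Cell

/-- The size of a list of cells. -/
def cellsSum (q : ℕ) (L : List Cell) : ℕ := (L.map fun c => (q - 1) * q ^ c.rs.length).sum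

/-- The size of the steps. -/
def stepsSum (q : ℕ) (L : List Step) : ℕ := (L.map fun s => cellsSum q s.cells).sum

section tables

variable (D : ChevalleyDatum) (C : Cert)

/-- Checks on a cell. -/
noncomputable def okCell (P pre all : ℕ) (W : List ℕ) (done : List ℕ) (c : Cell) : Bool :=
  W.elem c.gam && Nat.blt c.k D.rank && Nat.blt c.node D.rank &&
  (decide (D.cartan c.node c.gam = 1) || decide (D.cartan c.node c.gam = -1)) &&
  okLe D c.zm all && okLe D pre c.zm && !bit c.zm c.gam && kall (fun d => bit c.zm d) done &&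
  okW D C c.word P all && Nat.beq (sig C c.word c.gam) (C.sr c.k) &&
  kall (fun δ => !bit all δ || Nat.beq δ c.gam || !Nat.beq (sig C c.word δ) (C.sr c.k)) (krange 0 D.nroots) &&
  okRs D all c.zm c.gam c.rs

/-- Checks on the cells of a step. -/
noncomputable def okCells (P pre all : ℕ) (W : List ℕ) (L : List Cell) : List ℕ → Bool :=
  @List.rec Cell (fun _ => List ℕ → Bool) (fun _ => true)
    (fun c _ ih done => okCell D C P pre all W done c && ih (c.gam :: done)) L

/-- Checks on the steps. -/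
noncomputable def okSteps (P : ℕ) (L : List Step) : ℕ → Bool :=
  @List.rec Step (fun _ => ℕ → Bool) (fun _ => true)
    (fun s _ ih m => Nat.beq s.pre m && okSplit D m m s.new s.all && okCells D C P m s.all s.new s.cells [] &&
      ih s.all) L

end tables

theorem okW_sig {D : ChevalleyDatum} {C : Cert} {L : List ℕ} {src dst : ℕ} (h : okW D C L src dst = true) {δ : ℕ}
    (hδ : Mem D dst δ) : Mem D src (sig C L δ) := by
  simp only [okW, Bool.and_eq_true, kall_iff, Bool.or_eq_true, Bool.not_eq_true', Nat.blt, Nat.ble_eq] at h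
  obtain ⟨⟨a, b⟩, -⟩ := (h.2 δ (mem_krange0 hδ.1)).resolve_left (by simp [hδ.2])
  exact ⟨b, a⟩

variable {D : ChevalleyDatum} {C : Cert} (E : Env D C) {F : Type*} [Field F] [Fintype F] {V : Type*}
  [AddCommGroup V] [Module ℂ V] [FiniteDimensional ℂ V] {φ : ↥(D.group F) →* Module.End ℂ V}

/-- A vector on which exactly one fundamental root subgroup acts non-trivially among the positive ones. -/
def SimpleVec (φ : ↥(D.group F) →* Module.End ℂ V) (P : ℕ) (k : ℕ) : Prop :=
  ∃ w : ℕ → F, (∀ δ, Mem D P δ → δ ≠ C.sr k → w δ = 0) ∧ w (C.sr k) ≠ 0 ∧ ES E φ (Mem D P) w ≠ ⊥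

theorem cellsUnion {P pre all : ℕ} {W : List ℕ} (hun : ∀ δ, Un W (Mem D pre) δ ↔ Mem D all δ)
    (hU : ∀ k < D.rank, SimpleVec E φ P k) :
    ∀ (L : List Cell) (done : List ℕ), okCells D C P pre all W L done = true → (∀ d ∈ done, d ∈ W) →
      ∃ S : Finset (ℕ → F), S.card = cellsSum (Fintype.card F) L ∧
        ∀ f ∈ S, (∀ δ, Mem D pre δ → f δ = 0) ∧ (∀ δ ∈ done, f δ = 0) ∧ (∃ δ ∈ W, f δ ≠ 0) ∧
          nrm (D := D) all f = f ∧ ES E φ (Mem D all) f ≠ ⊥ := by
  classical
  intro L
  induction L with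
  | nil => exact fun _ _ _ => ⟨∅, rfl, by simp⟩
  | cons c L ih =>
    intro done hok hdone
    replace hok : (okCell D C P pre all W done c && okCells D C P pre all W L (c.gam :: done)) = true := hok
    simp only [okCell, Bool.and_eq_true, Bool.or_eq_true, decide_eq_true_eq, Nat.blt, Nat.ble_eq, kall_iff,
      Bool.not_eq_true', List.elem_eq_mem] at hok
    obtain ⟨⟨⟨⟨⟨⟨⟨⟨⟨⟨⟨⟨hgW, hk⟩, hnode⟩, hcart⟩, hzall⟩, hprez⟩, hzg⟩, hdz⟩, hW⟩, hsg⟩, hsd⟩, hrs⟩, hrest⟩ := hok
    have hgam : Mem D all c.gam := (hun c.gam).1 (Or.inl hgW)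
    obtain ⟨w, hw0, hwk, hne⟩ := hU c.k hk
    obtain ⟨n, κ, hκ, hn⟩ := wey E (φ := φ) hW
    obtain ⟨v, hv, hv0⟩ := Submodule.exists_mem_ne_zero_of_ne_bot hne
    have hz : ∀ δ, Mem D c.zm δ → κ δ * w (sig C c.word δ) = 0 := fun δ hδ => by
      have hall := okLe_spec hzall hδ
      rw [hw0 _ ?_ ?_, mul_zero]
      · exact okW_sig hW hall
      · intro e
        rcases hsd δ (mem_krange0 hall.1) with (h | h) | h
        · exact absurd hall.2 (by simp [h])
        · rw [Nat.eq_of_beq_eq_true h] at hδ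
          exact absurd hδ.2 (by simp [hzg])
        · exact absurd e (Nat.ne_of_beq_eq_false h)
    obtain ⟨S1, hc1, hS1⟩ := cellSet E (φ := φ) hrs (fun δ h => okLe_spec hzall h) hgam ⟨c.node, hnode⟩ hcart hz
      (mul_ne_zero (hκ _ hgam) (by rw [Nat.eq_of_beq_eq_true hsg]; exact hwk))
      ((Submodule.ne_bot_iff _).2 ⟨_, hn w v hv, act_ne_zero φ n hv0⟩)
    obtain ⟨S2, hc2, hS2⟩ := ih (c.gam :: done) hrest fun d hd =>
      (List.mem_cons.1 hd).elim (fun e => e ▸ hgW) (hdone d)
    have hdis : Disjoint S1 S2 := Finset.disjoint_left.2 fun f h1 h2 =>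
      (hS1 f h1).2.1 ((hS2 f h2).2.1 _ List.mem_cons_self)
    refine ⟨S1 ∪ S2, ?_, fun f hf => ?_⟩
    · rw [Finset.card_union_of_disjoint hdis, hc1, hc2]
      simp [cellsSum]
    · rcases Finset.mem_union.1 hf with hf | hf
      · obtain ⟨a, b, c', d⟩ := hS1 f hf
        exact ⟨fun δ hδ => a δ (okLe_spec hprez hδ),
          fun δ hδ => a δ ⟨((hun δ).1 (Or.inl (hdone δ hδ))).1, hdz δ hδ⟩, ⟨c.gam, hgW, b⟩, c', d⟩
      · obtain ⟨a, b, c', d⟩ := hS2 f hf
        exact ⟨a, fun δ hδ => b δ (List.mem_cons_of_mem _ hδ), c', d⟩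

theorem step_le {P m m' : ℕ} {W : List ℕ} {L : List Cell} (hsp : okSplit D m m W m' = true)
    (hL : okCells D C P m m' W L [] = true) (hU : ∀ k < D.rank, SimpleVec E φ P k) :
    cellsSum (Fintype.card F) L + Module.finrank ℂ ↥(ES E φ (Mem D m') fun _ => (0 : F)) ≤
      Module.finrank ℂ ↥(ES E φ (Mem D m) fun _ => (0 : F)) := by
  classical
  obtain ⟨hso, hun⟩ := okSplit_spec E (F := F) (w := fun _ => (0 : F)) hsp fun _ _ => rfl
  obtain ⟨S, hc, hS⟩ := cellsUnion E hun hU L [] hL (by simp)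
  have h0 : (fun _ => (0 : F)) ∉ S := fun h => by
    obtain ⟨δ, -, hδ⟩ := (hS _ h).2.2.1
    exact hδ rfl
  have h := split_ge E (φ := φ) W (Mem D m) (fun _ => 0) hso (insert (fun _ => 0) S) ?_ ?_
  · rw [Finset.sum_insert h0, ES_congr E (R := Un W (Mem D m)) (R' := Mem D m') (w' := fun _ => (0 : F)) hun
      fun _ _ => rfl] at h
    have hsum : S.card ≤ ∑ f ∈ S, Module.finrank ℂ ↥(ES E φ (Un W (Mem D m)) f) := by
      rw [Finset.card_eq_sum_ones]
      refine Finset.sum_le_sum fun f hf => Nat.one_le_iff_ne_zero.2 fun e => (hS f hf).2.2.2.2 ?_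
      rw [← Submodule.finrank_eq_zero.1 e]
      exact ES_congr E (fun δ => (hun δ).symm) fun _ _ => rfl
    omega
  · intro f hf δ hδ
    rcases Finset.mem_insert.1 hf with rfl | hf
    · rfl
    · exact (hS f hf).1 δ hδ
  · intro f hf f' hf' heq
    have hfix : ∀ f ∈ insert (fun _ => (0 : F)) S, nrm (D := D) m' f = f := fun f hf => by
      rcases Finset.mem_insert.1 hf with rfl | hf
      · funext δ; simp [nrm]
      · exact (hS f hf).2.2.2.1
    have hpre : ∀ f ∈ insert (fun _ => (0 : F)) S, ∀ δ, Mem D m δ → f δ = 0 := fun f hf δ hδ => by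
      rcases Finset.mem_insert.1 hf with rfl | hf
      · rfl
      · exact (hS f hf).1 δ hδ
    rw [← hfix f hf, ← hfix f' hf']
    funext δ
    by_cases hδ : Mem D m' δ
    · rw [nrm_mem f hδ, nrm_mem f' hδ]
      rcases (hun δ).2 hδ with h' | h'
      · exact heq δ h'
      · rw [hpre f hf δ h', hpre f' hf' δ h']
    · simp [nrm, hδ]

theorem count {P : ℕ} (hU : ∀ k < D.rank, SimpleVec E φ P k) :
    ∀ (L : List Step) (m : ℕ), okSteps D C P L m = true →
      stepsSum (Fintype.card F) L ≤ Module.finrank ℂ ↥(ES E φ (Mem D m) fun _ => (0 : F)) := by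
  intro L
  induction L with
  | nil => exact fun _ _ => Nat.zero_le _
  | cons s L ih =>
    intro m hok
    replace hok : (Nat.beq s.pre m && okSplit D m m s.new s.all && okCells D C P m s.all s.new s.cells [] &&
      okSteps D C P L s.all) = true := hok
    simp only [Bool.and_eq_true] at hok
    obtain ⟨⟨⟨-, hsp⟩, hc⟩, hrest⟩ := hok
    have h1 := step_le E hsp hc hU
    have h2 := ih s.all hrest
    simp only [stepsSum, List.map_cons, List.sum_cons] at h2 ⊢
    omega

end Cfsg.Lib.EDeg
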