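import Cfsg.Agent.Chev.EDeg.Top

/-! The combinatorial data of type E6 for the minimal degree. -/

set_option autoImplicit false

open Cfsg.Lie
open Cfsg.Lib.Chev

namespace Cfsg.Lib.EDeg.E6

/-- The data at the highest root. -/
def top : Top where
  sn := 1
  th := 71
  g0 := 70
  up := [(70, 46), (69, 47), (68, 48), (67, 49), (66, 50), (65, 51), (64, 52), (55, 61), (54, 62), (53, 63)]
  am := 4703982789190718849024
  low := [46, 47, 48, 49, 50, 51, 52, 61, 62, 63]
  ph := 4720132627085725270016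
  pos := 4722366482800925736960
  rs := [(39, 69), (40, 68), (41, 67), (43, 66), (44, 65), (45, 64), (58, 55), (59, 54), (60, 53)]
  r0 := [14, 15, 29, 33, 34, 35, 36, 37, 38, 42, 56, 57]
  van := [(47, 14, 61), (48, 14, 62), (49, 14, 63), (50, 15, 61), (51, 15, 62), (52, 15, 63), (61, 33, 63), (62, 35, 63), (63, 36, 62)]
  nb := (32, 47)
  w0 := [3, 4, 5, 2, 3, 4, 0, 2, 3]
  wb := [3, 2, 0, 4, 3, 2, 5, 4, 3]
  s2 := [14, 15, 29, 33, 34, 35, 36, 37, 38, 39, 40, 41, 42, 43, 44, 45, 56, 57, 58, 59, 60]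
  tri := [(36, 34, 38), (37, 35, 38), (38, 36, 37), (39, 14, 58), (40, 14, 59), (41, 14, 60), (42, 15, 57), (43, 15, 58), (44, 15, 59), (45, 15, 60), (56, 29, 57), (57, 42, 56), (58, 33, 60), (59, 35, 60), (60, 36, 59)]
  tree := [(1, 3, 4722366271144937390080, 47), (3, 2, 4722366469057030389760, 43), (3, 4, 4722366481014219341824, 40), (2, 0, 4722150305620765442048, 57), (4, 5, 4722366482319889399808, 38)]

/-- A step. -/
def step0 : Step where
  pre := 2361183241434822606848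
  new := [70, 69, 68, 67, 66, 65, 64, 63, 62, 61, 55, 54, 53, 52, 51, 50, 49, 48, 47, 46]
  all := 4720132627085725270016
  cells := [
    ⟨70, 2361183241434822606848, [3, 4, 5, 2, 3, 4, 0, 2, 3], 1, 1, [(39, 69), (40, 68), (41, 67), (43, 66), (44, 65), (45, 64), (58, 55), (59, 54), (60, 53)]⟩,
    ⟨69, 3541774862152233910272, [4, 5, 2, 3, 4, 0, 2, 3], 1, 2, [(37, 68), (38, 67), (42, 66), (44, 63), (45, 62), (57, 55), (59, 52), (60, 51)]⟩,
    ⟨68, 4132070672510939561984, [5, 2, 3, 4, 0, 2, 3], 1, 2, [(36, 67), (42, 65), (43, 63), (45, 61), (57, 54), (58, 52), (60, 50)]⟩,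
    ⟨67, 4427218577690292387840, [2, 3, 4, 0, 2, 3], 1, 2, [(42, 64), (43, 62), (44, 61), (57, 53), (58, 51), (59, 50)]⟩,
    ⟨66, 4574792530279968800768, [4, 5, 3, 4, 0, 2, 3], 1, 0, [(37, 65), (38, 64), (40, 63), (41, 62), (56, 55), (59, 49), (60, 48)]⟩,
    ⟨65, 4648579506574807007232, [5, 3, 4, 0, 2, 3], 1, 0, [(36, 64), (39, 63), (41, 61), (56, 54), (58, 49), (60, 47)]⟩,
    ⟨64, 4685472994722226110464, [3, 4, 0, 2, 3], 1, 0, [(39, 62), (40, 61), (56, 53), (58, 48), (59, 47)]⟩,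
    ⟨63, 4703919738795935662080, [5, 4, 0, 2, 3], 1, 0, [(36, 62), (38, 61), (56, 52), (57, 49), (60, 46)]⟩,
    ⟨62, 4713143110832790437888, [4, 0, 2, 3], 1, 0, [(37, 61), (56, 51), (57, 48), (59, 46)]⟩,
    ⟨61, 4717754796851217825792, [0, 2, 3], 1, 0, [(56, 50), (57, 47), (58, 46)]⟩,
    ⟨55, 4720060639860431519744, [4, 5, 3, 4, 2, 3], 1, 0, [(37, 54), (38, 53), (40, 52), (41, 51), (44, 49), (45, 48)]⟩,
    ⟨54, 4720096668657450483712, [5, 3, 4, 2, 3], 1, 0, [(36, 53), (39, 52), (41, 50), (43, 49), (45, 47)]⟩,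
    ⟨53, 4720114683055959965696, [3, 4, 2, 3], 1, 0, [(39, 51), (40, 50), (43, 48), (44, 47)]⟩,
    ⟨52, 4720123690255214706688, [5, 4, 2, 3], 1, 0, [(36, 51), (38, 50), (42, 49), (45, 46)]⟩,
    ⟨51, 4720128193854842077184, [4, 2, 3], 1, 0, [(37, 50), (42, 48), (44, 46)]⟩,
    ⟨50, 4720130445654655762432, [2, 3], 1, 0, [(42, 47), (43, 46)]⟩,
    ⟨49, 4720131571554562605056, [5, 4, 3], 1, 1, [(36, 48), (38, 47), (41, 46)]⟩,
    ⟨48, 4720132134504516026368, [4, 3], 1, 1, [(37, 47), (40, 46)]⟩,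
    ⟨47, 4720132415979492737024, [3], 1, 1, [(39, 46)]⟩,
    ⟨46, 4720132556716981092352, [], 1, 3, []⟩]

/-- A step. -/
def step1 : Step where
  pre := 4720132627085725270016
  new := [60, 59, 58, 57, 56]
  all := 4722366412500901036032
  cells := [
    ⟨60, 4720132627085725270016, [5, 4, 3, 2], 0, 0, [(36, 59), (38, 58), (41, 57), (45, 56)]⟩,
    ⟨59, 4721285548590332116992, [4, 3, 2], 0, 0, [(37, 58), (40, 57), (44, 56)]⟩,
    ⟨58, 4721862009342635540480, [3, 2], 0, 0, [(39, 57), (43, 56)]⟩,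
    ⟨57, 4722150239718787252224, [2], 0, 0, [(42, 56)]⟩,
    ⟨56, 4722294354906863108096, [], 0, 2, []⟩]

/-- A step. -/
def step2 : Step where
  pre := 4722366412500901036032
  new := [45, 44, 43, 42]
  all := 4722366478471598702592
  cells := [
    ⟨45, 4722366412500901036032, [5, 4, 3], 2, 0, [(36, 44), (38, 43), (41, 42)]⟩,
    ⟨44, 4722366447685273124864, [4, 3], 2, 0, [(37, 43), (40, 42)]⟩,
    ⟨43, 4722366465277459169280, [3], 2, 0, [(39, 42)]⟩,
    ⟨42, 4722366474073552191488, [], 2, 0, []⟩]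

/-- A step. -/
def step3 : Step where
  pre := 4722366478471598702592
  new := [41, 40, 39]
  all := 4722366482319889399808
  cells := [
    ⟨41, 4722366478471598702592, [5, 4], 3, 1, [(36, 40), (38, 39)]⟩,
    ⟨40, 4722366480670621958144, [4], 3, 1, [(37, 39)]⟩,
    ⟨39, 4722366481770133585920, [], 3, 1, []⟩]

/-- A step. -/
def step4 : Step where
  pre := 4722366482319889399808
  new := [38, 37]
  all := 4722366482732206260224
  cells := [
    ⟨38, 4722366482319889399808, [5], 4, 3, [(36, 37)]⟩,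
    ⟨37, 4722366482594767306752, [], 4, 3, []⟩]

/-- A step. -/
def step5 : Step where
  pre := 4722366482732206260224
  new := [36]
  all := 4722366482800925736960
  cells := [
    ⟨36, 4722366482732206260224, [], 5, 4, []⟩]

/-- The steps. -/
def steps : List Step := [step0, step1, step2, step3, step4, step5]

theorem okOne : Cfsg.Lib.EDeg.okOne chevE6 = true := by decide +kernel

theorem env : Env chevE6 Cfsg.Lib.Chev.E6.cert := ⟨Cfsg.Lib.Chev.E6.struct, okNeg_E6, okOne⟩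

theorem okA : top.okA chevE6 Cfsg.Lib.Chev.E6.cert = true := by decide +kernel

theorem okH : top.okH chevE6 Cfsg.Lib.Chev.E6.cert = true := by decide +kernel

theorem okL : top.okL chevE6 Cfsg.Lib.Chev.E6.cert = true := by decide +kernel

theorem okSteps : Cfsg.Lib.EDeg.okSteps chevE6 Cfsg.Lib.Chev.E6.cert top.pos steps top.tm = true := by decide +kernel

end Cfsg.Lib.EDeg.E6
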