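import Mathlib

/-! Degrees just below the bound are excluded by divisibility. -/

set_option autoImplicit false

namespace Cfsg.Lib.EDeg

/-- A divisor of `q^n * Y` congruent to `-j` modulo the prime power `q > j` divides `j * Y`. -/
theorem dvd_mul_of_coprime {q k j n Y : ℕ} (hq : IsPrimePow q) (hj0 : 0 < j) (hjq : j < q) (hdvd : q ∣ k + j)
    (h : k ∣ q ^ n * Y) : k ∣ j * Y := by
  obtain ⟨p, m, hp, hm, rfl⟩ := hq
  rw [← pow_mul] at h
  have hp' : Nat.Prime p := Nat.prime_iff.2 hp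
  obtain ⟨f, -, hf⟩ := (Nat.dvd_prime_pow hp').1 (Nat.gcd_dvd_right k (p ^ (m * n)))
  have hfk : p ^ f ∣ k := hf ▸ Nat.gcd_dvd_left _ _
  have hfm : f < m := by
    by_contra hc
    have h1 : p ^ m ∣ k := dvd_trans (pow_dvd_pow p (by omega)) hfk
    have h2 : p ^ m ∣ j := (Nat.dvd_add_right h1).1 hdvd
    exact absurd (Nat.le_of_dvd hj0 h2) (by omega)
  have hfj : p ^ f ∣ j := (Nat.dvd_add_right hfk).1 (dvd_trans (pow_dvd_pow p hfm.le) hdvd)
  have h3 : k ∣ Nat.gcd k (p ^ (m * n)) * Y := by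
    rw [← Nat.gcd_mul_right]
    exact Nat.dvd_gcd (dvd_mul_right k Y) h
  rw [hf] at h3
  exact h3.trans (Nat.mul_dvd_mul_right hfj Y)

/-- The degrees just below the bound in type E₆. -/
theorem no_degree_E6 {q k j : ℕ} (hq : IsPrimePow q) (hj : 1 ≤ j) (hj6 : j ≤ 6)
    (hk : k + j = q * ((q ^ 6 + q ^ 3 + 1) * (q ^ 4 + 1))) :
    ¬ k ∣ (q ^ 12 - 1) * ((q ^ 6 + q ^ 3 + 1) * (q ^ 4 + 1)) * q ^ 11 := by
  intro h
  rcases Nat.lt_or_ge q 9 with hs | hs
  · have h2 := hq.two_le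
    have key : ∀ q < 9, 2 ≤ q → ∀ j < 7, 1 ≤ j →
        ((q ^ 12 - 1) * ((q ^ 6 + q ^ 3 + 1) * (q ^ 4 + 1)) * q ^ 11) %
          (q * ((q ^ 6 + q ^ 3 + 1) * (q ^ 4 + 1)) - j) ≠ 0 := by decide +kernel
    refine key q hs h2 j (by omega) hj ?_
    rw [← hk, Nat.add_sub_cancel]
    exact Nat.mod_eq_zero_of_dvd h
  · set M := (q ^ 6 + q ^ 3 + 1) * (q ^ 4 + 1) with hM
    have h1 : k ∣ q ^ 10 * (j * (q ^ 12 - 1)) := by
      have e : (q ^ 12 - 1) * M * q ^ 11 = k * (q ^ 10 * (q ^ 12 - 1)) + q ^ 10 * (j * (q ^ 12 - 1)) := by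
        calc (q ^ 12 - 1) * M * q ^ 11 = q ^ 10 * (q ^ 12 - 1) * (q * M) := by ring
          _ = _ := by rw [← hk]; ring
      rw [e] at h
      exact (Nat.dvd_add_right (dvd_mul_right k _)).1 h
    have h2 := dvd_mul_of_coprime hq hj (by omega) ⟨M, hk⟩ h1
    -- reduce modulo `k`
    set R := q ^ 9 + q ^ 8 + q ^ 6 + q ^ 5 + q ^ 2 + 1 with hR
    have hqR : q * j + 1 ≤ R := by
      have : q * j ≤ q * q := Nat.mul_le_mul_left _ (by omega)
      rw [hR, pow_two]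
      omega
    have e2 : (q ^ 12 - 1) + (R - q * j) = q * k := by
      have e3 : q ^ 12 + (q ^ 9 + q ^ 8 + q ^ 6 + q ^ 5 + q ^ 2) = q * (q * M) := by rw [hM]; ring
      have e4 : 1 ≤ q ^ 12 := Nat.one_le_pow _ _ (by omega)
      rw [← hk, mul_add] at e3
      omega
    have h3 : k ∣ j * (j * (R - q * j)) := by
      have hs' : k ∣ j * (j * (q ^ 12 - 1)) + j * (j * (R - q * j)) := by
        rw [← mul_add, ← mul_add, e2]
        exact ⟨j * (j * q), by ring⟩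
      exact (Nat.dvd_add_right h2).1 hs'
    have hpos : 0 < j * (j * (R - q * j)) := by
      have h4 : 0 < R - q * j := by omega
      positivity
    have hle := Nat.le_of_dvd hpos h3
    have hb : j * (j * (R - q * j)) ≤ 36 * R := by
      calc j * (j * (R - q * j)) ≤ 6 * (6 * R) := by
            exact Nat.mul_le_mul hj6 (Nat.mul_le_mul hj6 (Nat.sub_le _ _))
        _ = 36 * R := by ring
    have hR2 : R ≤ 2 * q ^ 9 := by
      have hq' : 6 ≤ q := by omega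
      have a0 : 6 * q ^ 8 ≤ q ^ 9 := by rw [pow_succ' q 8]; exact Nat.mul_le_mul_right _ hq'
      have a1 : q ^ 6 ≤ q ^ 8 := Nat.pow_le_pow_right (by omega) (by omega)
      have a2 : q ^ 5 ≤ q ^ 8 := Nat.pow_le_pow_right (by omega) (by omega)
      have a3 : q ^ 2 ≤ q ^ 8 := Nat.pow_le_pow_right (by omega) (by omega)
      have a4 : 1 ≤ q ^ 8 := Nat.one_le_pow _ _ (by omega)
      omega
    have hT : q ^ 11 ≤ q * M := by rw [hM]; ring_nf; omega
    have h81 : 81 * q ^ 9 ≤ q ^ 11 := by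
      rw [show q ^ 11 = q ^ 2 * q ^ 9 by ring]
      exact Nat.mul_le_mul_right _ (by nlinarith)
    have : 1 ≤ q ^ 9 := Nat.one_le_pow _ _ (by omega)
    omega

/-- The degrees just below the bound in type E₈. -/
theorem no_degree_E8 {q k j : ℕ} (hq : IsPrimePow q) (hj : 1 ≤ j) (hj8 : j ≤ 8)
    (hk : k + j = q * ((q ^ 12 + 1) * (q ^ 10 + 1) * (q ^ 6 + 1))) :
    ¬ k ∣ (q ^ 30 - 1) * ((q ^ 12 + 1) * (q ^ 10 + 1) * (q ^ 6 + 1)) * q ^ 29 := by
  intro h
  rcases Nat.lt_or_ge q 9 with hs | hs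
  · have h2 := hq.two_le
    have key : ∀ q < 9, 2 ≤ q → ∀ j < 9, 1 ≤ j →
        ((q ^ 30 - 1) * ((q ^ 12 + 1) * (q ^ 10 + 1) * (q ^ 6 + 1)) * q ^ 29) %
          (q * ((q ^ 12 + 1) * (q ^ 10 + 1) * (q ^ 6 + 1)) - j) ≠ 0 := by decide +kernel
    refine key q hs h2 j (by omega) hj ?_
    rw [← hk, Nat.add_sub_cancel]
    exact Nat.mod_eq_zero_of_dvd h
  · set M := (q ^ 12 + 1) * (q ^ 10 + 1) * (q ^ 6 + 1) with hM
    have h1 : k ∣ q ^ 28 * (j * (q ^ 30 - 1)) := by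
      have e : (q ^ 30 - 1) * M * q ^ 29 = k * (q ^ 28 * (q ^ 30 - 1)) + q ^ 28 * (j * (q ^ 30 - 1)) := by
        calc (q ^ 30 - 1) * M * q ^ 29 = q ^ 28 * (q ^ 30 - 1) * (q * M) := by ring
          _ = _ := by rw [← hk]; ring
      rw [e] at h
      exact (Nat.dvd_add_right (dvd_mul_right k _)).1 h
    have h2 := dvd_mul_of_coprime hq hj (by omega) ⟨M, hk⟩ h1
    set R := q ^ 24 + q ^ 20 + q ^ 18 + q ^ 14 + q ^ 12 + q ^ 8 + q ^ 2 + 1 with hR
    have hqR : q * j + 1 ≤ R := by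
      have : q * j ≤ q * q := Nat.mul_le_mul_left _ (by omega)
      rw [hR, pow_two]
      omega
    have e2 : (q ^ 30 - 1) + (R - q * j) = q * k := by
      have e3 : q ^ 30 + (q ^ 24 + q ^ 20 + q ^ 18 + q ^ 14 + q ^ 12 + q ^ 8 + q ^ 2) = q * (q * M) := by
        rw [hM]; ring
      have e4 : 1 ≤ q ^ 30 := Nat.one_le_pow _ _ (by omega)
      rw [← hk, mul_add] at e3
      omega
    have h3 : k ∣ j * (j * (R - q * j)) := by
      have hs' : k ∣ j * (j * (q ^ 30 - 1)) + j * (j * (R - q * j)) := by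
        rw [← mul_add, ← mul_add, e2]
        exact ⟨j * (j * q), by ring⟩
      exact (Nat.dvd_add_right h2).1 hs'
    have hpos : 0 < j * (j * (R - q * j)) := by
      have h4 : 0 < R - q * j := by omega
      positivity
    have hle := Nat.le_of_dvd hpos h3
    have hb : j * (j * (R - q * j)) ≤ 64 * R := by
      calc j * (j * (R - q * j)) ≤ 8 * (8 * R) := by
            exact Nat.mul_le_mul hj8 (Nat.mul_le_mul hj8 (Nat.sub_le _ _))
        _ = 64 * R := by ring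
    have hR2 : R ≤ 2 * q ^ 24 := by
      have hq' : 7 ≤ q := by omega
      have a0 : 7 * q ^ 23 ≤ q ^ 24 := by rw [pow_succ' q 23]; exact Nat.mul_le_mul_right _ hq'
      have a1 : q ^ 20 ≤ q ^ 23 := Nat.pow_le_pow_right (by omega) (by omega)
      have a2 : q ^ 18 ≤ q ^ 23 := Nat.pow_le_pow_right (by omega) (by omega)
      have a3 : q ^ 14 ≤ q ^ 23 := Nat.pow_le_pow_right (by omega) (by omega)
      have a4 : q ^ 12 ≤ q ^ 23 := Nat.pow_le_pow_right (by omega) (by omega)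
      have a5 : q ^ 8 ≤ q ^ 23 := Nat.pow_le_pow_right (by omega) (by omega)
      have a6 : q ^ 2 ≤ q ^ 23 := Nat.pow_le_pow_right (by omega) (by omega)
      have a7 : 1 ≤ q ^ 23 := Nat.one_le_pow _ _ (by omega)
      omega
    have hT : q ^ 29 ≤ q * M := by rw [hM]; ring_nf; omega
    have h81 : 59049 * q ^ 24 ≤ q ^ 29 := by
      rw [show q ^ 29 = q ^ 5 * q ^ 24 by ring]
      exact Nat.mul_le_mul_right _ (le_trans (by norm_num) (Nat.pow_le_pow_left hs 5))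
    have : 1 ≤ q ^ 24 := Nat.one_le_pow _ _ (by omega)
    omega

end Cfsg.Lib.EDeg
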