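import Cfsg.Agent.Chev.EDeg.Class

/-! The orbit of the highest root of type E6. -/

set_option autoImplicit false

open Cfsg.Lie
open Cfsg.Lib.Chev

namespace Cfsg.Lib.EDeg.E6

/-- The orbit data. -/
def orb : Orb where
  th := 71
  sn := 1
  ph := 4720132627085725270016
  pos := 4722366482800925736960
  words := [
    [1, 3, 4, 2, 3, 0, 2, 1, 3, 4, 5, 4, 3, 2, 1, 3, 4, 0, 2, 3, 1],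
    [3, 4, 2, 3, 0, 2, 1, 3, 4, 5, 4, 3, 2, 1, 3, 4, 0, 2, 3, 1],
    [4, 2, 3, 0, 2, 1, 3, 4, 5, 4, 3, 2, 1, 3, 4, 0, 2, 3, 1],
    [2, 3, 0, 2, 1, 3, 4, 5, 4, 3, 2, 1, 3, 4, 0, 2, 3, 1],
    [2, 3, 0, 2, 1, 3, 4, 5, 3, 2, 1, 3, 4, 0, 2, 3, 1],
    [4, 3, 0, 2, 1, 3, 4, 5, 4, 3, 2, 1, 3, 4, 0, 2, 3, 1],
    [3, 0, 2, 1, 3, 4, 5, 4, 3, 2, 1, 3, 4, 0, 2, 3, 1],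
    [3, 0, 2, 1, 3, 4, 5, 3, 2, 1, 3, 4, 0, 2, 3, 1],
    [0, 2, 1, 3, 4, 5, 4, 3, 2, 1, 3, 4, 0, 2, 3, 1],
    [0, 2, 1, 3, 4, 5, 3, 2, 1, 3, 4, 0, 2, 3, 1],
    [0, 2, 1, 3, 4, 5, 2, 1, 3, 4, 0, 2, 3, 1],
    [0, 2, 3, 4, 5, 4, 3, 2, 1, 3, 4, 0, 2, 3, 1],
    [0, 2, 3, 4, 5, 3, 2, 1, 3, 4, 0, 2, 3, 1],
    [0, 2, 3, 4, 5, 2, 1, 3, 4, 0, 2, 3, 1],
    [0, 2, 3, 4, 5, 1, 3, 4, 0, 2, 3, 1],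
    [0, 2, 3, 4, 5, 1, 3, 4, 2, 3, 1],
    [4, 3, 2, 1, 3, 4, 5, 4, 3, 2, 1, 3, 4, 0, 2, 3, 1],
    [3, 2, 1, 3, 4, 5, 4, 3, 2, 1, 3, 4, 0, 2, 3, 1],
    [3, 2, 1, 3, 4, 5, 3, 2, 1, 3, 4, 0, 2, 3, 1],
    [2, 1, 3, 4, 5, 4, 3, 2, 1, 3, 4, 0, 2, 3, 1],
    [2, 1, 3, 4, 5, 3, 2, 1, 3, 4, 0, 2, 3, 1],
    [2, 1, 3, 4, 5, 2, 1, 3, 4, 0, 2, 3, 1],
    [1, 3, 4, 5, 4, 3, 2, 1, 3, 4, 0, 2, 3, 1],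
    [1, 3, 4, 5, 3, 2, 1, 3, 4, 0, 2, 3, 1],
    [1, 3, 4, 5, 2, 1, 3, 4, 0, 2, 3, 1],
    [1, 3, 4, 5, 2, 3, 4, 0, 2, 3, 1],
    [2, 3, 4, 5, 4, 3, 2, 1, 3, 4, 0, 2, 3, 1],
    [2, 3, 4, 5, 3, 2, 1, 3, 4, 0, 2, 3, 1],
    [2, 3, 4, 5, 2, 1, 3, 4, 0, 2, 3, 1],
    [2, 3, 4, 5, 1, 3, 4, 0, 2, 3, 1],
    [3, 4, 5, 4, 3, 2, 1, 3, 4, 0, 2, 3, 1],
    [3, 4, 5, 3, 2, 1, 3, 4, 0, 2, 3, 1],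
    [3, 4, 5, 2, 1, 3, 4, 0, 2, 3, 1],
    [4, 5, 4, 3, 2, 1, 3, 4, 0, 2, 3, 1],
    [4, 5, 3, 2, 1, 3, 4, 0, 2, 3, 1],
    [5, 4, 3, 2, 1, 3, 4, 0, 2, 3, 1],
    [4, 3, 2, 1, 3, 4, 0, 2, 3, 1],
    [5, 3, 2, 1, 3, 4, 0, 2, 3, 1],
    [3, 2, 1, 3, 4, 0, 2, 3, 1],
    [4, 5, 2, 1, 3, 4, 0, 2, 3, 1],
    [5, 2, 1, 3, 4, 0, 2, 3, 1],
    [2, 1, 3, 4, 0, 2, 3, 1],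
    [3, 4, 5, 1, 3, 4, 0, 2, 3, 1],
    [4, 5, 1, 3, 4, 0, 2, 3, 1],
    [5, 1, 3, 4, 0, 2, 3, 1],
    [1, 3, 4, 0, 2, 3, 1],
    [3, 4, 5, 2, 3, 4, 0, 2, 3, 1],
    [4, 5, 2, 3, 4, 0, 2, 3, 1],
    [5, 2, 3, 4, 0, 2, 3, 1],
    [2, 3, 4, 0, 2, 3, 1],
    [4, 5, 3, 4, 0, 2, 3, 1],
    [5, 3, 4, 0, 2, 3, 1],
    [3, 4, 0, 2, 3, 1],
    [5, 4, 0, 2, 3, 1],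
    [4, 0, 2, 3, 1],
    [0, 2, 3, 1],
    [2, 3, 4, 5, 1, 3, 4, 2, 3, 1],
    [3, 4, 5, 1, 3, 4, 2, 3, 1],
    [4, 5, 1, 3, 4, 2, 3, 1],
    [5, 1, 3, 4, 2, 3, 1],
    [1, 3, 4, 2, 3, 1],
    [4, 5, 3, 4, 2, 3, 1],
    [5, 3, 4, 2, 3, 1],
    [3, 4, 2, 3, 1],
    [5, 4, 2, 3, 1],
    [4, 2, 3, 1],
    [2, 3, 1],
    [5, 4, 3, 1],
    [4, 3, 1],
    [3, 1],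
    [1],
    []]
  cnts := [21, 20, 19, 18, 17, 18, 17, 16, 16, 15, 14, 15, 14, 13, 12, 11, 17, 16, 15, 15, 14, 13, 14, 13, 12, 11, 14, 13, 12, 11, 13, 12, 11, 12, 11, 11, 10, 10, 9, 10, 9, 8, 10, 9, 8, 7, 10, 9, 8, 7, 8, 7, 6, 6, 5, 4, 10, 9, 8, 7, 6, 7, 6, 5, 5, 4, 3, 4, 3, 2, 1, 0]

theorem okOrb : orb.ok chevE6 Cfsg.Lib.Chev.E6.cert = true := by decide +kernel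

end Cfsg.Lib.EDeg.E6
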