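import Cfsg.Agent.Chev.EDeg.Final
import Cfsg.Agent.Chev.EDeg.DataE6
import Cfsg.Agent.Chev.EDeg.OrbE6
import Cfsg.Agent.Chev.EDeg.Numeric
import Cfsg.Agent.S1054

/-! The minimal degree for type E₆. -/

set_option autoImplicit false
set_option maxHeartbeats 2000000

open Cfsg.Lie

namespace Cfsg.Lib.EDeg.E6

theorem poly_eq (q : ℕ) :
    orb.poly q = (1 + q + q ^ 2 + q ^ 3 + q ^ 4 + q ^ 5 + q ^ 6 + q ^ 7 + q ^ 8 + q ^ 9 + q ^ 10 + q ^ 11) *
      ((q ^ 6 + q ^ 3 + 1) * (q ^ 4 + 1)) := by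
  simp only [Orb.poly, orb, List.map_cons, List.map_nil, List.sum_cons, List.sum_nil]
  ring

theorem big_bound {q : ℕ} (hq : 2 ≤ q) :
    q * (q ^ 6 + q ^ 3 + 1) * (q ^ 4 + 1) ≤ 2 * ((q - 1) * q ^ top.up.length) + (q - 1) * q ^ top.rs.length := by
  obtain ⟨p, rfl⟩ : ∃ p, q = p + 2 := ⟨q - 2, by omega⟩
  simp only [top, List.length_cons, List.length_nil, show p + 2 - 1 = p + 1 from rfl]
  ring_nf
  omega

theorem steps_bound {q : ℕ} (hq : 2 ≤ q) :
    q * (q ^ 6 + q ^ 3 + 1) * (q ^ 4 + 1) = (q - 1) * q ^ top.up.length + stepsSum q steps + 6 := by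
  zify
  simp only [top, List.length_cons, List.length_nil, stepsSum, cellsSum, steps, step0, step1, step2, step3, step4,
    step5, List.map_cons, List.map_nil, List.sum_cons, List.sum_nil]
  rw [← @Nat.cast_ofNat ℤ 6]
  push_cast [Nat.cast_sub (show 1 ≤ q by omega)]
  ring

theorem bound {F : Type*} [Field F] [Fintype F] (k : ℕ)
    (ρ : Representation ℂ (chevE6.group F) (Fin k → ℂ)) (hρ : ρ.IsIrreducible) (hk : 2 ≤ k) :
    Fintype.card F * (Fintype.card F ^ 6 + Fintype.card F ^ 3 + 1) * (Fintype.card F ^ 4 + 1) ≤ k := by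
  classical
  have hq : IsPrimePow (Fintype.card F) := Fintype.isPrimePow_card_of_field
  have hs : IsSimpleGroup ↥(chevE6.group F) :=
    (Cfsg.Lib.Chev.E6.struct.simple Cfsg.Lib.Chev.okNeg_E6 Cfsg.Lib.Chev.E6.irr Cfsg.Lib.Chev.opp_E6
      (Cfsg.Lib.Chev.E6.struct.commutator_eq_top Cfsg.Lib.Chev.E6.perfect (by simp)) (by decide)).1
  rcases dichotomy env ρ hρ hk hs top orb okA okH okL okSteps okOrb rfl with h | ⟨h1, h2⟩
  · exact le_trans (big_bound hq.two_le) h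
  · by_contra hlt
    have he := steps_bound hq.two_le
    obtain ⟨j, hj⟩ := Nat.exists_eq_add_of_lt (not_le.1 hlt)
    refine no_degree_E6 hq (k := k) (j := j + 1) (by omega) (by omega) (by rw [← mul_assoc]; omega) ?_
    rw [poly_eq] at h2
    set q := Fintype.card F
    have e : (q - 1) * (1 + q + q ^ 2 + q ^ 3 + q ^ 4 + q ^ 5 + q ^ 6 + q ^ 7 + q ^ 8 + q ^ 9 + q ^ 10 + q ^ 11) =
        q ^ 12 - 1 := by
      zify [hq.one_lt.le, Nat.one_le_pow 12 q (by have := hq.two_le; omega)]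
      ring
    rw [← mul_assoc (q - 1), e] at h2
    exact h2

end Cfsg.Lib.EDeg.E6
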