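import Cfsg.Agent.Chev.EDeg.Final
import Cfsg.Agent.Chev.EDeg.DataE8
import Cfsg.Agent.Chev.EDeg.OrbE8
import Cfsg.Agent.Chev.EDeg.Numeric
import Cfsg.Agent.S1054

/-! The minimal degree for type E₈. -/

set_option autoImplicit false
set_option maxHeartbeats 4000000
set_option maxRecDepth 20000

open Cfsg.Lie

namespace Cfsg.Lib.EDeg.E8

theorem poly_eq (q : ℕ) :
    orb.poly q = (1 + q + q ^ 2 + q ^ 3 + q ^ 4 + q ^ 5 + q ^ 6 + q ^ 7 + q ^ 8 + q ^ 9 + q ^ 10 + q ^ 11 + q ^ 12 + q ^ 13 + q ^ 14 + q ^ 15 + q ^ 16 + q ^ 17 + q ^ 18 + q ^ 19 + q ^ 20 + q ^ 21 + q ^ 22 + q ^ 23 + q ^ 24 + q ^ 25 + q ^ 26 + q ^ 27 + q ^ 28 + q ^ 29) *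
      ((q ^ 12 + 1) * (q ^ 10 + 1) * (q ^ 6 + 1)) := by
  simp only [Orb.poly, orb, List.map_cons, List.map_nil, List.sum_cons, List.sum_nil]
  ring

theorem big_bound {q : ℕ} (hq : 2 ≤ q) :
    q * (q ^ 12 + 1) * (q ^ 10 + 1) * (q ^ 6 + 1) ≤
      2 * ((q - 1) * q ^ top.up.length) + (q - 1) * q ^ top.rs.length := by
  simp only [top, List.length_cons, List.length_nil]
  have a1 : q ^ 23 ≤ q ^ 27 := Nat.pow_le_pow_right (by omega) (by omega)
  have a2 : ∀ i ≤ 19, q ^ i ≤ q ^ 19 := fun i hi => Nat.pow_le_pow_right (by omega) hi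
  have a3 : 16 * q ^ 19 ≤ q ^ 23 := by
    rw [show q ^ 23 = q ^ 4 * q ^ 19 by ring]
    exact Nat.mul_le_mul_right _ (le_trans (by norm_num) (Nat.pow_le_pow_left hq 4))
  obtain ⟨p, rfl⟩ : ∃ p, q = p + 2 := ⟨q - 2, by omega⟩
  rw [show p + 2 - 1 = p + 1 from rfl]
  set q := p + 2 with hqp
  have e : q * (q ^ 12 + 1) * (q ^ 10 + 1) * (q ^ 6 + 1) =
      q ^ 29 + q ^ 23 + q ^ 19 + q ^ 17 + q ^ 13 + q ^ 11 + q ^ 7 + q := by ring
  have e2 : 2 * ((p + 1) * q ^ 28) + (p + 1) * q ^ 27 = q ^ 29 + (p + 1) * q ^ 27 + p * q ^ 28 := by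
    rw [hqp]; ring
  have a4 : q ^ 27 ≤ (p + 1) * q ^ 27 := Nat.le_mul_of_pos_left _ (by omega)
  have a5 : 2 * q ^ 23 ≤ q ^ 27 := by
    rw [show q ^ 27 = q ^ 4 * q ^ 23 by ring]
    exact Nat.mul_le_mul_right _ (le_trans (by norm_num) (Nat.pow_le_pow_left hq 4))
  have := a2 17 (by norm_num)
  have := a2 13 (by norm_num)
  have := a2 11 (by norm_num)
  have := a2 7 (by norm_num)
  have := a2 1 (by norm_num)
  rw [pow_one] at *
  rw [e, e2]
  omega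

theorem steps_bound {q : ℕ} (hq : 2 ≤ q) :
    q * (q ^ 12 + 1) * (q ^ 10 + 1) * (q ^ 6 + 1) = (q - 1) * q ^ top.up.length + stepsSum q steps + 8 := by
  zify
  simp only [top, List.length_cons, List.length_nil, stepsSum, cellsSum, steps, step0, step1, step2, step3, step4,
    step5, step6, step7, List.map_cons, List.map_nil, List.sum_cons, List.sum_nil]
  rw [← @Nat.cast_ofNat ℤ 8]
  push_cast [Nat.cast_sub (show 1 ≤ q by omega)]
  ring

theorem bound {F : Type*} [Field F] [Fintype F] (k : ℕ)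
    (ρ : Representation ℂ (chevE8.group F) (Fin k → ℂ)) (hρ : ρ.IsIrreducible) (hk : 2 ≤ k) :
    Fintype.card F * (Fintype.card F ^ 12 + 1) * (Fintype.card F ^ 10 + 1) * (Fintype.card F ^ 6 + 1) ≤ k := by
  classical
  have hq : IsPrimePow (Fintype.card F) := Fintype.isPrimePow_card_of_field
  have hs : IsSimpleGroup ↥(chevE8.group F) :=
    (Cfsg.Lib.Chev.E8.struct.simple Cfsg.Lib.Chev.okNeg_E8 Cfsg.Lib.Chev.E8.irr Cfsg.Lib.Chev.opp_E8
      (Cfsg.Lib.Chev.E8.struct.commutator_eq_top Cfsg.Lib.Chev.E8.perfect (by simp)) (by decide)).1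
  rcases dichotomy env ρ hρ hk hs top orb okA okH okL okSteps okOrb rfl with h | ⟨h1, h2⟩
  · exact le_trans (big_bound hq.two_le) h
  · by_contra hlt
    have he := steps_bound hq.two_le
    obtain ⟨j, hj⟩ := Nat.exists_eq_add_of_lt (not_le.1 hlt)
    refine no_degree_E8 hq (k := k) (j := j + 1) (by omega) (by omega) (by rw [← mul_assoc, ← mul_assoc]; omega) ?_
    rw [poly_eq] at h2
    set q := Fintype.card F
    have e : (q - 1) * (1 + q + q ^ 2 + q ^ 3 + q ^ 4 + q ^ 5 + q ^ 6 + q ^ 7 + q ^ 8 + q ^ 9 + q ^ 10 + q ^ 11 + q ^ 12 + q ^ 13 + q ^ 14 + q ^ 15 + q ^ 16 + q ^ 17 + q ^ 18 + q ^ 19 + q ^ 20 + q ^ 21 + q ^ 22 + q ^ 23 + q ^ 24 + q ^ 25 + q ^ 26 + q ^ 27 + q ^ 28 + q ^ 29) =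
        q ^ 30 - 1 := by
      zify [hq.one_lt.le, Nat.one_le_pow 30 q (by have := hq.two_le; omega)]
      ring
    rw [← mul_assoc (q - 1), e] at h2
    exact h2

end Cfsg.Lib.EDeg.E8
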