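import Cfsg.Agent.Chev.EDeg.Top
import Cfsg.Agent.Chev.EDeg.Class
import Cfsg.Agent.Chars.Count

/-! The dichotomy for the degree of a faithful irreducible representation. -/

set_option autoImplicit false
set_option linter.unusedSectionVars false

open Cfsg.Lie
open Cfsg.Lib.Chev
open Cfsg.Lib.TwDeg (proj dd e_mul_proj mem_iff sum_proj trace_proj)
open Cfsg.Lib.GTwoDeg (psi psi_nd ch chE ch_apply)

namespace Cfsg.Lib.EDeg

theorem not_irreducible_line {G : Type*} [Group G] {k : ℕ} (ρ : Representation ℂ G (Fin k → ℂ))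
    (hρ : ρ.IsIrreducible) (hk : 2 ≤ k) (hs : IsSimpleGroup G) : Function.Injective ρ := by
  haveI : IsSimpleOrder (Subrepresentation ρ) := hρ
  rw [← MonoidHom.ker_eq_bot_iff]
  refine (MonoidHom.normal_ker ρ).eq_bot_or_eq_top.resolve_right fun ht => ?_
  set v : Fin k → ℂ := Pi.single ⟨0, by omega⟩ 1 with hv
  have hfix : ∀ g, ρ g v = v := fun g => by
    rw [MonoidHom.mem_ker.1 (ht ▸ Subgroup.mem_top g : g ∈ MonoidHom.ker ρ)]; rfl
  have h0 : v ≠ 0 := by simp [hv]
  let S : Subrepresentation ρ :=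
    ⟨Submodule.span ℂ {v}, fun g w hw => by
      obtain ⟨c, rfl⟩ := Submodule.mem_span_singleton.1 hw
      rw [map_smul, hfix]
      exact Submodule.smul_mem _ _ (Submodule.mem_span_singleton_self v)⟩
  have h1 : Module.finrank ℂ S.toSubmodule = 1 := finrank_span_singleton h0
  rcases IsSimpleOrder.eq_bot_or_eq_top S with h | h <;>
    rw [show S.toSubmodule = _ from congrArg Subrepresentation.toSubmodule h] at h1
  · rw [show ((⊥ : Subrepresentation ρ).toSubmodule) = ⊥ from rfl, finrank_bot] at h1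
    exact zero_ne_one h1
  · rw [show ((⊤ : Subrepresentation ρ).toSubmodule) = ⊤ from rfl, finrank_top, Module.finrank_fin_fun] at h1
    omega

variable {D : ChevalleyDatum} {C : Cert} (E : Env D C) {F : Type*} [Field F] [Fintype F] {k : ℕ}
  (ρ : Representation ℂ ↥(D.group F) (Fin k → ℂ))

theorem sum_split_C [DecidableEq F] (f : F → ℂ) : ∑ x, f x = f 0 + ∑ x ∈ Finset.univ.erase 0, f x :=
  (Finset.add_sum_erase _ _ (Finset.mem_univ 0)).symm

include E in
open scoped Classical in
theorem dichotomy (hρ : ρ.IsIrreducible) (hk : 2 ≤ k) (hs : IsSimpleGroup ↥(D.group F)) (T : Top) (O : Orb)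
    (hA : T.okA D C = true) (hH : T.okH D C = true) (hL : T.okL D C = true) {steps : List Step}
    (hS : okSteps D C T.pos steps T.tm = true) (hO : O.ok D C = true) (hOT : O.th = T.th) :
    2 * ((Fintype.card F - 1) * Fintype.card F ^ T.up.length) +
        (Fintype.card F - 1) * Fintype.card F ^ T.rs.length ≤ k ∨
      (Fintype.card F - 1) * Fintype.card F ^ T.up.length + stepsSum (Fintype.card F) steps ≤ k ∧
        k ∣ (Fintype.card F - 1) * O.poly (Fintype.card F) * Fintype.card F ^ (T.up.length + 1) := by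
  have hinj := not_irreducible_line ρ hρ hk hs
  have htot := total_dim E (φ := ρ) T hA
  rw [Module.finrank_fin_fun] at htot
  set fx := dm E ρ T.tm (fun _ => (0 : F)) with hfx
  set a := lineDim E (φ := ρ) (F := F) T with ha'
  have he : ∀ x y : F, g E T.th x * g E T.th y = g E T.th (x + y) := g_add E T.th
  have hA' := hA
  simp only [Top.okA, Bool.and_eq_true] at hA'
  obtain ⟨⟨⟨⟨⟨⟨⟨⟨⟨⟨⟨⟨⟨⟨⟨hu, -⟩, -⟩, -⟩, -⟩, -⟩, -⟩, -⟩, -⟩, -⟩, -⟩, -⟩, -⟩, -⟩, -⟩, -⟩ := hA'
  have hth : Mem D T.tm T.th := (okUn_spec hu T.th).1 (Or.inl List.mem_cons_self)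
  have honly : ∀ δ, Mem D T.tm δ → δ = T.th := fun δ hδ => by
    rcases (okUn_spec hu δ).2 hδ with h | h
    · simpa using h
    · exact absurd h.2 (by simp [bit])
  have ha0 : a ≠ 0 := fun h0 => by
    rw [h0, mul_zero, mul_zero, add_zero] at htot
    have htop : ES E ρ (Mem D T.tm) (fun _ => (0 : F)) = ⊤ := Submodule.eq_top_of_finrank_eq (by
      rw [Module.finrank_fin_fun]; exact htot.symm)
    have h1 : g E T.th (1 : F) = 1 := hinj (LinearMap.ext fun v => by
      have := (htop.symm ▸ Submodule.mem_top : v ∈ ES E ρ (Mem D T.tm) (fun _ => (0 : F))) T.th hth 1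
      rw [this, zero_mul, AddChar.map_zero_eq_one, one_smul, map_one]; rfl)
    exact one_ne_zero (E.S.xG_eq_one hth.1 (congrArg Subtype.val h1))
  rcases Nat.lt_or_ge a 2 with ha | ha
  · right
    have ha1 : a = 1 := by omega
    rw [ha1, mul_one] at htot
    refine ⟨?_, ?_⟩
    · have := fix_bound E (φ := ρ) T hA hH hL hS ha1
      omega
    · -- the value at the root element
      have hdd : ∀ x : F, dd ρ (g E T.th) (ch x) = dm E ρ T.tm (one1 T.th x) := fun x => by
        have : LinearMap.range (proj ρ (g E T.th) (ch x)) = ES E ρ (Mem D T.tm) (one1 T.th x) := by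
          ext v
          rw [mem_iff he]
          refine ⟨fun h δ hδ a => ?_, fun h a => ?_⟩
          · rw [honly δ hδ, one1_self]; exact h a
          · rw [h T.th hth a, one1_self]; rfl
        show Module.finrank ℂ ↥(LinearMap.range (proj ρ (g E T.th) (ch x))) = _
        rw [this]; rfl
      have hchar : ρ.character (g E T.th (1 : F)) = ∑ x : F, psi x * (dd ρ (g E T.th) (ch x) : ℂ) := by
        show LinearMap.trace ℂ _ (ρ (g E T.th (1 : F))) = _
        rw [show ρ (g E T.th (1 : F)) = ρ (g E T.th (1 : F)) * ∑ ψ : AddChar F ℂ, proj ρ (g E T.th) ψ by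
          rw [sum_proj he, mul_one], Finset.mul_sum, map_sum, ← (chE (F := F)).sum_comp]
        refine Finset.sum_congr rfl fun x _ => ?_
        rw [e_mul_proj he, map_smul, trace_proj he, smul_eq_mul, Cfsg.Lib.GTwoDeg.chE_apply, ch_apply, mul_one]
      have hpsi : ∑ x : F, psi x = (0 : ℂ) := by
        refine (AddChar.sum_eq_zero_iff_ne_zero).2 fun h => ?_
        exact one_ne_zero (psi_nd (a := (1 : F)) fun l => by rw [h]; simp)
      rw [sum_split_C, Finset.sum_congr rfl fun x hx => by
        rw [hdd, th_dim E T hA (Finset.mem_erase.1 hx).1, ← ha', ha1, mul_one],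
        ← Finset.sum_mul, hdd, dm_congr E (w' := fun _ => (0 : F)) (fun δ hδ => by rw [honly δ hδ, one1_self]),
        ← hfx, AddChar.map_zero_eq_one, one_mul] at hchar
      rw [sum_split_C, AddChar.map_zero_eq_one] at hpsi
      rw [eq_neg_of_add_eq_zero_right hpsi] at hchar
      have hkq : (k : ℂ) = fx + ((Fintype.card F : ℂ) - 1) * (Fintype.card F : ℂ) ^ T.up.length := by
        rw [htot, Nat.cast_add, Nat.cast_mul, Nat.cast_sub Fintype.card_pos, Nat.cast_pow, Nat.cast_one]
      have hint := Cfsg.Lib.Chars.isIntegral_centralChar ρ (g E T.th (1 : F))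
      rw [Module.finrank_fin_fun, ← hOT, index_cent E hO, hOT] at hint
      have hk0 : (k : ℂ) ≠ 0 := by exact_mod_cast (by omega : k ≠ 0)
      refine Cfsg.Lib.Chars.dvd_of_isIntegral_div (by omega) ?_
      set c : ℕ := (Fintype.card F - 1) * O.poly (Fintype.card F) with hc
      have h2 := ((isIntegral_algebraMap (A := ℂ) (x := (c : ℤ))).sub hint)
      have h3 : ((c * Fintype.card F ^ (T.up.length + 1) : ℕ) : ℂ) / (k : ℂ) =
          algebraMap ℤ ℂ (c : ℤ) - (c : ℂ) * ρ.character (g E T.th (1 : F)) / (k : ℂ) := by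
        rw [hchar]
        simp only [algebraMap_int_eq, eq_intCast, Int.cast_natCast, Nat.cast_pow, Nat.cast_mul]
        field_simp
        rw [hkq]
        ring
      rw [h3]
      exact h2
  · left
    have h9 := top_cell E (φ := ρ) T hA hH ha0
    rw [htot]
    have : 2 * ((Fintype.card F - 1) * Fintype.card F ^ T.up.length) ≤
        (Fintype.card F - 1) * (Fintype.card F ^ T.up.length * a) := by
      rw [mul_comm 2, mul_assoc]
      exact Nat.mul_le_mul_left _ (Nat.mul_le_mul_left _ ha)
    omega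

end Cfsg.Lib.EDeg
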