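import Cfsg.Agent.Chev.EDeg.Base

/-! Moving eigenvectors by torus and monomial elements, and counting them by cells. -/

set_option autoImplicit false
set_option linter.unusedSectionVars false

open Cfsg.Lie
open Cfsg.Lib.Chev
open Cfsg.Lib.TwDeg (act_end act_ne_zero)
open Cfsg.Lib.GTwoDeg (psi)

namespace Cfsg.Lib.EDeg

section tables

variable (D : ChevalleyDatum) (C : Cert)

/-- Inclusion of masks. -/
noncomputable def okLe (a b : ℕ) : Bool := kall (fun δ => !bit a δ || bit b δ) (krange 0 D.nroots)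

/-- A mask is the union of a mask and a list. -/
noncomputable def okUn (m : ℕ) (L : List ℕ) (m' : ℕ) : Bool :=
  kall (fun δ => bit m' δ == (L.elem δ || bit m δ)) (krange 0 D.nroots) && kall (fun r => Nat.blt r D.nroots) L

/-- The conditions for splitting along a list. -/
noncomputable def okSplit (m z : ℕ) (L : List ℕ) (m' : ℕ) : Bool :=
  okUn D m L m' && decide L.Nodup &&
    kall (fun r => !bit m r && okRow D m' r (fun _ k => bit m k && bit z k)) L

/-- A root subgroup fixes the phases. -/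
noncomputable def okStab (m z r : ℕ) : Bool := okRow D m r (fun _ k => bit m k && bit z k)

/-- The preimage of a root under a word of reflections. -/
noncomputable def sig (L : List ℕ) (δ : ℕ) : ℕ := C.wL L.reverse δ

/-- A word of reflections carries one set of roots onto another. -/
noncomputable def okW (L : List ℕ) (src dst : ℕ) : Bool :=
  kall (fun i => Nat.blt i D.rank) L && kall (fun δ => !bit dst δ ||
    (bit src (sig C L δ) && Nat.blt (sig C L δ) D.nroots && Nat.beq (C.wL L (sig C L δ)) δ)) (krange 0 D.nroots)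

/-- The translations of a cell. -/
noncomputable def okRs (m z γ : ℕ) (rs : List (ℕ × ℕ)) : Bool :=
  @List.rec (ℕ × ℕ) (fun _ => Bool) true (fun p rest ih =>
    okRow D m p.1 (fun δ k => bit m k && (!bit z δ || bit z k) && (!Nat.beq δ γ || bit z k)) &&
    bit m p.2 && Nat.blt p.2 D.nroots && decide (D.chainRoot p.1 p.2 1 = some γ) &&
    kall (fun p' => kall (fun e => !Nat.beq e.1 p.2 || bit z (tgt e)) (row D p'.1)) rest && ih) rs

variable {D C}

theorem mem_of_kall {p : ℕ → Bool} (h : kall p (krange 0 D.nroots) = true) {δ : ℕ} (hδ : δ < D.nroots) :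
    p δ = true := kall_krange h δ hδ

theorem okLe_spec {a b : ℕ} (h : okLe D a b = true) {δ : ℕ} (hδ : Mem D a δ) : Mem D b δ := by
  refine ⟨hδ.1, ?_⟩
  have := mem_of_kall h hδ.1
  simpa [hδ.2] using this

theorem okUn_spec {m m' : ℕ} {L : List ℕ} (h : okUn D m L m' = true) (δ : ℕ) :
    Un L (Mem D m) δ ↔ Mem D m' δ := by
  simp only [okUn, Bool.and_eq_true, kall_iff, Nat.blt, Nat.ble_eq] at h
  constructor
  · intro hu
    have hδ : δ < D.nroots := hu.elim (fun hL => h.2 δ hL) fun hm => hm.1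
    refine ⟨hδ, ?_⟩
    rw [beq_iff_eq.1 (h.1 δ (mem_krange0 hδ)), Bool.or_eq_true]
    exact hu.imp (fun hL => by simpa using hL) fun hm => hm.2
  · intro hm
    have := beq_iff_eq.1 (h.1 δ (mem_krange0 hm.1))
    rw [hm.2, eq_comm, Bool.or_eq_true] at this
    exact this.imp (fun hL => by simpa using hL) fun hb => ⟨hm.1, hb⟩

theorem okSplit_spec {F : Type*} [Field F] (E : Env D C) {m z m' : ℕ} {L : List ℕ} {w : ℕ → F}
    (h : okSplit D m z L m' = true) (hw : ∀ δ, Mem D z δ → w δ = 0) :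
    SplitOK D (Mem D m) w L ∧ ∀ δ, Un L (Mem D m) δ ↔ Mem D m' δ := by
  simp only [okSplit, Bool.and_eq_true, decide_eq_true_eq, kall_iff, Bool.not_eq_true'] at h
  obtain ⟨⟨hu, hnd⟩, hL⟩ := h
  refine ⟨⟨hnd, fun r hr => ?_⟩, okUn_spec hu⟩
  obtain ⟨hm, hrow⟩ := hL r hr
  obtain ⟨hrn, hsum⟩ := okRow_spec hrow
  refine ⟨hrn, fun hh => ?_, fun δ hδ => ?_⟩
  · have := hh.2
    rw [hm] at this
    exact Bool.noConfusion this
  · obtain ⟨a, b, c⟩ := hsum δ ((okUn_spec hu δ).1 hδ)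
    refine ⟨a, b, fun k hk => ?_⟩
    have hkn := (chain_some E.S.chain hrn (k := 0) hk).1
    have := c k hk
    rw [Bool.and_eq_true] at this
    exact ⟨⟨hkn, this.1⟩, hw k ⟨hkn, this.2⟩⟩

theorem okStab_spec {F : Type*} [Field F] (E : Env D C) {m z r : ℕ} {w : ℕ → F} (h : okStab D m z r = true)
    (hw : ∀ δ, Mem D z δ → w δ = 0) : Stab D (Mem D m) w r := by
  obtain ⟨hrn, hsum⟩ := okRow_spec h
  refine ⟨hrn, fun δ hδ => ?_⟩
  obtain ⟨a, b, c⟩ := hsum δ hδ
  refine ⟨a, b, fun k hk => ?_⟩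
  have hkn := (chain_some E.S.chain hrn (k := 0) hk).1
  have := c k hk
  rw [Bool.and_eq_true] at this
  exact ⟨⟨hkn, this.1⟩, hw k ⟨hkn, this.2⟩⟩

end tables

variable {D : ChevalleyDatum} {C : Cert} (E : Env D C) {F : Type*} [Field F]

/-- A torus element of a fundamental node. -/
noncomputable def tt (i : Fin D.rank) (z : Fˣ) : ↥(D.group F) :=
  ⟨Ok.tG D F (Pi.mulSingle i z), by rw [← E.S.ok.hG_simple_eq_tG]; exact E.S.ok.hG_mem_group _ _⟩

theorem tt_conj (i : Fin D.rank) (z : Fˣ) {δ : ℕ} (hδ : δ < D.nroots) (u : F) :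
    g E δ u * tt E i z = tt E i z * g E δ (((z ^ (-D.cartan i δ) : Fˣ) : F) * u) := by
  apply Subtype.ext
  have h := E.S.tG_conj_xG hδ (Pi.mulSingle i z) (((z ^ (-D.cartan i δ) : Fˣ) : F) * u)
  rw [Fintype.prod_eq_single i (fun j hj => by simp [Pi.mulSingle_eq_of_ne hj]), Pi.mulSingle_eq_same,
    ← mul_assoc, ← Units.val_mul, ← zpow_add, add_neg_cancel, zpow_zero, Units.val_one, one_mul,
    mul_inv_eq_iff_eq_mul] at h
  exact h.symm

variable [Fintype F] {V : Type*} [AddCommGroup V] [Module ℂ V] [FiniteDimensional ℂ V]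
  {φ : ↥(D.group F) →* Module.End ℂ V}

theorem torus {R : ℕ → Prop} {w : ℕ → F} (i : Fin D.rank) (z : Fˣ) (hR : ∀ δ, R δ → δ < D.nroots) :
    ∀ v ∈ ES E φ R w, φ (tt E i z) v ∈ ES E φ R fun δ => ((z ^ (-D.cartan i δ) : Fˣ) : F) * w δ := by
  intro v hv δ hδ u
  rw [← act_end, tt_conj E i z (hR δ hδ), act_end, hv δ hδ, map_smul]
  congr 2
  ring

theorem wey {L : List ℕ} {src dst : ℕ} (h : okW D C L src dst = true) :
    ∃ (n : ↥(D.group F)) (κ : ℕ → F), (∀ δ, Mem D dst δ → κ δ ≠ 0) ∧ ∀ w, ∀ v ∈ ES E φ (Mem D src) w,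
      φ n v ∈ ES E φ (Mem D dst) fun δ => κ δ * w (sig C L δ) := by
  simp only [okW, Bool.and_eq_true, kall_iff, Nat.blt, Nat.ble_eq, Bool.or_eq_true, Bool.not_eq_true'] at h
  obtain ⟨hL, hm⟩ := h
  let L' : List (Fin D.rank) := L.pmap Fin.mk hL
  have e1 : L'.map Fin.val = L := by simp [L', List.map_pmap]
  refine ⟨⟨E.S.nL F L', E.S.mono_le_group (E.S.nL_mem_mono _)⟩,
    fun δ => (C.sgnL L (sig C L δ) : F)⁻¹, fun δ hδ => ?_, fun w v hv δ hδ u => ?_⟩
  all_goals
    obtain ⟨⟨hsrc, hlt⟩, hbeq⟩ := (hm δ (mem_krange0 hδ.1)).resolve_left (by simp [hδ.2])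
  · obtain ⟨-, c, hc, e⟩ := E.S.act_nL (F := F) L' ⟨sig C L δ, hlt⟩
    intro h0
    have h1 := E.S.nL_conj (F := F) L' hlt 1
    rw [e1, inv_eq_zero.1 h0, zero_mul, E.S.xG_zero, mul_inv_eq_one] at h1
    exact one_ne_zero (E.S.xG_eq_one hlt (mul_eq_left.1 h1))
  · set s := sig C L δ with hs
    set c : F := (C.sgnL L s : F)
    have hc : c ≠ 0 := by
      intro h0
      have h1 := E.S.nL_conj (F := F) L' hlt 1
      rw [e1, show (C.sgnL L s : F) = 0 from h0, zero_mul, E.S.xG_zero, mul_inv_eq_one] at h1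
      exact one_ne_zero (E.S.xG_eq_one hlt (mul_eq_left.1 h1))
    have hconj : g E δ u * (⟨E.S.nL F L', E.S.mono_le_group (E.S.nL_mem_mono _)⟩ : ↥(D.group F)) =
        ⟨E.S.nL F L', E.S.mono_le_group (E.S.nL_mem_mono _)⟩ * g E s (c⁻¹ * u) := by
      apply Subtype.ext
      have h1 := E.S.nL_conj (F := F) L' hlt (c⁻¹ * u)
      rw [e1, Nat.eq_of_beq_eq_true hbeq, ← mul_assoc, mul_inv_cancel₀ hc, one_mul, mul_inv_eq_iff_eq_mul] at h1
      exact h1.symm
    rw [← act_end, hconj, act_end, hv s ⟨hlt, hsrc⟩, map_smul]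
    congr 2
    ring

/-- The functions vanishing outside a mask. -/
noncomputable def nrm (m : ℕ) (f : ℕ → F) (δ : ℕ) : F := open Classical in if Mem D m δ then f δ else 0

theorem nrm_mem {m δ : ℕ} (f : ℕ → F) (h : Mem D m δ) : nrm (D := D) m f δ = f δ := if_pos h

theorem translations : ∀ (rs : List (ℕ × ℕ)) {m z γ : ℕ}, okRs D m z γ rs = true →
    (∀ δ, Mem D z δ → Mem D m δ) → Mem D m γ → ∀ w : ℕ → F, (∀ δ, Mem D z δ → w δ = 0) → w γ ≠ 0 →
    ES E φ (Mem D m) w ≠ ⊥ →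
    ∃ f : (Fin rs.length → F) → ℕ → F,
      (∀ t, (∀ δ, Mem D z δ → f t δ = 0) ∧ ES E φ (Mem D m) (f t) ≠ ⊥ ∧ f t γ = w γ) ∧
      (∀ t t', (∀ δ, Mem D m δ → f t δ = f t' δ) → t = t') ∧
      ∀ t δ, Mem D m δ → (∀ p ∈ rs, ∀ k, D.chainRoot p.1 δ 1 = some k → Mem D z k) → f t δ = w δ := by
  intro rs
  induction rs with
  | nil =>
    intro m z γ _ _ _ w hw _ hne
    exact ⟨fun _ => w, fun _ => ⟨hw, hne, rfl⟩, fun t t' _ => funext fun i => i.elim0, fun _ _ _ _ => rfl⟩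
  | cons p rest ih =>
    intro m z γ hok hz hγ w hw hwγ hne
    replace hok : (okRow D m p.1 (fun δ k => bit m k && (!bit z δ || bit z k) && (!Nat.beq δ γ || bit z k)) &&
      bit m p.2 && Nat.blt p.2 D.nroots && decide (D.chainRoot p.1 p.2 1 = some γ) &&
      kall (fun p' => kall (fun e => !Nat.beq e.1 p.2 || bit z (tgt e)) (row D p'.1)) rest &&
      okRs D m z γ rest) = true := hok
    simp only [Bool.and_eq_true, decide_eq_true_eq, Nat.blt, Nat.ble_eq, kall_iff, Bool.or_eq_true,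
      Bool.not_eq_true'] at hok
    obtain ⟨⟨⟨⟨⟨hrow, hpb⟩, hpn⟩, hp⟩, hlater⟩, hrest⟩ := hok
    obtain ⟨hrn, hsum⟩ := okRow_spec hrow
    have hkz : ∀ δ, Mem D m δ → ∀ k, D.chainRoot p.1 δ 1 = some k →
        Mem D m k ∧ (Mem D z δ → Mem D z k) ∧ (δ = γ → Mem D z k) := fun δ hδ k hk => by
      have hkn := (chain_some E.S.chain hrn (k := 0) hk).1
      have := (hsum δ hδ).2.2 k hk
      simp only [Bool.and_eq_true, Bool.or_eq_true, Bool.not_eq_true'] at this
      exact ⟨⟨hkn, this.1.1⟩, fun h => ⟨hkn, this.1.2.resolve_left (by simp [h.2])⟩,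
        fun h => ⟨hkn, this.2.resolve_left (by simp [h])⟩⟩
    have htr : Trans D (Mem D m) p.1 := ⟨hrn, fun δ hδ =>
      ⟨(hsum δ hδ).1, (hsum δ hδ).2.1, fun k hk => (hkz δ hδ k hk).1⟩⟩
    have step : ∀ t0 : F, (∀ δ, Mem D z δ → shiftW D w p.1 t0 δ = 0) ∧ shiftW D w p.1 t0 γ = w γ ∧
        ES E φ (Mem D m) (shiftW D w p.1 t0) ≠ ⊥ := fun t0 => by
      refine ⟨fun δ hδ => ?_, shiftW_zero fun k hk => hw k ((hkz γ hγ k hk).2.2 rfl), ?_⟩
      · rw [shiftW_zero fun k hk => hw k ((hkz δ (hz δ hδ) k hk).2.1 hδ), hw δ hδ]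
      · obtain ⟨v, hv, hv0⟩ := Submodule.exists_mem_ne_zero_of_ne_bot hne
        exact (Submodule.ne_bot_iff _).2 ⟨_, translate E htr t0 hv, act_ne_zero φ _ hv0⟩
    choose f hf using fun t0 : F => ih hrest hz hγ (shiftW D w p.1 t0) (step t0).1
      (by rw [(step t0).2.1]; exact hwγ) (step t0).2.2
    have hpm : Mem D m p.2 := ⟨hpn, hpb⟩
    have hfix : ∀ t0 s, f t0 s p.2 = shiftW D w p.1 t0 p.2 := fun t0 s =>
      (hf t0).2.2 s p.2 hpm fun p' hp' k hk => by
        obtain ⟨e, he, he1, he2⟩ := chainRoot_mem hk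
        subst he2
        exact ⟨(chain_some E.S.chain (okRow_rs hrest p' hp') (k := 0) hk).1,
          (hlater p' hp' e he).resolve_left (by simp [he1])⟩
    have hM : (D.chainM p.1 p.2 1 : F) ≠ 0 := by
      rcases unit_M E.hone hrn hp with e | e <;> simp [e]
    refine ⟨fun t => f (t 0) (Fin.tail t), fun t => ?_, fun t t' heq => ?_, fun t δ hδ hall => ?_⟩
    · obtain ⟨h1, h2, h3⟩ := (hf (t 0)).1 (Fin.tail t)
      exact ⟨h1, h2, h3.trans (step (t 0)).2.1⟩
    · dsimp only at heq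
      have h0 := heq p.2 hpm
      simp only [hfix, shiftW_some hp, sub_right_inj, mul_eq_mul_right_iff, hwγ, or_false,
        mul_right_inj' hM] at h0
      have htl := (hf (t 0)).2.1 (Fin.tail t) (Fin.tail t') fun δ hδ => by
        have := heq δ hδ
        rwa [← h0] at this
      rw [← Fin.cons_self_tail t, ← Fin.cons_self_tail t', h0, htl]
    · dsimp only
      rw [(hf (t 0)).2.2 _ δ hδ fun p' hp' => hall p' (List.mem_cons_of_mem _ hp')]
      exact shiftW_zero fun k hk => hw k (hall p List.mem_cons_self k hk)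
where
  okRow_rs {m z γ : ℕ} {rs : List (ℕ × ℕ)} (h : okRs D m z γ rs = true) (p : ℕ × ℕ) (hp : p ∈ rs) :
      p.1 < D.nroots := by
    induction rs with
    | nil => simp at hp
    | cons a rest ih =>
      replace h : (okRow D m a.1 (fun δ k => bit m k && (!bit z δ || bit z k) && (!Nat.beq δ γ || bit z k)) &&
        bit m a.2 && Nat.blt a.2 D.nroots && decide (D.chainRoot a.1 a.2 1 = some γ) &&
        kall (fun p' => kall (fun e => !Nat.beq e.1 a.2 || bit z (tgt e)) (row D p'.1)) rest &&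
        okRs D m z γ rest) = true := h
      simp only [Bool.and_eq_true] at h
      rcases List.mem_cons.1 hp with rfl | hp
      · exact (okRow_spec h.1.1.1.1.1).1
      · exact ih h.2 hp

/-- The configurations of one cell. -/
theorem cellSet {m z γ : ℕ} {rs : List (ℕ × ℕ)} (hok : okRs D m z γ rs = true)
    (hz : ∀ δ, Mem D z δ → Mem D m δ) (hγ : Mem D m γ) (i : Fin D.rank)
    (hi : D.cartan i γ = 1 ∨ D.cartan i γ = -1) {w : ℕ → F} (hw : ∀ δ, Mem D z δ → w δ = 0) (hwγ : w γ ≠ 0)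
    (hne : ES E φ (Mem D m) w ≠ ⊥) :
    ∃ S : Finset (ℕ → F), S.card = (Fintype.card F - 1) * Fintype.card F ^ rs.length ∧
      ∀ f ∈ S, (∀ δ, Mem D z δ → f δ = 0) ∧ f γ ≠ 0 ∧ nrm (D := D) m f = f ∧ ES E φ (Mem D m) f ≠ ⊥ := by
  classical
  let w' : Fˣ → ℕ → F := fun z δ => ((z ^ (-D.cartan i δ) : Fˣ) : F) * w δ
  have hw' : ∀ z', ES E φ (Mem D m) (w' z') ≠ ⊥ := fun z' => by
    obtain ⟨v, hv, hv0⟩ := Submodule.exists_mem_ne_zero_of_ne_bot hne
    exact (Submodule.ne_bot_iff _).2 ⟨_, torus E i z' (fun δ hδ => hδ.1) v hv, act_ne_zero φ _ hv0⟩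
  choose f hf using fun z' : Fˣ => translations E (φ := φ) rs hok hz hγ (w' z')
    (fun δ hδ => by simp [w', hw δ hδ]) (mul_ne_zero (Units.ne_zero _) hwγ) (hw' z')
  let G : Fˣ × (Fin rs.length → F) → ℕ → F := fun p => nrm (D := D) m (f p.1 p.2)
  have hG : Function.Injective G := fun p p' h => by
    have hd : ∀ δ, Mem D m δ → f p.1 p.2 δ = f p'.1 p'.2 δ := fun δ hδ => by
      have := congrFun h δ
      simpa [G, nrm_mem _ hδ] using this
    have h1 : p.1 = p'.1 := by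
      have e := hd γ hγ
      rw [((hf p.1).1 p.2).2.2, ((hf p'.1).1 p'.2).2.2] at e
      have e' := Units.ext (mul_right_cancel₀ hwγ e)
      rcases hi with e2 | e2 <;> simpa [e2] using e'
    exact Prod.ext h1 ((hf p.1).2.1 _ _ (by rw [h1] at hd ⊢; exact hd))
  refine ⟨Finset.univ.image G, ?_, fun g' hg' => ?_⟩
  · rw [Finset.card_image_of_injective _ hG, Finset.card_univ, Fintype.card_prod, Fintype.card_fun,
      Fintype.card_units, Fintype.card_fin]
  · obtain ⟨p, -, rfl⟩ := Finset.mem_image.1 hg'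
    obtain ⟨h1, h2, h3⟩ := (hf p.1).1 p.2
    refine ⟨fun δ hδ => by simp [G, nrm_mem _ (hz δ hδ), h1 δ hδ],
      by simp only [G]; rw [nrm_mem _ hγ, h3]; exact mul_ne_zero (Units.ne_zero _) hwγ, ?_, ?_⟩
    · funext δ
      by_cases hδ : Mem D m δ <;> simp [G, nrm, hδ]
    · rwa [ES_congr E (R' := Mem D m) (w' := f p.1 p.2) (fun _ => Iff.rfl) fun δ hδ => nrm_mem _ hδ]

end Cfsg.Lib.EDeg
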