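import Cfsg.Agent.Chev.EDeg.Adj

/-! The eigenspaces at the highest root and the lower bound for the degree. -/

set_option autoImplicit false
set_option linter.unusedSectionVars false
set_option maxHeartbeats 1000000

open Cfsg.Lie
open Cfsg.Lib.Chev
open Cfsg.Lib.TwDeg (act_ne_zero)
open Cfsg.Lib.GTwoDeg (psi)

namespace Cfsg.Lib.EDeg

/-- The combinatorial data at the highest root. -/
structure Top where
  /-- the node joined to the highest root -/
  sn : ℕ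
  /-- the highest root -/
  th : ℕ
  /-- the difference of the highest root and that fundamental root -/
  g0 : ℕ
  /-- the abelian set without the highest root, with partners -/
  up : List (ℕ × ℕ)
  /-- the mask of the abelian set -/
  am : ℕ
  /-- the other roots of the Heisenberg radical -/
  low : List ℕ
  /-- the mask of the radical -/
  ph : ℕ
  /-- the mask of all positive roots -/
  pos : ℕ
  /-- translations of the top cell -/
  rs : List (ℕ × ℕ)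
  /-- roots fixing the line -/
  r0 : List ℕ
  /-- vanishing coordinates: target, root, source -/
  van : List (ℕ × ℕ × ℕ)
  /-- a negative root and a root sent to the fundamental one -/
  nb : ℕ × ℕ
  /-- word to the fundamental root, and back -/
  w0 : List ℕ
  /-- the word back -/
  wb : List ℕ
  /-- roots fixing the second line -/
  s2 : List ℕ
  /-- trivial roots: target and two fixing roots -/
  tri : List (ℕ × ℕ × ℕ)
  /-- edges -/
  tree : List (ℕ × ℕ × ℕ × ℕ)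

namespace Top

section tables

variable (D : ChevalleyDatum) (C : Cert) (T : Top)

/-- The mask of the highest root. -/
def tm : ℕ := addBit 0 T.th

/-- The phases vanishing at the highest difference. -/
def za : ℕ := T.am ^^^ 2 ^ T.g0

/-- The phases vanishing at the fundamental root. -/
noncomputable def z2 : ℕ := T.ph ^^^ 2 ^ (C.sr T.sn)

/-- Checks on the abelian set. -/
noncomputable def okA : Bool :=
  okUn D 0 [T.th] T.tm && okRow D 0 T.th (fun _ _ => false) &&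
  okSplit D T.tm 0 (T.up.map Prod.fst) T.am &&
  kall (fun p => okRow D T.am p.2 (fun δ k => Nat.beq δ p.1 && Nat.beq k T.th) && bit T.am p.1 &&
    decide (D.chainRoot p.2 p.1 1 = some T.th) && !Nat.beq p.1 T.th) T.up &&
  Nat.blt T.sn D.rank && decide (D.cartan T.sn T.th = 1) && decide (D.cartan T.sn T.g0 = -1) &&
  okW D C [T.sn] T.am T.am && Nat.beq (sig C [T.sn] T.g0) T.th && Nat.beq (sig C [T.sn] T.th) T.g0 &&
  bit T.am T.g0 && bit T.am T.th && !Nat.beq T.th T.g0 &&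
  kall (fun δ => !bit T.am δ || Nat.beq δ T.g0 || !Nat.beq (sig C [T.sn] δ) T.th) (krange 0 D.nroots) &&
  kall (fun δ => !bit T.am δ || Nat.beq δ T.th || !Nat.beq (sig C [T.sn] δ) T.g0) (krange 0 D.nroots) &&
  kall (fun δ => bit T.za δ == (bit T.am δ && !Nat.beq δ T.g0)) (krange 0 D.nroots)

/-- Checks on the radical. -/
noncomputable def okH : Bool :=
  okSplit D T.am T.za T.low T.ph && okSplit D T.tm T.tm (T.up.map Prod.fst ++ T.low) T.ph &&
  okRs D T.ph T.tm T.g0 T.rs && bit T.ph T.g0 && okLe D T.am T.ph && okLe D T.tm T.za &&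
  kall (fun r => okStab D T.am T.za r && !bit T.am r) T.r0 &&
  kall (fun p => T.r0.elem p.2.1 && bit T.ph p.2.2 && !Nat.beq p.2.2 (D.negIdx.getD p.2.1 0) &&
    Nat.blt p.2.2 D.nroots && decide (D.chainRoot p.2.1 p.2.2 1 = some p.1)) T.van &&
  kall (fun δ => T.low.elem δ == (bit T.ph δ && !bit T.am δ)) (krange 0 D.nroots) &&
  kall (fun δ => !bit T.ph δ || bit T.am δ || Nat.beq δ (C.sr T.sn) || (T.van.map Prod.fst).elem δ)
    (krange 0 D.nroots) &&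
  okRow D T.ph T.nb.1 (fun δ k => bit T.ph k &&
    (!bit T.am δ || (!Nat.beq k T.g0 && !Nat.beq k (C.sr T.sn)))) &&
  decide (D.chainRoot T.nb.1 T.nb.2 1 = some (C.sr T.sn)) && bit T.ph T.nb.2 && Nat.blt T.nb.2 D.nroots &&
  !Nat.beq (C.sr T.sn) T.g0 && bit T.ph (C.sr T.sn)

/-- Checks on the second line and the spreading. -/
noncomputable def okL : Bool :=
  okW D C T.w0 T.ph T.ph && okW D C T.wb T.ph T.am && Nat.beq (sig C T.w0 (C.sr T.sn)) T.g0 &&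
  Nat.beq (sig C T.wb T.g0) (C.sr T.sn) &&
  kall (fun δ => !bit T.ph δ || Nat.beq δ (C.sr T.sn) || !Nat.beq (sig C T.w0 δ) T.g0) (krange 0 D.nroots) &&
  kall (fun δ => !bit T.am δ || Nat.beq δ T.g0 || !Nat.beq (sig C T.wb δ) (C.sr T.sn)) (krange 0 D.nroots) &&
  kall (fun δ => bit (z2 C T) δ == (bit T.ph δ && !Nat.beq δ (C.sr T.sn))) (krange 0 D.nroots) &&
  kall (fun r => okStab D T.ph (z2 C T) r && !bit T.ph r) T.s2 &&
  kall (fun p => T.s2.elem p.2.1 && T.s2.elem p.2.2 && !Nat.beq p.2.2 (D.negIdx.getD p.2.1 0) &&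
    Nat.blt p.2.2 D.nroots && decide (D.chainRoot p.2.1 p.2.2 1 = some p.1)) T.tri &&
  kall (fun δ => !bit T.pos δ || bit T.ph δ || (T.tri.map Prod.fst).elem δ) (krange 0 D.nroots) &&
  okLe D T.ph T.pos && okTree D C T.pos T.tree [T.sn]

end tables

end Top

variable {D : ChevalleyDatum} {C : Cert} (E : Env D C) {F : Type*} [Field F] [Fintype F] [DecidableEq F]
  {V : Type*} [AddCommGroup V] [Module ℂ V] [FiniteDimensional ℂ V] (φ : ↥(D.group F) →* Module.End ℂ V)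

/-- A single phase. -/
def one1 (r : ℕ) (x : F) : ℕ → F := Function.update (fun _ => (0 : F)) r x

theorem one1_self (r : ℕ) (x : F) : one1 r x r = x := Function.update_self ..

theorem one1_ne {r δ : ℕ} (h : δ ≠ r) (x : F) : one1 r x δ = 0 := by rw [one1, Function.update_of_ne h]

variable {φ} (T : Top)

/-- The common dimension. -/
noncomputable def lineDim : ℕ := dm E φ T.am (one1 T.th (1 : F))

theorem move_up (hA : T.okA D C = true) : ∀ (L : List (ℕ × ℕ)), (∀ p ∈ L, p ∈ T.up) → ∀ w w' : ℕ → F,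
    w T.th ≠ 0 → (∀ δ, Mem D T.am δ → δ ∉ L.map Prod.fst → w δ = w' δ) →
    dm E φ T.am w ≤ dm E φ T.am w' := by
  intro L
  induction L with
  | nil => exact fun _ w w' _ h => le_of_eq (dm_congr E fun δ hδ => h δ hδ (by simp))
  | cons p L ih =>
    intro hL w w' hw h
    simp only [Top.okA, Bool.and_eq_true, kall_iff, decide_eq_true_eq, Bool.not_eq_true'] at hA
    obtain ⟨⟨⟨hrow, hp⟩, hsum⟩, hne⟩ := hA.1.1.1.1.1.1.1.1.1.1.1.1.2 p (hL p List.mem_cons_self)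
    obtain ⟨hrn, hrs⟩ := okRow_spec hrow
    have hM : (D.chainM p.2 p.1 1 : F) ≠ 0 := by
      rcases unit_M E.hone hrn hsum with e | e <;> simp [e]
    have hk : ∀ δ, Mem D T.am δ → ∀ k, D.chainRoot p.2 δ 1 = some k → δ = p.1 ∧ k = T.th := fun δ hδ k hk => by
      have := (hrs δ hδ).2.2 k hk
      simp only [Bool.and_eq_true] at this
      exact ⟨Nat.eq_of_beq_eq_true this.1, Nat.eq_of_beq_eq_true this.2⟩
    have hth : Mem D T.am T.th := ⟨(chain_some E.S.chain hrn (k := 0) hsum).1, hA.1.1.1.1.2⟩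
    set t := (w p.1 - w' p.1) / ((D.chainM p.2 p.1 1 : F) * w T.th) with ht
    refine le_trans (finrank_le_of_map E (g E p.2 t) fun v hv => translate E ⟨hrn, fun δ hδ =>
      ⟨(hrs δ hδ).1, (hrs δ hδ).2.1, fun k h' => (hk δ hδ k h').2 ▸ hth⟩⟩ t hv)
      (ih (fun q hq => hL q (List.mem_cons_of_mem _ hq)) (shiftW D w p.2 t) w' ?_ fun δ hδ hnot => ?_)
    · rwa [shiftW_zero fun k h' => absurd (hk _ hth k h').1.symm (Nat.ne_of_beq_eq_false hne)]
    · rcases eq_or_ne δ p.1 with rfl | hd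
      · rw [shiftW_some hsum, ht]
        field_simp
        ring
      · rw [shiftW_zero fun k h' => absurd (hk _ hδ k h').1 hd, h δ hδ]
        simp only [List.map_cons, List.mem_cons, not_or]
        exact ⟨hd, hnot⟩

theorem torus_dm {m : ℕ} {w : ℕ → F} (i : Fin D.rank) (z : Fˣ) :
    dm E φ m w ≤ dm E φ m fun δ => ((z ^ (-D.cartan i δ) : Fˣ) : F) * w δ :=
  finrank_le_of_map E (tt E i z) (torus E i z fun δ hδ => hδ.1)

theorem scale_dm {m r : ℕ} {i : Fin D.rank} (hi : D.cartan i r = 1 ∨ D.cartan i r = -1) {x y : F} (hx : x ≠ 0)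
    (hy : y ≠ 0) : dm E φ m (one1 r x) ≤ dm E φ m (one1 r y) := by
  let u : Fˣ := (Units.mk0 (y / x) (div_ne_zero hy hx)) ^ (-D.cartan i r)
  refine (torus_dm E i u).trans (le_of_eq (dm_congr E fun δ _ => ?_))
  rcases eq_or_ne δ r with rfl | hd
  · rw [one1_self, one1_self, show u ^ (-D.cartan i δ) = Units.mk0 (y / x) (div_ne_zero hy hx) by
      rcases hi with e | e <;> simp [u, e, ← zpow_mul]]
    simp [hx]
  · rw [one1_ne hd, one1_ne hd, mul_zero]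

theorem a_dim (hA : T.okA D C = true) {w : ℕ → F} (hw : w T.th ≠ 0) :
    dm E φ T.am w = lineDim E (φ := φ) (F := F) T := by
  have hA' := hA
  simp only [Top.okA, Bool.and_eq_true, kall_iff, decide_eq_true_eq, Nat.blt, Nat.ble_eq] at hA'
  obtain ⟨⟨⟨⟨⟨⟨⟨⟨⟨⟨⟨⟨⟨⟨⟨hu, -⟩, hsp⟩, hup⟩, hsn⟩, hct⟩, -⟩, -⟩, -⟩, -⟩, -⟩, -⟩, -⟩, -⟩, -⟩, -⟩ := hA'
  have hfst : ∀ δ, Mem D T.am δ → δ ∉ T.up.map Prod.fst → δ = T.th := fun δ hδ hnot => by
    have h := (okSplit_spec E (F := F) (w := fun _ => (0 : F)) hsp fun _ _ => rfl).2 δ |>.2 hδ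
    rcases h with h | h
    · exact absurd h hnot
    · rcases (okUn_spec hu δ).2 h with h' | h'
      · simpa using h'
      · exact absurd h'.2 (by simp [bit])
  have hmove : ∀ w w' : ℕ → F, w T.th ≠ 0 → w T.th = w' T.th → dm E φ T.am w ≤ dm E φ T.am w' := fun w w' h0 he =>
    move_up E T hA T.up (fun p h => h) w w' h0 fun δ hδ hnot => by rw [hfst δ hδ hnot, he]
  have h1 : dm E φ T.am w = dm E φ T.am (one1 T.th (w T.th)) :=
    le_antisymm (hmove _ _ hw (one1_self ..).symm) (hmove _ _ (by rwa [one1_self]) (one1_self ..))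
  rw [h1]
  exact le_antisymm (scale_dm E (i := ⟨T.sn, hsn⟩) (Or.inl hct) hw one_ne_zero)
    (scale_dm E (i := ⟨T.sn, hsn⟩) (Or.inl hct) one_ne_zero hw)

theorem th_dim (hA : T.okA D C = true) {x : F} (hx : x ≠ 0) :
    dm E φ T.tm (one1 T.th x) = Fintype.card F ^ T.up.length * lineDim E (φ := φ) (F := F) T := by
  have hA' := hA
  simp only [Top.okA, Bool.and_eq_true] at hA'
  obtain ⟨⟨⟨⟨⟨⟨⟨⟨⟨⟨⟨⟨⟨⟨⟨hu, hr⟩, hsp⟩, -⟩, -⟩, -⟩, -⟩, -⟩, -⟩, -⟩, -⟩, -⟩, -⟩, -⟩, -⟩, -⟩ := hA'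
  obtain ⟨hso, hun⟩ := okSplit_spec E (F := F) (w := one1 T.th x) hsp fun δ hδ => absurd hδ.2 (by simp [bit])
  rw [dm, split_const E _ _ _ hso (lineDim E (φ := φ) (F := F) T) fun f hf => ?_, List.length_map]
  rw [ES_congr E (R' := Mem D T.am) (w' := f) hun fun _ _ => rfl]
  refine a_dim E T hA ?_
  rw [hf T.th ((okUn_spec hu T.th).1 (Or.inl List.mem_cons_self)), one1_self]
  exact hx

theorem total_dim (hA : T.okA D C = true) :
    Module.finrank ℂ V = dm E φ T.tm (fun _ => (0 : F)) +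
      (Fintype.card F - 1) * (Fintype.card F ^ T.up.length * lineDim E (φ := φ) (F := F) T) := by
  have hA' := hA
  simp only [Top.okA, Bool.and_eq_true] at hA'
  obtain ⟨⟨⟨⟨⟨⟨⟨⟨⟨⟨⟨⟨⟨⟨⟨hu, hr⟩, -⟩, -⟩, -⟩, -⟩, -⟩, -⟩, -⟩, -⟩, -⟩, -⟩, -⟩, -⟩, -⟩, -⟩ := hA'
  have h0 : ES E φ (Mem D 0) (fun _ => (0 : F)) = ⊤ :=
    eq_top_iff.2 fun v _ δ hδ => absurd hδ.2 (by simp [bit])
  have h := split E (φ := φ) (R := Mem D 0) (w := fun _ => (0 : F)) (r := T.th)
    ⟨(okRow_spec hr).1, fun δ hδ => absurd hδ.2 (by simp [bit])⟩ (fun h => absurd h.2 (by simp [bit]))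
  rw [h0, finrank_top] at h
  rw [h, sum_split]
  congr 1
  · rw [dm, ES_congr E (R' := Mem D T.tm) (w' := fun _ => (0 : F)) (okUn_spec hu) fun δ _ => by
      simp [Function.update_apply]]
  · rw [Finset.sum_congr rfl fun x hx => ?_, Finset.sum_const, Finset.card_erase_of_mem (Finset.mem_univ _),
      Finset.card_univ, smul_eq_mul]
    rw [← th_dim E T hA (Finset.mem_erase.1 hx).1, dm]
    exact congrArg (fun S : Submodule ℂ V => Module.finrank ℂ ↥S)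
      (ES_congr E (okUn_spec hu) fun _ _ => rfl)

theorem g0_dim (hA : T.okA D C = true) {y : F} (hy : y ≠ 0) :
    dm E φ T.am (one1 T.g0 y) = lineDim E (φ := φ) (F := F) T := by
  have hA' := hA
  simp only [Top.okA, Bool.and_eq_true, kall_iff, decide_eq_true_eq, Nat.blt, Nat.ble_eq, Bool.or_eq_true,
    Bool.not_eq_true'] at hA'
  obtain ⟨⟨⟨⟨⟨⟨⟨⟨⟨⟨⟨⟨-, hsn⟩, -⟩, hcg⟩, hW⟩, hg⟩, ht⟩, hbg⟩, hbt⟩, -⟩, hng⟩, hnt⟩, -⟩ := hA'
  obtain ⟨n, κ, hκ, hn⟩ := wey E (φ := φ) hW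
  have key : ∀ (x : F) (a b : ℕ), bit T.am b = true → b < D.nroots → Nat.beq (sig C [T.sn] b) a = true →
      (∀ δ ∈ krange 0 D.nroots, (bit T.am δ = false ∨ Nat.beq δ b = true) ∨ Nat.beq (sig C [T.sn] δ) a = false) →
      x ≠ 0 → ∃ x', x' ≠ 0 ∧ dm E φ T.am (one1 a x) ≤ dm E φ T.am (one1 b x') := by
    intro x a b hb hbn hsig hoth hx
    refine ⟨κ b * x, mul_ne_zero (hκ b ⟨hbn, hb⟩) hx, ?_⟩
    refine (finrank_le_of_map E n (hn (one1 a x))).trans (le_of_eq (dm_congr E fun δ hδ => ?_))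
    rcases eq_or_ne δ b with rfl | hd
    · rw [Nat.eq_of_beq_eq_true hsig, one1_self, one1_self]
    · rw [one1_ne hd, one1_ne, mul_zero]
      rcases hoth δ (mem_krange0 hδ.1) with (h | h) | h
      · exact absurd hδ.2 (by simp [h])
      · exact absurd (Nat.eq_of_beq_eq_true h) hd
      · exact Nat.ne_of_beq_eq_false h
  have hgn : T.g0 < D.nroots ∧ T.th < D.nroots := by
    have := hA
    simp only [Top.okA, Bool.and_eq_true] at this
    obtain ⟨⟨⟨⟨⟨⟨⟨⟨⟨⟨⟨⟨⟨⟨⟨hu, -⟩, -⟩, -⟩, -⟩, -⟩, -⟩, -⟩, -⟩, -⟩, -⟩, -⟩, -⟩, -⟩, -⟩, -⟩ := this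
    have ht' := ((okUn_spec hu T.th).1 (Or.inl List.mem_cons_self)).1
    exact ⟨Nat.eq_of_beq_eq_true ht ▸ sig_lt E hW ⟨ht', hbt⟩, ht'⟩
  obtain ⟨x1, hx1, h1⟩ := key 1 T.th T.g0 hbg hgn.1 hg (fun δ hδ => hng δ hδ) one_ne_zero
  obtain ⟨x2, hx2, h2⟩ := key y T.g0 T.th hbt hgn.2 ht (fun δ hδ => hnt δ hδ) hy
  refine le_antisymm (h2.trans (le_of_eq (a_dim E T hA (by rwa [one1_self])))) ?_
  exact h1.trans (scale_dm E (i := ⟨T.sn, hsn⟩) (Or.inr hcg) hx1 hy)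
where
  sig_lt {D : ChevalleyDatum} {C : Cert} (_E : Env D C) {L : List ℕ} {src dst δ : ℕ} (h : okW D C L src dst = true)
      (hδ : Mem D dst δ) : sig C L δ < D.nroots := (okW_sig h hδ).1

theorem g0_mem (hA : T.okA D C = true) : Mem D T.am T.g0 := by
  have hA' := hA
  simp only [Top.okA, Bool.and_eq_true] at hA'
  obtain ⟨⟨⟨⟨⟨⟨⟨⟨⟨⟨⟨⟨⟨⟨⟨hu, -⟩, -⟩, -⟩, -⟩, -⟩, -⟩, hW⟩, -⟩, ht⟩, hbg⟩, hbt⟩, -⟩, -⟩, -⟩, -⟩ := hA'
  exact ⟨Nat.eq_of_beq_eq_true ht ▸ (okW_sig hW ⟨((okUn_spec hu T.th).1 (Or.inl List.mem_cons_self)).1, hbt⟩).1, hbg⟩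

theorem za_zero (hA : T.okA D C = true) (y : F) : ∀ δ, Mem D T.za δ → one1 T.g0 y δ = 0 := fun δ hδ => by
  simp only [Top.okA, Bool.and_eq_true, kall_iff] at hA
  have := beq_iff_eq.1 (hA.2 δ (mem_krange0 hδ.1))
  rw [hδ.2, eq_comm, Bool.and_eq_true, Bool.not_eq_true'] at this
  exact one1_ne (Nat.ne_of_beq_eq_false this.2) y

/-- A vector that is an eigenvector of the whole radical. -/
theorem radical_vec (hA : T.okA D C = true) (hH : T.okH D C = true) (ha : lineDim E (φ := φ) (F := F) T ≠ 0) :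
    ∃ w : ℕ → F, (∀ δ, Mem D T.am δ → w δ = one1 T.g0 (1 : F) δ) ∧ ES E φ (Mem D T.ph) w ≠ ⊥ := by
  simp only [Top.okH, Bool.and_eq_true] at hH
  obtain ⟨⟨⟨⟨⟨⟨⟨⟨⟨⟨⟨⟨⟨⟨⟨hsp, -⟩, -⟩, -⟩, -⟩, -⟩, -⟩, -⟩, -⟩, -⟩, -⟩, -⟩, -⟩, -⟩, -⟩, -⟩ := hH
  obtain ⟨hso, hun⟩ := okSplit_spec E hsp (za_zero T hA (1 : F))
  obtain ⟨w, hw, hne⟩ := extend E (φ := φ) _ _ _ hso fun e => ha (by
    rw [← g0_dim E T hA one_ne_zero, dm]
    exact Submodule.finrank_eq_zero.2 e)
  exact ⟨w, hw, by rwa [ES_congr E (fun δ => (hun δ).symm) fun _ _ => rfl]⟩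

theorem top_cell (hA : T.okA D C = true) (hH : T.okH D C = true) (ha : lineDim E (φ := φ) (F := F) T ≠ 0) :
    (Fintype.card F - 1) * Fintype.card F ^ T.rs.length ≤ dm E φ T.tm (fun _ => (0 : F)) := by
  obtain ⟨w, hw, hne⟩ := radical_vec E T hA hH ha
  have hA' := hA
  simp only [Top.okA, Bool.and_eq_true, decide_eq_true_eq, Nat.blt, Nat.ble_eq] at hA'
  obtain ⟨⟨⟨⟨⟨⟨⟨⟨⟨⟨⟨⟨-, hsn⟩, -⟩, hcg⟩, -⟩, -⟩, -⟩, -⟩, -⟩, -⟩, -⟩, -⟩, -⟩ := hA'
  simp only [Top.okH, Bool.and_eq_true] at hH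
  obtain ⟨⟨⟨⟨⟨⟨⟨⟨⟨⟨⟨⟨⟨⟨⟨-, hsp⟩, hrs⟩, hg⟩, hle⟩, hzle⟩, -⟩, -⟩, -⟩, -⟩, -⟩, -⟩, -⟩, -⟩, -⟩, -⟩ := hH
  obtain ⟨hso, hun⟩ := okSplit_spec E (F := F) (w := fun _ => (0 : F)) hsp fun _ _ => rfl
  have hgm := g0_mem T hA
  have hz : ∀ δ, Mem D T.tm δ → w δ = 0 := fun δ hδ => by
    have h1 := za_zero T hA (1 : F) δ (okLe_spec hzle hδ)
    rw [← h1]
    refine hw δ ?_
    have h2 := (okLe_spec hzle hδ)
    exact za_le hA h2
  obtain ⟨S, hc, hS⟩ := cellSet E (φ := φ) hrs (fun δ h => (hun δ).1 (Or.inr h)) ⟨hgm.1, hg⟩ ⟨T.sn, hsn⟩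
    (Or.inr hcg) hz (by rw [hw _ hgm, one1_self]; exact one_ne_zero) hne
  have h := split_ge E (φ := φ) _ _ _ hso S (fun f hf δ hδ => (hS f hf).1 δ hδ) fun f hf f' hf' heq => by
    rw [← (hS f hf).2.2.1, ← (hS f' hf').2.2.1]
    funext δ
    by_cases hδ : Mem D T.ph δ
    · rw [nrm_mem f hδ, nrm_mem f' hδ]
      rcases (hun δ).2 hδ with h' | h'
      · exact heq δ h'
      · rw [(hS f hf).1 δ h', (hS f' hf').1 δ h']
    · simp [nrm, hδ]
  rw [← hc, Finset.card_eq_sum_ones]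
  refine le_trans (Finset.sum_le_sum fun f hf => Nat.one_le_iff_ne_zero.2 fun e => (hS f hf).2.2.2 ?_) h
  rw [← Submodule.finrank_eq_zero.1 e]
  exact ES_congr E (fun δ => (hun δ).symm) fun _ _ => rfl
where
  za_le {D : ChevalleyDatum} {C : Cert} {T : Top} (hA : T.okA D C = true) {δ : ℕ} (h : Mem D T.za δ) :
      Mem D T.am δ := by
    simp only [Top.okA, Bool.and_eq_true, kall_iff] at hA
    have := beq_iff_eq.1 (hA.2 δ (mem_krange0 h.1))
    rw [h.2, eq_comm, Bool.and_eq_true] at this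
    exact ⟨h.1, this.1⟩

theorem simple_vec (hA : T.okA D C = true) (hH : T.okH D C = true) (hL : T.okL D C = true)
    (ha : lineDim E (φ := φ) (F := F) T = 1) : SimpleVec E φ T.pos T.sn := by
  obtain ⟨w, hw, hne⟩ := radical_vec E T hA hH (by omega)
  simp only [Top.okH, Bool.and_eq_true, kall_iff, decide_eq_true_eq, Bool.not_eq_true', Bool.or_eq_true,
    List.elem_eq_mem, Nat.blt, Nat.ble_eq] at hH
  obtain ⟨⟨⟨⟨⟨⟨⟨⟨⟨⟨⟨⟨⟨⟨⟨-, -⟩, -⟩, -⟩, hle⟩, -⟩, hr0⟩, hvan⟩, -⟩, hcov⟩, hnb⟩, hnbs⟩, hnb2⟩, hnb3⟩, hsg⟩,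
    hsph⟩ := hH
  simp only [Top.okL, Bool.and_eq_true, kall_iff, decide_eq_true_eq, Bool.not_eq_true', Bool.or_eq_true,
    List.elem_eq_mem, Nat.blt, Nat.ble_eq] at hL
  obtain ⟨⟨⟨⟨⟨⟨⟨⟨⟨⟨⟨hW, hWb⟩, hs0⟩, hsb⟩, ho⟩, hob⟩, hz2⟩, hs2⟩, htri⟩, hcov2⟩, hpp⟩, -⟩ := hL
  have hgm := g0_mem T hA
  obtain ⟨v, hv, hv0⟩ := Submodule.exists_mem_ne_zero_of_ne_bot hne
  have hline : Module.finrank ℂ ↥(ES E φ (Mem D T.am) (one1 T.g0 (1 : F))) = 1 :=
    (g0_dim E T hA one_ne_zero).trans ha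
  have hle' : ES E φ (Mem D T.ph) w ≤ ES E φ (Mem D T.am) (one1 T.g0 (1 : F)) :=
    ES_mono E (fun δ hδ => okLe_spec hle hδ) fun δ hδ => (hw δ hδ).symm
  have heq := Submodule.eq_of_le_of_finrank_le hle' (by
    rw [hline]; exact Submodule.one_le_finrank_iff.2 hne)
  -- the lower phases vanish away from the fundamental root
  have hlow : ∀ δ, Mem D T.ph δ → δ ≠ T.g0 → δ ≠ C.sr T.sn → w δ = 0 := fun δ hδ h1 h2 => by
    rcases hcov δ (mem_krange0 hδ.1) with ((h | h) | h) | h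
    · exact absurd hδ.2 (by simp [h])
    · rw [hw δ ⟨hδ.1, h⟩, one1_ne h1]
    · exact absurd (Nat.eq_of_beq_eq_true h) h2
    · obtain ⟨⟨δ', r, e⟩, hp, rfl⟩ := List.mem_map.1 h
      obtain ⟨⟨⟨⟨hr, he⟩, hen⟩, hel⟩, hsum⟩ := hvan _ hp
      obtain ⟨x, hx⟩ := line_eig E (okStab_spec E (hr0 r hr).1 (za_zero T hA (1 : F)))
        (fun h' => by have := h'.2; rw [(hr0 r hr).2] at this; exact Bool.noConfusion this) hline
      have hk := comm_triv E (okRow_spec (hr0 r hr).1).1 hel (Nat.ne_of_beq_eq_false hen) hsum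
        (hx v (hle' hv)) (hv e ⟨hel, he⟩)
      refine (phase_unique E (R := fun k => k = δ') (w' := fun _ => (0 : F)) hv0
        (fun k hk' a => by subst hk'; exact hv _ hδ a) (fun k hk' a => ?_) rfl)
      subst hk'
      rw [hk a, zero_mul, AddChar.map_zero_eq_one, one_smul]
  have hs : w (C.sr T.sn) = 0 := by
    obtain ⟨hrn, hrs⟩ := okRow_spec hnb
    have hk : ∀ δ, Mem D T.ph δ → ∀ k, D.chainRoot T.nb.1 δ 1 = some k →
        Mem D T.ph k ∧ (Mem D T.am δ → k ≠ T.g0 ∧ k ≠ C.sr T.sn) := fun δ hδ k h' => by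
      have := (hrs δ hδ).2.2 k h'
      simp only [Bool.and_eq_true, Bool.or_eq_true, Bool.not_eq_true'] at this
      exact ⟨⟨(chain_some E.S.chain hrn (k := 0) h').1, this.1⟩, fun ham =>
        ⟨Nat.ne_of_beq_eq_false (this.2.resolve_left (by simp [ham.2])).1,
          Nat.ne_of_beq_eq_false (this.2.resolve_left (by simp [ham.2])).2⟩⟩
    have h1 := translate E (R := Mem D T.ph) ⟨hrn, fun δ hδ => ⟨(hrs δ hδ).1, (hrs δ hδ).2.1,
      fun k h' => (hk δ hδ k h').1⟩⟩ (1 : F) hv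
    have h2 : φ (g E T.nb.1 (1 : F)) v ∈ ES E φ (Mem D T.am) (one1 T.g0 (1 : F)) := fun δ hδ a => by
      have := h1 δ (okLe_spec hle hδ) a
      rwa [shiftW_zero (fun k h' => hlow k (hk δ (okLe_spec hle hδ) k h').1
        ((hk δ (okLe_spec hle hδ) k h').2 hδ).1 ((hk δ (okLe_spec hle hδ) k h').2 hδ).2), hw δ hδ] at this
    rw [← heq] at h2
    have h3 := phase_unique E (act_ne_zero φ _ hv0) h1 h2 (⟨hnb3, hnb2⟩ : Mem D T.ph T.nb.2)
    rw [shiftW_some hnbs, sub_eq_self, mul_one] at h3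
    refine (mul_eq_zero.1 h3).resolve_left ?_
    rcases unit_M E.hone hrn hnbs with e | e <;> simp [e]
  -- the second line
  obtain ⟨n, κ, hκ, hn⟩ := wey E (φ := φ) hW
  obtain ⟨nb, κb, hκb, hnb'⟩ := wey E (φ := φ) hWb
  have hsn : C.sr T.sn < D.nroots := by
    have := (chain_some E.S.chain (okRow_spec hnb).1 (k := 0) hnbs).1
    exact this
  have hgph : Mem D T.ph T.g0 := okLe_spec hle hgm
  have hsm : Mem D T.ph (C.sr T.sn) := ⟨hsn, hsph⟩
  set c : F := κ (C.sr T.sn) with hc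
  have hc0 : c ≠ 0 := hκ _ hsm
  have hv2 : φ n v ∈ ES E φ (Mem D T.ph) (one1 (C.sr T.sn) c) := fun δ hδ a => by
    rw [hn w v hv δ hδ a]
    dsimp only
    rcases eq_or_ne δ (C.sr T.sn) with rfl | hd
    · rw [Nat.eq_of_beq_eq_true hs0, hw _ hgm, one1_self, one1_self, mul_one]
    · rw [one1_ne hd]
      have hσ : sig C T.w0 δ ≠ T.g0 := by
        rcases ho δ (mem_krange0 hδ.1) with (h | h) | h
        · exact absurd hδ.2 (by simp [h])
        · exact absurd (Nat.eq_of_beq_eq_true h) hd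
        · exact Nat.ne_of_beq_eq_false h
      rcases eq_or_ne (sig C T.w0 δ) (C.sr T.sn) with h | h
      · rw [h, hs, mul_zero]
      · rw [hlow _ (okW_sig hW hδ) hσ h, mul_zero]
  have h2line : Module.finrank ℂ ↥(ES E φ (Mem D T.ph) (one1 (C.sr T.sn) c)) = 1 := by
    refine le_antisymm ?_ (Submodule.one_le_finrank_iff.2 ((Submodule.ne_bot_iff _).2
      ⟨_, hv2, act_ne_zero φ n hv0⟩))
    refine (finrank_le_of_map E nb (hnb' (one1 (C.sr T.sn) c))).trans (le_of_eq ?_)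
    rw [← ha, ← g0_dim E T hA (mul_ne_zero (hκb _ hgm) hc0)]
    refine dm_congr E fun δ hδ => ?_
    rcases eq_or_ne δ T.g0 with rfl | hd
    · rw [Nat.eq_of_beq_eq_true hsb, one1_self, one1_self]
    · rw [one1_ne hd, one1_ne, mul_zero]
      rcases hob δ (mem_krange0 hδ.1) with (h | h) | h
      · exact absurd hδ.2 (by simp [h])
      · exact absurd (Nat.eq_of_beq_eq_true h) hd
      · exact Nat.ne_of_beq_eq_false h
  have heig : ∀ r ∈ T.s2, r < D.nroots ∧ ∃ x : F, ∀ a, φ (g E r a) (φ n v) = psi (x * a) • φ n v := fun r hr => by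
    have hz : ∀ δ, Mem D (T.z2 C) δ → one1 (C.sr T.sn) c δ = 0 := fun δ hδ => by
      have := beq_iff_eq.1 (hz2 δ (mem_krange0 hδ.1))
      rw [hδ.2, eq_comm, Bool.and_eq_true, Bool.not_eq_true'] at this
      exact one1_ne (Nat.ne_of_beq_eq_false this.2) c
    obtain ⟨x, hx⟩ := line_eig E (okStab_spec E (hs2 r hr).1 hz)
      (fun h' => by have := h'.2; rw [(hs2 r hr).2] at this; exact Bool.noConfusion this) h2line
    exact ⟨(okRow_spec (hs2 r hr).1).1, x, hx _ hv2⟩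
  refine ⟨one1 (C.sr T.sn) c, fun δ _ hd => one1_ne hd c, by rw [one1_self]; exact hc0,
    (Submodule.ne_bot_iff _).2 ⟨φ n v, fun δ hδ a => ?_, act_ne_zero φ n hv0⟩⟩
  rcases hcov2 δ (mem_krange0 hδ.1) with (h | h) | h
  · exact absurd hδ.2 (by simp [h])
  · exact hv2 δ ⟨hδ.1, h⟩ a
  · obtain ⟨⟨δ', r, e⟩, hp, rfl⟩ := List.mem_map.1 h
    obtain ⟨⟨⟨⟨hr, he⟩, hen⟩, hel⟩, hsum⟩ := htri _ hp
    obtain ⟨hrn, x, hx⟩ := heig r hr
    obtain ⟨-, y, hy⟩ := heig e he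
    rw [comm_triv E hrn hel (Nat.ne_of_beq_eq_false hen) hsum hx hy a]
    rcases eq_or_ne δ' (C.sr T.sn) with e' | e'
    · subst e'
      have h4 := hv2 (C.sr T.sn) hsm a
      rw [comm_triv E hrn hel (Nat.ne_of_beq_eq_false hen) hsum hx hy a] at h4
      exact h4
    · rw [one1_ne e', zero_mul, AddChar.map_zero_eq_one, one_smul]

/-- The lower bound for the fixed space of the highest root subgroup. -/
theorem fix_bound (hA : T.okA D C = true) (hH : T.okH D C = true) (hL : T.okL D C = true) {steps : List Step}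
    (hS : okSteps D C T.pos steps T.tm = true) (ha : lineDim E (φ := φ) (F := F) T = 1) :
    stepsSum (Fintype.card F) steps ≤ dm E φ T.tm (fun _ => (0 : F)) := by
  have hU := simple_vec E T hA hH hL ha
  simp only [Top.okL, Bool.and_eq_true] at hL
  exact count E (tree E T.tree [T.sn] hL.2 (by simpa using hU)) steps T.tm hS

end Cfsg.Lib.EDeg
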