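import Cfsg.Agent.Chev.EDeg.TwTop

/-! Passing between adjacent fixed fundamental roots. -/

set_option autoImplicit false
set_option linter.unusedSectionVars false
set_option maxHeartbeats 1000000

open Cfsg.Lie
open Cfsg.Lib.Chev

namespace Cfsg.Lib.EDegTw

open Cfsg.Lib.EDeg (bit Mem okLe okLe_spec mem_of_kall sig)

section tables

variable (W : TwDat) (D : ChevalleyDatum) (C : Cert)

/-- The checks for one side of a pair of adjacent fixed fundamental roots. -/
noncomputable def okHalf (Q A B Z : ℕ) (K : List ℕ) : Bool :=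
  let QA := addCl W D Q A
  let QZ := addCl W D Q Z
  let QAZ := addCl W D QA Z
  Nat.beq (addCl W D QZ A) QAZ &&
  okCl W D Q && okCl W D QA && okCl W D QZ && okCl W D QAZ &&
  okStep W D Q Q Z && okStep W D QA Q Z && okStep W D QZ Q A && okStep W D QAZ QZ B &&
  okWey W D C K QA QZ && okWey W D C K QZ QA &&
  okTrans W D QAZ B && okSingle W D Q B A Z && bit QAZ A && !Nat.beq A Z && !bit Q Z && !bit Q A &&
  kall (fun δ => !bit QAZ δ || Nat.beq δ A || okFix W D Q B δ) (krange 0 D.nroots) &&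
  Nat.beq (rh W D A) A && Nat.beq (rh W D B) B && Nat.beq (rh W D Z) Z && okLe D Q QAZ

/-- The checks for a pair of adjacent fixed fundamental roots. -/
noncomputable def okAdj (P Q Z a b : ℕ) (Ka Kb : List ℕ) : Bool :=
  okHalf W D C Q a b Z Kb && okHalf W D C Q b a Z Ka &&
  Nat.beq (addCl W D (addCl W D (addCl W D Q a) Z) b) P &&
  Nat.beq (addCl W D (addCl W D (addCl W D Q b) Z) a) P

end tables

variable {D D' : ChevalleyDatum} {C C' : Cert} {W : TwDat} {T : List (List ℤ)} {F : Type*} [Field F] [Fintype F]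
  {X : Tw D D' C C' W T F} (E : TEnv X)
  {V : Type*} [AddCommGroup V] [Module ℂ V] [FiniteDimensional ℂ V] {φ : ↥X.G1 →* Module.End ℂ V}

theorem upd_fix {w : ℕ → F} {r δ : ℕ} (hr : rh W D r = r) (hd : δ ≠ r) (x : F) : upd X w r x δ = w δ := by
  rw [upd, if_neg hd, if_neg (by rw [hr]; exact hd)]

theorem sum_split {α : Type*} [Fintype α] [DecidableEq α] [Zero α] (f : α → ℕ) :
    ∑ x, f x = f 0 + ∑ x ∈ Finset.univ.erase 0, f x := (Finset.add_sum_erase _ _ (Finset.mem_univ 0)).symm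

include E in
open scoped Classical in
theorem half {Q A B Z : ℕ} {K : List ℕ} (h : okHalf W D C Q A B Z K = true) :
    ∃ S : ℕ, dm φ (addCl W D Q A) (fun _ => (0 : F)) = dm φ (addCl W D (addCl W D Q A) Z) (fun _ => (0 : F)) + S ∧
      dm φ (addCl W D Q Z) (fun _ => (0 : F)) = dm φ (addCl W D (addCl W D Q A) Z) (fun _ => (0 : F)) + S ∧
      dm φ Q (fun _ => (0 : F)) = dm φ (addCl W D Q Z) (fun _ => (0 : F)) + X.q * S ∧
      dm φ (addCl W D (addCl W D Q A) Z) (fun _ => (0 : F)) =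
        dm φ (addCl W D (addCl W D (addCl W D Q A) Z) B) (fun _ => (0 : F)) +
          ∑ x ∈ Finset.univ.erase (0 : ↥(AG X B)),
            dm φ (addCl W D (addCl W D (addCl W D Q A) Z) B) (upd X (fun _ => (0 : F)) B x) := by
  simp only [okHalf, Bool.and_eq_true, Bool.not_eq_true'] at h
  obtain ⟨⟨⟨⟨⟨⟨⟨⟨⟨⟨⟨⟨⟨⟨⟨⟨⟨⟨⟨⟨⟨he, c1⟩, c2⟩, c3⟩, c4⟩, s1⟩, s2⟩, s3⟩, s4⟩, hW⟩, hW'⟩, htr⟩, hsing⟩, hA⟩, hAZ⟩, hZQ⟩,
    hAQ⟩, hfix⟩, hρA⟩, hρB⟩, hρZ⟩, hle⟩ := h
  have hAZ' : A ≠ Z := Nat.ne_of_beq_eq_false hAZ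
  have hρA := Nat.eq_of_beq_eq_true hρA
  have hρB := Nat.eq_of_beq_eq_true hρB
  have hρZ := Nat.eq_of_beq_eq_true hρZ
  have he := Nat.eq_of_beq_eq_true he
  have hc : ∀ r : ℕ, upd X (fun _ => (0 : F)) r ((0 : ↥(AG X r)) : F) = fun _ => 0 := fun r => by
    funext δ
    simp [upd]
  have h0 : ∀ R, Eqv X R (fun _ => (0 : F)) := fun R δ _ => by simp
  have hz0 : ∀ (z m : ℕ), ∀ k, Mem D m k → bit z k = true → (fun _ => (0 : F)) k = 0 := fun _ _ _ _ _ => rfl
  have hmove : ∀ {src dst : ℕ}, okWey W D C K src dst = true →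
      dm φ src (fun _ => (0 : F)) ≤ dm φ dst (fun _ => (0 : F)) := fun {src dst} hh => by
    obtain ⟨n, κ, -, -, hn⟩ := wey E (φ := φ) hh
    refine finrank_le_of_map n fun v hv => ?_
    have := hn _ v hv
    simpa using this
  have eAZ : dm φ (addCl W D Q A) (fun _ => (0 : F)) = dm φ (addCl W D Q Z) (fun _ => (0 : F)) :=
    le_antisymm (hmove hW) (hmove hW')
  obtain ⟨-, q1, q2, q3, p1⟩ := step_props E (φ := φ) s1 (okCl_spec E c1) (h0 _) (hz0 _ _)
  obtain ⟨-, -, -, -, p2⟩ := step_props E (φ := φ) s2 (okCl_spec E c2) (h0 _) (hz0 _ _)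
  obtain ⟨-, -, -, -, p4⟩ := step_props E (φ := φ) s4 (okCl_spec E c4) (h0 _) (hz0 _ _)
  rw [sum_split, hc] at p1 p2 p4
  refine ⟨∑ x ∈ Finset.univ.erase (0 : ↥(AG X Z)),
    dm φ (addCl W D (addCl W D Q A) Z) (upd X (fun _ => (0 : F)) Z x), p2, by rw [← eAZ]; exact p2, ?_, p4⟩
  rw [p1, Finset.mul_sum]
  refine congrArg _ (Finset.sum_congr rfl fun x hx => ?_)
  have hx0 : (x : F) ≠ 0 := fun e => (Finset.mem_erase.1 hx).1 (Subtype.ext e)
  have hweZ := q1 x x.2
  have hQ0 : ∀ j, Mem D Q j → upd X (fun _ => (0 : F)) Z (x : F) j = 0 := fun j hj =>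
    upd_fix hρZ (fun e => by subst e; simp [hj.2] at hZQ) _
  obtain ⟨-, r1, -, r3, p3⟩ := step_props E (φ := φ) s3 (okCl_spec E c3) hweZ fun k hk hb => hQ0 k ⟨hk.1, hb⟩
  have hcard : Fintype.card ↥(AG X A) = X.q := by
    rw [card_AG E r3.1]
    simp [cl, hρA]
  rw [p3, he]
  set m := addCl W D (addCl W D Q A) Z
  have hcl := okCl_spec E c4
  have r1' : ∀ y ∈ AG X A, Eqv X (Mem D m) (upd X (upd X (fun _ => (0 : F)) Z (x : F)) A y) := fun y hy => by
    have := r1 y hy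
    rwa [he] at this
  have key : ∀ y y' : ↥(AG X A), dm φ m (upd X (upd X (fun _ => (0 : F)) Z (x : F)) A (y : F)) ≤
      dm φ m (upd X (upd X (fun _ => (0 : F)) Z (x : F)) A (y' : F)) := fun y y' => by
    set w := upd X (upd X (fun _ => (0 : F)) Z (x : F)) A (y : F) with hw
    have hQw : ∀ j, Mem D Q j → w j = 0 := fun j hj => by
      rw [hw, upd_fix hρA (fun e => by subst e; simp [hj.2] at hAQ) _]
      exact hQ0 j hj
    have hwZ : w Z = x := by rw [hw, upd_fix hρA hAZ'.symm, upd_self]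
    obtain ⟨-, hM, hch, hAn, hBn⟩ := okSingle_spec E hsing hQw 0
    have hZn := (chain_some X.S.chain hBn (k := 0) hch).1
    set t := ((y : F) - y') / ((D.chainM B A 1 : F) * x) with ht
    have htA : t ∈ AG X B := (allowed_iff E hBn).2 fun _ => by
      obtain ⟨-, -, e⟩ := chain_eqv E hBn hch hAn
      rw [hρB, hρA] at e
      have e' : X.eps B * X.eps A = X.eps Z := mul_right_cancel₀ hM e
      have a1 := (allowed_iff E hAn).1 y.2 hρA
      have a2 := (allowed_iff E hAn).1 y'.2 hρA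
      have a3 := (allowed_iff E hZn).1 x.2 hρZ
      have hfy : X.f ((y : F) - y') = X.eps A * ((y : F) - y') := by
        rw [map_sub]
        linear_combination X.eps A * a1 - X.eps A * a2 - (X.f (y : F) - X.f (y' : F)) * eps_sq E hAn
      have hfx : X.f (x : F) = X.eps Z * x := by
        linear_combination X.eps Z * a3 - X.f (x : F) * eps_sq E hZn
      rw [ht, map_div₀, map_mul, fM E, hfy, hfx, ← e']
      have h1 : X.eps B ≠ 0 := fun hh => by simpa [hh] using eps_sq E hBn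
      have h2 : X.eps A ≠ 0 := fun hh => by simpa [hh] using eps_sq E hAn
      field_simp
    obtain ⟨-, hmap⟩ := translate E (φ := φ) htr hcl.rho (r1' y y.2) htA
    refine (finrank_le_of_map _ hmap).trans (le_of_eq (dm_congr fun δ hδ => ?_))
    rcases eq_or_ne δ A with rfl | hd
    · rw [(okSingle_spec E hsing hQw t).1, hwZ, upd_self, hw, upd_self, ht]
      field_simp
      ring
    · have := mem_of_kall hfix hδ.1
      simp only [hδ.2, Bool.not_true, Bool.false_or, Bool.or_eq_true] at this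
      rw [okFix_spec E hBn (this.resolve_left fun e => hd (Nat.eq_of_beq_eq_true e)) hQw t, hw, upd_fix hρA hd,
        upd_fix hρA hd]
  rw [Finset.sum_congr rfl fun y _ => le_antisymm (key y 0) (key 0 y), Finset.sum_const, Finset.card_univ, hcard,
    smul_eq_mul]
  congr 1
  refine dm_congr fun δ _ => ?_
  rcases eq_or_ne δ A with rfl | hd
  · rw [upd_self, upd_fix hρZ hAZ']
    simp
  · rw [upd_fix hρA hd]

include E in
theorem adjacent {P Q Z a b : ℕ} {Ka Kb : List ℕ} (h : okAdj W D C P Q Z a b Ka Kb = true) (hA : SVec φ P a) :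
    SVec φ P b := by
  classical
  simp only [okAdj, Bool.and_eq_true] at h
  obtain ⟨⟨⟨h1, h2⟩, h3⟩, h4⟩ := h
  obtain ⟨S, a1, a2, a3, a4⟩ := half E (φ := φ) h1
  obtain ⟨S', b1, b2, b3, b4⟩ := half E (φ := φ) h2
  rw [Nat.eq_of_beq_eq_true h3] at a4
  rw [Nat.eq_of_beq_eq_true h4] at b4
  have hS : S = S' := Nat.eq_of_mul_eq_mul_left (show 0 < X.q by have := X.hq; omega) (by omega)
  simp only [okHalf, Bool.and_eq_true] at h1 h2
  have hρb := Nat.eq_of_beq_eq_true h1.1.1.2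
  have hρa := Nat.eq_of_beq_eq_true h2.1.1.2
  have hsb := h1.1.1.1.1.1.1.1.1.1.1.1.1.1.2
  have hsa := h2.1.1.1.1.1.1.1.1.1.1.1.1.1.2
  have hcb := h1.1.1.1.1.1.1.1.1.1.1.1.1.1.1.1.1.1.2
  have hca := h2.1.1.1.1.1.1.1.1.1.1.1.1.1.1.1.1.1.2
  obtain ⟨-, q1, q2, q3, -⟩ := step_props E (φ := φ) hsb (okCl_spec E hcb) (w := fun _ => (0 : F))
    (fun δ _ => by simp) fun _ _ _ => rfl
  obtain ⟨-, -, -, r3, -⟩ := step_props E (φ := φ) hsa (okCl_spec E hca) (w := fun _ => (0 : F))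
    (fun δ _ => by simp) fun _ _ _ => rfl
  rw [Nat.eq_of_beq_eq_true h3] at q1
  rw [Nat.eq_of_beq_eq_true h4] at r3
  obtain ⟨w, hwe, hw0, hwa, hne⟩ := hA
  have hma : w a ∈ AG X a := (allowed_iff E r3.1).2 fun e => by
    have := hwe a r3
    rw [e] at this
    exact this.symm
  have hpos : 0 < ∑ x ∈ Finset.univ.erase (0 : ↥(AG X a)), dm φ P (upd X (fun _ => (0 : F)) a x) := by
    refine lt_of_lt_of_le ?_ (Finset.single_le_sum (fun _ _ => Nat.zero_le _)
      (Finset.mem_erase.2 ⟨fun e => hwa (congrArg Subtype.val e), Finset.mem_univ (⟨w a, hma⟩ : ↥(AG X a))⟩))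
    rw [dm_congr (w' := w) fun δ hδ => ?_]
    · exact Nat.pos_of_ne_zero hne
    · rcases eq_or_ne δ a with rfl | hd
      · rw [upd_self]
      · rw [upd_fix hρa hd, hw0 δ hδ hd]
  obtain ⟨x, hx, hx'⟩ := Finset.exists_ne_zero_of_sum_ne_zero
    (show ∑ x ∈ Finset.univ.erase (0 : ↥(AG X b)), dm φ P (upd X (fun _ => (0 : F)) b x) ≠ 0 by omega)
  refine ⟨_, q1 x x.2, fun δ _ hd => upd_fix hρb hd _, ?_, hx'⟩
  rw [upd_self]
  exact fun e => (Finset.mem_erase.1 hx).1 (Subtype.ext e)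

end Cfsg.Lib.EDegTw
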