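import Cfsg.Agent.Chev.EDeg.TwTab

/-! Words and phases in the twisted groups. -/

set_option autoImplicit false
set_option linter.unusedSectionVars false

open Cfsg.Lie
open Cfsg.Lib.Chev
open Cfsg.Lib.TwDeg (act_end act_ne_zero)
open Cfsg.Lib.GTwoDeg (psi psi_nd)

namespace Cfsg.Lib.EDegTw

open Cfsg.Lib.EDeg (Env bit Mem okOne okRow row tgt sig shiftW shiftW_some shiftW_none shiftW_zero rel_comm
  chainRoot_mem unit_M commTerms_eq)

variable {D D' : ChevalleyDatum} {C C' : Cert} {W : TwDat} {T : List (List ℤ)} {F : Type*} [Field F]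

/-- A twisted group of order two over a simply laced system, with checked tables. -/
structure TEnv (X : Tw D D' C C' W T F) : Prop where
  hone : okOne D = true
  hm : W.m = 2
  hcls : okCls W D = true
  hmem : ∀ r < D.nroots, ∀ t ∈ X.Allowed (cl W D r), X.y (cl W D r) t ∈ X.G1

variable {X : Tw D D' C C' W T F} (E : TEnv X)

theorem env (E : TEnv X) : Env D C := ⟨X.S, X.hN, E.hone⟩

section facts

include E

theorem cls_row {r : ℕ} (hr : r < D.nroots) :
    rh W D r < D.nroots ∧ rh W D (rh W D r) = r ∧ ((X.eps r) = 1 ∨ (X.eps r) = -1) ∧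
      X.eps r * X.eps (rh W D r) = 1 ∧ TwDat.commOK D r (rh W D r) = true ∧
      TwDat.commOK D (rh W D r) r = true := by
  have h := kall_krange E.hcls r hr
  simp only [Bool.and_eq_true, Bool.or_eq_true, decide_eq_true_eq, Nat.blt, Nat.ble_eq] at h
  obtain ⟨⟨⟨⟨⟨⟨⟨h1, h2⟩, h3⟩, h4⟩, h5⟩, h6⟩, -⟩, -⟩ := h
  refine ⟨h1, Nat.eq_of_beq_eq_true h2, ?_, ?_, h5, h6⟩
  · rcases h3 with e | e
    · exact Or.inl (by show ((ep W D r : ℤ) : F) = 1; rw [e, Int.cast_one])
    · exact Or.inr (by show ((ep W D r : ℤ) : F) = -1; rw [e]; simp)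
  · show ((ep W D r : ℤ) : F) * ((ep W D (rh W D r) : ℤ) : F) = 1
    rw [← Int.cast_mul, h4, Int.cast_one]

theorem chain_eqv {r δ k : ℕ} (hr : r < D.nroots) (hk : D.chainRoot r δ 1 = some k) :
    δ < D.nroots → D.chainRoot (rh W D r) (rh W D δ) 1 = some (rh W D k) ∧ D.chainRoot δ r 1 = some k ∧
      X.eps r * X.eps δ * (D.chainM (rh W D r) (rh W D δ) 1 : F) = X.eps k * (D.chainM r δ 1 : F) := by
  intro hδ
  have hkn := (chain_some X.S.chain hr (k := 0) hk).1
  obtain ⟨e, he, rfl, rfl⟩ := chainRoot_mem hk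
  have h := kall_krange E.hcls r hr
  simp only [Bool.and_eq_true] at h
  have h' := (kall_iff _ _).1 h.1.2 e he
  simp only [Bool.and_eq_true, decide_eq_true_eq] at h'
  refine ⟨of_sumOr (Nat.eq_of_beq_eq_true h'.1.1) (cls_row E hkn).1, of_sumOr (Nat.eq_of_beq_eq_true h'.2) hkn, ?_⟩
  have e2 := congrArg (fun z : ℤ => (z : F)) h'.1.2
  simp only [Int.cast_mul] at e2
  exact e2

theorem chain_eqv_none {r δ : ℕ} (hr : r < D.nroots) (hδ : δ < D.nroots) (hk : D.chainRoot r δ 1 = none) :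
    D.chainRoot (rh W D r) (rh W D δ) 1 = none := by
  cases e : D.chainRoot (rh W D r) (rh W D δ) 1 with
  | none => rfl
  | some k =>
    obtain ⟨h, -⟩ := chain_eqv E (cls_row E hr).1 e (cls_row E hδ).1
    rw [(cls_row E hr).2.1, (cls_row E hδ).2.1, hk] at h
    simp at h

theorem ff (t : F) : X.f (X.f t) = t := by
  have := X.f_iter t
  rwa [show W.m = 2 from E.hm] at this

theorem feps (r : ℕ) : X.f (X.eps r) = X.eps r := by rw [Tw.eps, map_intCast]

theorem fM (r δ : ℕ) : X.f (D.chainM r δ 1 : F) = (D.chainM r δ 1 : F) := map_intCast X.f _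

theorem sig_x {r : ℕ} (hr : r < D.nroots) (t : F) :
    X.sig (X.S.ok.xG r t) = X.S.ok.xG (rh W D r) (X.eps r * X.f t) := X.sig_xG hr t

end facts

/-- The phases are compatible with the twisting. -/
def Eqv (X : Tw D D' C C' W T F) (R : ℕ → Prop) (w : ℕ → F) : Prop :=
  ∀ δ, R δ → w (rh W D δ) = X.eps δ * X.f (w δ)

/-- The value of a word. -/
def val (w : ℕ → F) (L : List (ℕ × F)) : F := (L.map fun p => w p.1 * p.2).sum

theorem val_nil (w : ℕ → F) : val w [] = 0 := rfl

theorem val_cons (w : ℕ → F) (p : ℕ × F) (L : List (ℕ × F)) : val w (p :: L) = w p.1 * p.2 + val w L := by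
  simp [val]

theorem val_append (w : ℕ → F) (L L' : List (ℕ × F)) : val w (L ++ L') = val w L + val w L' := by
  simp [val]

theorem val_congr {R : ℕ → Prop} {w w' : ℕ → F} (h : ∀ δ, R δ → w δ = w' δ) :
    ∀ L : List (ℕ × F), (∀ p ∈ L, R p.1) → val w L = val w' L
  | [], _ => rfl
  | p :: L, hL => by
    rw [val_cons, val_cons, h _ (hL p List.mem_cons_self),
      val_congr h L fun q hq => hL q (List.mem_cons_of_mem _ hq)]

/-- A word over a set. -/
def WIn (D : ChevalleyDatum) (R : ℕ → Prop) (L : List (ℕ × F)) : Prop := ∀ p ∈ L, p.1 < D.nroots ∧ R p.1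

theorem WIn.append {R : ℕ → Prop} {L L' : List (ℕ × F)} (h : WIn D R L) (h' : WIn D R L') : WIn D R (L ++ L') :=
  fun p hp => (List.mem_append.1 hp).elim (h p) (h' p)

theorem WIn.mono {R R' : ℕ → Prop} {L : List (ℕ × F)} (h : WIn D R L) (hR : ∀ δ, R δ → R' δ) : WIn D R' L :=
  fun p hp => ⟨(h p hp).1, hR _ (h p hp).2⟩

/-- Moving an element across words. -/
def Carr (X : Tw D D' C C' W T F) (g : GL D.Idx F) (R : ℕ → Prop) (w : ℕ → F) (R' : ℕ → Prop) (w' : ℕ → F) :
    Prop :=
  ∀ L, WIn D R' L → ∃ L', WIn D R L' ∧ X.S.ok.wG L * g = g * X.S.ok.wG L' ∧ val w L' = val w' L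

theorem Carr.comp {g1 g2 : GL D.Idx F} {R R1 R2 : ℕ → Prop} {w w1 w2 : ℕ → F} (h1 : Carr X g1 R1 w1 R2 w2)
    (h2 : Carr X g2 R w R1 w1) : Carr X (g1 * g2) R w R2 w2 := fun L hL => by
  obtain ⟨L1, a1, b1, c1⟩ := h1 L hL
  obtain ⟨L2, a2, b2, c2⟩ := h2 L1 a1
  exact ⟨L2, a2, by rw [← mul_assoc, b1, mul_assoc, b2, mul_assoc], c2.trans c1⟩

theorem carr_of_letters {g : GL D.Idx F} {R R' : ℕ → Prop} {w w' : ℕ → F}
    (h : ∀ δ, δ < D.nroots → R' δ → ∀ a, ∃ L', WIn D R L' ∧ X.S.ok.xG δ a * g = g * X.S.ok.wG L' ∧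
      val w L' = w' δ * a) : Carr X g R w R' w' := by
  intro L
  induction L with
  | nil => exact fun _ => ⟨[], fun p hp => by simp at hp, by simp [Ok.wG], rfl⟩
  | cons p L ih =>
    intro hL
    obtain ⟨L1, a1, b1, c1⟩ := ih fun q hq => hL q (List.mem_cons_of_mem _ hq)
    obtain ⟨L0, a0, b0, c0⟩ := h p.1 (hL p List.mem_cons_self).1 (hL p List.mem_cons_self).2 p.2
    refine ⟨L0 ++ L1, a0.append a1, ?_, by rw [val_append, val_cons, c0, c1]⟩
    rw [X.wG_append, show X.S.ok.wG (p :: L) = X.S.ok.xG p.1 p.2 * X.S.ok.wG L by simp [Ok.wG], mul_assoc, b1,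
      ← mul_assoc, b0, mul_assoc]

/-- Translation by one root respects the set. -/
def Trans (D : ChevalleyDatum) (R : ℕ → Prop) (r : ℕ) : Prop :=
  r < D.nroots ∧ ∀ δ, R δ → δ < D.nroots ∧ δ ≠ D.neg r ∧ ∀ k, D.chainRoot r δ 1 = some k → R k

/-- Translation by one root fixes the phases. -/
def Stab (D : ChevalleyDatum) (R : ℕ → Prop) (w : ℕ → F) (r : ℕ) : Prop :=
  r < D.nroots ∧ ∀ δ, R δ → δ < D.nroots ∧ δ ≠ D.neg r ∧ ∀ k, D.chainRoot r δ 1 = some k → R k ∧ w k = 0

theorem Stab.trans {R : ℕ → Prop} {w : ℕ → F} {r : ℕ} (h : Stab D R w r) : Trans D R r :=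
  ⟨h.1, fun δ hδ => ⟨(h.2 δ hδ).1, (h.2 δ hδ).2.1, fun k hk => ((h.2 δ hδ).2.2 k hk).1⟩⟩

include E in
theorem carr_x [Fintype F] {R : ℕ → Prop} {r : ℕ} (hR : Trans D R r) (w : ℕ → F) (t : F) :
    Carr X (X.S.ok.xG r t) R w R (shiftW D w r t) := by
  refine carr_of_letters fun δ hδ hRδ a => ?_
  obtain ⟨-, hne, hsum⟩ := hR.2 δ hRδ
  have e := congrArg Subtype.val (rel_comm (env E) (F := F) hR.1 hδ hne t a)
  cases hk : D.chainRoot r δ 1 with
  | none =>
    refine ⟨[(δ, a)], fun p hp => by obtain rfl := List.mem_singleton.1 hp; exact ⟨hδ, hRδ⟩, ?_, ?_⟩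
    · simpa [hk, Cfsg.Lib.EDeg.g, Ok.wG] using e
    · simp [val, shiftW_none hk]
  | some k =>
    refine ⟨[(δ, a), (k, (D.chainM r δ 1 : F) * -t * a)], fun p hp => ?_, ?_, ?_⟩
    · rcases List.mem_cons.1 hp with rfl | hp
      · exact ⟨hδ, hRδ⟩
      · obtain rfl := List.mem_singleton.1 hp
        exact ⟨(chain_some X.S.chain hR.1 (k := 0) hk).1, hsum k hk⟩
    · simpa [hk, Cfsg.Lib.EDeg.g, Ok.wG] using e
    · simp only [val, List.map_cons, List.map_nil, List.sum_cons, List.sum_nil, shiftW_some hk]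
      ring

/-- The phases after translating by a class. -/
noncomputable def shift2 (X : Tw D D' C C' W T F) (w : ℕ → F) (r : ℕ) (t : F) : ℕ → F :=
  if rh W D r = r then shiftW D w r t
  else shiftW D (shiftW D w (rh W D r) (X.eps r * X.f t)) r t

theorem y_cl (r : ℕ) (t : F) : X.y (cl W D r) t =
    if rh W D r = r then X.S.ok.xG r t else X.S.ok.xG r t * X.S.ok.xG (rh W D r) (X.eps r * X.f t) := by
  by_cases h : rh W D r = r
  · simp [cl, h, Tw.y, Tw.orbW, Ok.wG]
  · have : Nat.beq (rh W D r) r = false := by simpa [← Bool.not_eq_true, Nat.beq_eq] using h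
    simp [cl, this, h, Tw.y, Tw.orbW, Ok.wG]

theorem mem_allowed (hm : ∀ t, X.f (X.f t) = t) {r : ℕ} (he : X.eps r * X.eps (rh W D r) = 1) {t : F} :
    t ∈ X.Allowed (cl W D r) ↔ (rh W D r = r → X.eps r * X.f t = t) := by
  by_cases h : rh W D r = r
  · simp [cl, h, Tw.Allowed, Tw.nxt]
  · have : Nat.beq (rh W D r) r = false := by simpa [← Bool.not_eq_true, Nat.beq_eq] using h
    simp only [cl, this, Bool.false_eq_true, if_false, h, false_imp_iff, iff_true, Tw.Allowed, Set.mem_setOf_eq,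
      Tw.nxt, map_mul, hm]
    rw [show X.f (X.eps r) = X.eps r from map_intCast X.f _, ← mul_assoc, mul_comm (X.eps (rh W D r)), he, one_mul]

include E in
theorem allowed_iff {r : ℕ} (hr : r < D.nroots) {t : F} :
    t ∈ X.Allowed (cl W D r) ↔ (rh W D r = r → X.eps r * X.f t = t) :=
  mem_allowed (ff E) (cls_row E hr).2.2.2.1

/-- The element of a class, in the group. -/
noncomputable def yy (E : TEnv X) (r : ℕ) (t : F) : ↥X.G1 :=
  open Classical in
  if h : r < D.nroots ∧ t ∈ X.Allowed (cl W D r) then ⟨X.y (cl W D r) t, E.hmem r h.1 t h.2⟩ else 1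

theorem yy_val {r : ℕ} (hr : r < D.nroots) {t : F} (ht : t ∈ X.Allowed (cl W D r)) :
    (yy E r t : GL D.Idx F) = X.y (cl W D r) t := by simp [yy, hr, ht]

include E in
theorem carr_y [Fintype F] {R : ℕ → Prop} {r : ℕ} (h1 : Trans D R r) (h2 : rh W D r ≠ r → Trans D R (rh W D r))
    (w : ℕ → F) (t : F) : Carr X (X.y (cl W D r) t) R w R (shift2 X w r t) := by
  rw [y_cl, shift2]
  by_cases h : rh W D r = r
  · rw [if_pos h, if_pos h]
    exact carr_x E h1 w t
  · rw [if_neg h, if_neg h]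
    exact (carr_x E h1 _ t).comp (carr_x E (h2 h) w _)

theorem shift2_stab {R : ℕ → Prop} {w : ℕ → F} {r : ℕ} {t : F} (h1 : Stab D R w r)
    (h2 : rh W D r ≠ r → Stab D R w (rh W D r)) {δ : ℕ} (hδ : R δ) : shift2 X w r t δ = w δ := by
  unfold shift2
  split_ifs with h
  · exact shiftW_zero fun k hk => ((h1.2 δ hδ).2.2 k hk).2
  · have e : ∀ x, R x → shiftW D w (rh W D r) (X.eps r * X.f t) x = w x := fun x hx =>
      shiftW_zero fun k hk => (((h2 h).2 x hx).2.2 k hk).2
    rw [shiftW_zero fun k hk => by rw [e k ((h1.2 δ hδ).2.2 k hk).1]; exact ((h1.2 δ hδ).2.2 k hk).2, e δ hδ]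

theorem blt_self (n : ℕ) : Nat.blt n n = false :=
  Bool.eq_false_iff.2 fun h => absurd (Nat.le_of_ble_eq_true h) (Nat.not_succ_le_self n)

theorem two_none {r r' δ : ℕ} (h : D.chainRoot r δ 1 = none) : two D r r' δ = (D.nroots, 0) := by
  simp [two, sumOr, h, blt_self]

theorem two_some_none {r r' δ k : ℕ} (h : D.chainRoot r δ 1 = some k) (h' : D.chainRoot r' k 1 = none) :
    two D r r' δ = (D.nroots, 0) := by
  have e : sumOr D r' k = D.nroots := by simp [sumOr, h']
  simp only [two, sumOr_some h, e]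
  cases Nat.blt k D.nroots <;> simp [blt_self]

theorem two_some {r r' δ k k2 : ℕ} (h : D.chainRoot r δ 1 = some k) (h' : D.chainRoot r' k 1 = some k2)
    (hk : k < D.nroots) (hk2 : k2 < D.nroots) :
    two D r r' δ = (k2, D.chainM r δ 1 * D.chainM r' k 1) := by
  simp only [two, sumOr_some h, sumOr_some h', Nat.blt, Nat.ble_eq_true_of_le (show k + 1 ≤ _ from hk),
    Nat.ble_eq_true_of_le (show k2 + 1 ≤ _ from hk2), cond_true]

/-- The second order term of the double shift. -/
theorem shift_shift {r r' δ : ℕ} (hr : r < D.nroots) (hr' : r' < D.nroots) (hS : Struct D C) (w : ℕ → F) (t u : F) :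
    shiftW D (shiftW D w r' u) r t δ = shiftW D w r t δ + shiftW D w r' u δ - w δ +
      ((two D r r' δ).2 : F) * t * u * w (two D r r' δ).1 := by
  cases hk : D.chainRoot r δ 1 with
  | none => simp [shiftW_none hk, two_none hk]
  | some k =>
    have hkn := (chain_some hS.chain hr (k := 0) hk).1
    rw [shiftW_some hk, shiftW_some hk]
    cases hk2 : D.chainRoot r' k 1 with
    | none =>
      rw [shiftW_none hk2, two_some_none hk hk2]
      simp only [Int.cast_zero]
      ring
    | some k2 =>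
      rw [shiftW_some hk2, two_some hk hk2 hkn (chain_some hS.chain hr' (k := 0) hk2).1]
      simp only [Int.cast_mul]
      ring

include E in
theorem shift2_eqv [Fintype F] {R : ℕ → Prop} {w : ℕ → F} {r : ℕ} {t : F} (hρ : ∀ δ, R δ → R (rh W D δ))
    (h1 : Trans D R r) (h2 : rh W D r ≠ r → Trans D R (rh W D r)) (hw : Eqv X R w)
    (ht : t ∈ X.Allowed (cl W D r)) : Eqv X R (shift2 X w r t) := by
  have hr := h1.1
  obtain ⟨hr', hrr, -, hee, -⟩ := cls_row E hr
  have one : ∀ (s : ℕ) (u : F), Trans D R s → ∀ δ, R δ →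
      shiftW D w (rh W D s) (X.eps s * X.f u) (rh W D δ) = X.eps δ * X.f (shiftW D w s u δ) := by
    intro s u hs δ hδ
    obtain ⟨hδn, -, hsum⟩ := hs.2 δ hδ
    cases hk : D.chainRoot s δ 1 with
    | none => rw [shiftW_none (chain_eqv_none E hs.1 hδn hk), shiftW_none hk, hw δ hδ]
    | some k =>
      obtain ⟨e1, -, e2⟩ := chain_eqv E hs.1 hk hδn
      rw [shiftW_some e1, shiftW_some hk, hw δ hδ, hw k (hsum k hk), map_sub, map_mul, map_mul, fM E, mul_sub]
      have hd : X.eps δ * X.eps δ = 1 := by rcases (cls_row E hδn).2.2.1 with h | h <;> simp [h]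
      have hk1 : X.eps k * X.eps k = 1 := by
        rcases (cls_row E (chain_some X.S.chain hs.1 (k := 0) hk).1).2.2.1 with h | h <;> simp [h]
      linear_combination (-(X.f u * X.f (w k) * X.eps δ * X.eps k)) * e2 +
        (X.eps s * (D.chainM (rh W D s) (rh W D δ) 1 : F) * X.f u * X.f (w k) * X.eps k) * hd -
        (X.f u * X.f (w k) * X.eps δ * (D.chainM s δ 1 : F)) * hk1
  intro δ hδ
  unfold shift2
  by_cases h : rh W D r = r
  · rw [if_pos h]
    have := one r t h1 δ hδ
    rwa [h, (allowed_iff E hr).1 ht h] at this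
  · rw [if_neg h, shift_shift hr hr' X.S, shift_shift hr hr' X.S]
    have a1 := one r t h1 δ hδ
    have a2 := one (rh W D r) (X.eps r * X.f t) (h2 h) δ hδ
    rw [hrr, map_mul, feps E, ff E, ← mul_assoc, mul_comm (X.eps (rh W D r)), hee, one_mul] at a2
    have hδn := (h1.2 δ hδ).1
    have hc := kall_krange E.hcls r hr
    simp only [Bool.and_eq_true] at hc
    have hc' := kall_krange hc.2 (rh W D δ) (cls_row E hδn).1
    simp only [Bool.or_eq_true, Bool.and_eq_true, decide_eq_true_eq] at hc'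
    obtain ⟨c1, c2⟩ := hc'.resolve_left fun e => h (Nat.eq_of_beq_eq_true e)
    have key : ((two D r (rh W D r) (rh W D δ)).2 : F) * t * (X.eps r * X.f t) *
          w (two D r (rh W D r) (rh W D δ)).1 =
        X.eps δ * X.f (((two D r (rh W D r) δ).2 : F) * t * (X.eps r * X.f t) * w (two D r (rh W D r) δ).1) := by
      rw [Nat.eq_of_beq_eq_true c1, c2]
      cases hk : D.chainRoot r δ 1 with
      | none =>
        rw [two_none hk, two_none (chain_eqv_none E hr hδn hk)]
        simp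
      | some k =>
        obtain ⟨-, hkn'⟩ : R k ∧ k < D.nroots := ⟨(h1.2 δ hδ).2.2 k hk, (chain_some X.S.chain hr (k := 0) hk).1⟩
        obtain ⟨e1, -, e2⟩ := chain_eqv E hr hk hδn
        have hk'n := (cls_row E hkn').1
        cases hk2 : D.chainRoot (rh W D r) k 1 with
        | none =>
          have hn := chain_eqv_none E hr' hkn' hk2
          rw [hrr] at hn
          rw [two_some_none hk hk2, two_some_none e1 hn]
          simp
        | some k2 =>
          have hk2n := (chain_some X.S.chain hr' (k := 0) hk2).1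
          obtain ⟨f1, -, f2⟩ := chain_eqv E hr' hk2 hkn'
          rw [hrr] at f1 f2
          have hk2'n := (cls_row E hk2n).1
          have hR2 : R k2 := ((h2 h).2 k ((h1.2 δ hδ).2.2 k hk)).2.2 k2 hk2
          simp only [two_some e1 f1 hk'n hk2'n, two_some hk hk2 hkn' hk2n, Int.cast_mul, hw k2 hR2, map_mul,
            fM E, ff E, feps E]
          have hd : X.eps δ * X.eps δ = 1 := by rcases (cls_row E hδn).2.2.1 with h | h <;> simp [h]
          have hk1 : X.eps k * X.eps k = 1 := by rcases (cls_row E hkn').2.2.1 with h | h <;> simp [h]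
          have hk21 : X.eps k2 * X.eps k2 = 1 := by rcases (cls_row E hk2n).2.2.1 with h | h <;> simp [h]
          generalize (D.chainM r δ 1 : F) = A, (D.chainM (rh W D r) k 1 : F) = B,
            (D.chainM (rh W D r) (rh W D δ) 1 : F) = A', (D.chainM r (rh W D k) 1 : F) = B',
            X.eps r = a, X.eps (rh W D r) = a', X.eps δ = d, X.eps k = ek, X.eps k2 = ek2,
            X.f (w k2) = z, X.f t = u at e2 f2 hee hd hk1 hk21 ⊢
          have eA : A' * a * d = ek * A := by linear_combination e2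
          have eB : B' * a' * ek = ek2 * B := by linear_combination f2
          calc A' * B' * t * (a * u) * (ek2 * z) = (A' * a * d) * (B' * a' * ek) * d * ek * a * t * u * ek2 * z := by
                linear_combination (-(A' * B' * t * a * u * ek2 * z)) *
                  (ek * ek * d * d * hee + ek * ek * hd + hk1)
            _ = _ := by
                rw [eA, eB]
                linear_combination (A * B * t * a * u * z * d) * (ek2 * ek2 * hk1 + hk21)
    rw [key, a1, a2, hw δ hδ]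
    simp only [map_add, map_sub]
    ring

end Cfsg.Lib.EDegTw
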