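import Cfsg.Agent.Chev.EDeg.TwBase

/-! Characters of the class subgroups and common eigenspaces. -/

set_option autoImplicit false
set_option linter.unusedSectionVars false

open Cfsg.Lie
open Cfsg.Lib.Chev
open Cfsg.Lib.TwDeg (act_end act_ne_zero)
open Cfsg.Lib.GTwoDeg (psi psi_nd)

namespace Cfsg.Lib.EDegTw

variable {D D' : ChevalleyDatum} {C C' : Cert} {W : TwDat} {T : List (List ℤ)} {F : Type*} [Field F] [Fintype F]
  {X : Tw D D' C C' W T F} (E : TEnv X)

/-- A character non-trivial at one. -/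
noncomputable def psi0 (F : Type*) [Field F] [Fintype F] : AddChar F ℂ :=
  open Classical in
  if h : ∃ z : F, psi z ≠ 1 then psi.mulShift h.choose else psi

theorem psi0_one : psi0 F 1 ≠ 1 := by
  have h : ∃ z : F, psi z ≠ 1 := by
    by_contra hh
    push_neg at hh
    exact one_ne_zero (psi_nd (a := (1 : F)) fun l => hh _)
  rw [psi0, dif_pos h, AddChar.mulShift_apply, mul_one]
  exact h.choose_spec

include E in
theorem exists_moved : (∃ z : F, X.f z ≠ -z) ∧ ∃ z : F, X.f z ≠ z := by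
  have hc : Nat.card F = X.q ^ 2 := by rw [X.hcard, E.hm]
  have hlt : X.q < X.q ^ 2 := by
    have := X.hq
    nlinarith
  constructor <;> by_contra hh <;> push_neg at hh
  · have := card_pow_eq_neg X.hq X.hfq hc
    rw [Nat.card_congr (Equiv.subtypeUnivEquiv hh), hc] at this
    omega
  · have := card_pow_eq_self X.hq (show 1 ≤ 2 by norm_num) X.hfq hc
    rw [Nat.card_congr (Equiv.subtypeUnivEquiv hh), hc] at this
    omega

include E in
theorem trace_one : ∃ w : F, w + X.f w = 1 := by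
  obtain ⟨z, hz⟩ := (exists_moved E).1
  have hne : z + X.f z ≠ 0 := fun e => hz (eq_neg_of_add_eq_zero_right e)
  refine ⟨z / (z + X.f z), ?_⟩
  rw [map_div₀, map_add, ff E, add_comm (X.f z), ← add_div, div_self hne]

/-- The bilinear pairing of a class. -/
noncomputable def lin (X : Tw D D' C C' W T F) (r : ℕ) (x t : F) : F :=
  if rh W D r = r then x * t else x * t + X.f (x * t)

theorem lin_zero (r : ℕ) (t : F) : lin X r 0 t = 0 := by simp [lin]

theorem lin_add_left (r : ℕ) (x y t : F) : lin X r (x + y) t = lin X r x t + lin X r y t := by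
  unfold lin
  split_ifs
  · ring
  · rw [add_mul, map_add]
    ring

theorem lin_add_right (r : ℕ) (x s t : F) : lin X r x (s + t) = lin X r x s + lin X r x t := by
  unfold lin
  split_ifs
  · ring
  · rw [mul_add, map_add]
    ring

/-- The admissible parameters, as a group. -/
def AG (X : Tw D D' C C' W T F) (r : ℕ) : AddSubgroup F where
  carrier := X.Allowed (cl W D r)
  zero_mem' := by
    have : ∀ c : List ℕ, X.nxt c 0 = 0 := fun c => by
      induction c with
      | nil => rfl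
      | cons a c ih => simp [Tw.nxt, ih]
    exact this _
  add_mem' := fun {a b} ha hb => by
    show X.nxt _ (a + b) = a + b
    rw [X.nxt_add]
    exact congrArg₂ (· + ·) ha hb
  neg_mem' := fun {a} ha => by
    show X.nxt _ (-a) = -a
    have h := X.nxt_add (cl W D r) a (-a)
    have h0 : X.nxt (cl W D r) 0 = 0 := by rw [X.nxt_eq, iterate_map_zero, mul_zero]
    rw [add_neg_cancel, h0, show X.nxt (cl W D r) a = a from ha] at h
    exact eq_neg_of_add_eq_zero_right h.symm

theorem mem_AG {r : ℕ} {t : F} : t ∈ AG X r ↔ t ∈ X.Allowed (cl W D r) := Iff.rfl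

noncomputable instance instFintypeAG (r : ℕ) : Fintype ↥(AG X r) := Fintype.ofFinite _

include E in
theorem f_eps_inv {r : ℕ} (hr : r < D.nroots) {d : F} (h : X.eps r * X.f d = d) : X.eps r * X.f d⁻¹ = d⁻¹ := by
  rcases (cls_row E hr).2.2.1 with he | he <;> rw [he] at h ⊢
  · rw [one_mul] at h
    rw [one_mul, map_inv₀, h]
  · rw [neg_one_mul] at h
    rw [neg_one_mul, map_inv₀, ← inv_neg, h]

include E in
theorem nondeg {r : ℕ} (hr : r < D.nroots) {d : F} (hd : d ∈ AG X r) (h0 : d ≠ 0) :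
    ∃ t ∈ AG X r, lin X r d t = 1 := by
  by_cases h : rh W D r = r
  · exact ⟨d⁻¹, (allowed_iff E hr).2 fun _ => f_eps_inv E hr ((allowed_iff E hr).1 hd h),
      by rw [lin, if_pos h, mul_inv_cancel₀ h0]⟩
  · obtain ⟨w, hw⟩ := trace_one E
    exact ⟨w / d, (allowed_iff E hr).2 fun e => absurd e h, by rw [lin, if_neg h, mul_div_cancel₀ _ h0, hw]⟩

include E in
theorem exists_ne_zero {r : ℕ} (hr : r < D.nroots) : ∃ t ∈ AG X r, t ≠ 0 := by
  by_cases h : rh W D r = r
  · rcases (cls_row E hr).2.2.1 with he | he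
    · exact ⟨1, (allowed_iff E hr).2 fun _ => by simp [he], one_ne_zero⟩
    · obtain ⟨z, hz⟩ := (exists_moved E).2
      refine ⟨z - X.f z, (allowed_iff E hr).2 fun _ => by rw [he, map_sub, ff E]; ring, sub_ne_zero.2 hz.symm⟩
  · exact ⟨1, (allowed_iff E hr).2 fun e => absurd e h, one_ne_zero⟩

/-- The character attached to a phase. -/
noncomputable def chi (X : Tw D D' C C' W T F) (r : ℕ) (x : ↥(AG X r)) : AddChar ↥(AG X r) ℂ where
  toFun t := psi0 F (lin X r (x : F) (t : F))
  map_zero_eq_one' := by simp [lin]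
  map_add_eq_mul' := fun s t => by
    rw [← AddChar.map_add_eq_mul, ← lin_add_right]
    rfl

theorem chi_apply {r : ℕ} (x t : ↥(AG X r)) : chi X r x t = psi0 F (lin X r (x : F) (t : F)) := rfl

include E in
theorem chi_inj {r : ℕ} (hr : r < D.nroots) : Function.Injective (chi X r) := by
  intro x y h
  by_contra hne
  have hd : (x : F) - y ≠ 0 := sub_ne_zero.2 fun e => hne (Subtype.ext e)
  obtain ⟨t, ht, e⟩ := nondeg E hr (sub_mem x.2 y.2) hd
  have h1 := DFunLike.congr_fun h ⟨t, ht⟩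
  rw [chi_apply, chi_apply, show (x : F) = ((x : F) - y) + y by ring, lin_add_left, AddChar.map_add_eq_mul, e] at h1
  exact psi0_one (F := F) ((mul_eq_right₀ (by exact (AddChar.val_isUnit _ _).ne_zero)).1 h1)

/-- The characters of a class are indexed by phases. -/
noncomputable def chEq (E : TEnv X) {r : ℕ} (hr : r < D.nroots) : ↥(AG X r) ≃ AddChar ↥(AG X r) ℂ :=
  Equiv.ofBijective (chi X r) ((Fintype.bijective_iff_injective_and_card _).2 ⟨chi_inj E hr, AddChar.card_eq.symm⟩)

include E in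
theorem card_AG {r : ℕ} (hr : r < D.nroots) :
    Fintype.card ↥(AG X r) = X.q ^ (cl W D r).length := by
  rw [← Nat.card_eq_fintype_card]
  by_cases h : rh W D r = r
  · rw [show (cl W D r).length = 1 by simp [cl, h], pow_one]
    have hc : Nat.card F = X.q ^ 2 := by rw [X.hcard, E.hm]
    rcases (cls_row E hr).2.2.1 with he | he
    · refine (Nat.card_congr (Equiv.subtypeEquivRight fun t => ?_)).trans
        (card_pow_eq_self X.hq (show 1 ≤ 2 by norm_num) X.hfq hc)
      show t ∈ X.Allowed (cl W D r) ↔ _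
      rw [allowed_iff E hr]
      simp [h, he]
    · refine (Nat.card_congr (Equiv.subtypeEquivRight fun t => ?_)).trans (card_pow_eq_neg X.hq X.hfq hc)
      show t ∈ X.Allowed (cl W D r) ↔ _
      rw [allowed_iff E hr]
      simp [h, he, neg_eq_iff_eq_neg]
  · have hn : Nat.beq (rh W D r) r = false := by simpa [← Bool.not_eq_true, Nat.beq_eq] using h
    rw [show (cl W D r).length = 2 by simp [cl, hn], ← E.hm, ← X.hcard]
    exact Nat.card_congr (Equiv.subtypeUnivEquiv fun t => (allowed_iff E hr).2 fun e => absurd e h)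

theorem val_cl {R : ℕ → Prop} {w : ℕ → F} (hw : Eqv X R w) {r : ℕ} (hR : R r) (t : F)
    (he : X.eps r * X.eps r = 1) : val w (X.orbW (cl W D r) t) = lin X r (w r) t := by
  by_cases h : rh W D r = r
  · simp [cl, h, Tw.orbW, val, lin]
  · have hn : Nat.beq (rh W D r) r = false := by simpa [← Bool.not_eq_true, Nat.beq_eq] using h
    simp only [cl, hn, Bool.false_eq_true, if_false, h, Tw.orbW, val, List.map_cons, List.map_nil, List.sum_cons,
      List.sum_nil, lin, hw r hR, map_mul]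
    linear_combination (X.f (w r) * X.f t) * he

include E in
theorem eps_sq {r : ℕ} (hr : r < D.nroots) : X.eps r * X.eps r = 1 := by
  rcases (cls_row E hr).2.2.1 with h | h <;> simp [h]

theorem mem_cl {r s : ℕ} : s ∈ cl W D r ↔ s = r ∨ s = rh W D r := by
  unfold cl
  split_ifs with h
  · simp [Nat.eq_of_beq_eq_true h]
  · simp

theorem wIn_cl {R : ℕ → Prop} {r : ℕ} (hr : r < D.nroots) (hr' : rh W D r < D.nroots) (h1 : R r)
    (h2 : R (rh W D r)) (t : F) : WIn D R (X.orbW (cl W D r) t) := fun p hp => by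
  rcases mem_cl.1 (X.mem_orbW hp) with e | e <;> rw [e]
  · exact ⟨hr, h1⟩
  · exact ⟨hr', h2⟩

/-- A set is stable under the twisting. -/
def RhoSt (W : TwDat) (D : ChevalleyDatum) (R : ℕ → Prop) : Prop := ∀ δ, R δ → δ < D.nroots ∧ R (rh W D δ)

include E in
theorem eqv_mem {R : ℕ → Prop} {w : ℕ → F} (hw : Eqv X R w) (hρ : RhoSt W D R) {r : ℕ} (hR : R r) :
    w r ∈ AG X r :=
  (allowed_iff E (hρ r hR).1).2 fun h => by
    have := hw r hR
    rw [h] at this
    exact this.symm

variable {V : Type*} [AddCommGroup V] [Module ℂ V] [FiniteDimensional ℂ V] (φ : ↥X.G1 →* Module.End ℂ V)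

/-- The common eigenspace with given phases. -/
noncomputable def ES (R : ℕ → Prop) (w : ℕ → F) : Submodule ℂ V where
  carrier := {v | ∀ L, WIn D R L → ∀ g : ↥X.G1, (g : GL D.Idx F) = X.S.ok.wG L →
    φ g v = psi0 F (val w L) • v}
  zero_mem' := fun L _ g _ => by simp
  add_mem' := fun {u v} hu hv L hL g hg => by rw [map_add, hu L hL g hg, hv L hL g hg, smul_add]
  smul_mem' := fun c v hv L hL g hg => by rw [map_smul, hv L hL g hg, smul_comm]

variable {φ}

theorem ES_congr {R R' : ℕ → Prop} {w w' : ℕ → F} (hR : ∀ r, R r ↔ R' r) (hw : ∀ r, R r → w r = w' r) :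
    ES φ R w = ES φ R' w' := by
  ext v
  constructor <;> intro hv L hL g hg
  · rw [← val_congr hw L fun p hp => (hR _).2 (hL p hp).2]
    exact hv L (hL.mono fun r => (hR r).2) g hg
  · rw [val_congr hw L fun p hp => (hL p hp).2]
    exact hv L (hL.mono fun r => (hR r).1) g hg

theorem ES_mono {R R' : ℕ → Prop} {w w' : ℕ → F} (hR : ∀ r, R r → R' r) (hw : ∀ r, R r → w r = w' r) :
    ES φ R' w' ≤ ES φ R w := fun v hv L hL g hg => by
  rw [val_congr hw L fun p hp => (hL p hp).2]
  exact hv L (hL.mono hR) g hg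

theorem carry {R R' : ℕ → Prop} {w w' : ℕ → F} (g : ↥X.G1) (h : Carr X (g : GL D.Idx F) R w R' w') {v : V}
    (hv : v ∈ ES φ R w) : φ g v ∈ ES φ R' w' := by
  intro L hL g' hg'
  obtain ⟨L', h1, h2, h3⟩ := h L hL
  have e : ((g⁻¹ * g' * g : ↥X.G1) : GL D.Idx F) = X.S.ok.wG L' := by
    rw [Subgroup.coe_mul, Subgroup.coe_mul, Subgroup.coe_inv, hg', mul_assoc, h2, inv_mul_cancel_left]
  rw [← act_end, show g' * g = g * (g⁻¹ * g' * g) by group, act_end, hv L' h1 _ e, map_smul, h3]

/-- An injective operator carrying one eigenspace into another. -/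
theorem finrank_le_of_map (x : ↥X.G1) {R R' : ℕ → Prop} {w w' : ℕ → F}
    (h : ∀ v ∈ ES φ R w, φ x v ∈ ES φ R' w') :
    Module.finrank ℂ ↥(ES φ R w) ≤ Module.finrank ℂ ↥(ES φ R' w') := by
  refine LinearMap.finrank_le_finrank_of_injective (f := (φ x).restrict h) fun a b e => Subtype.ext ?_
  have e1 := congrArg (φ x⁻¹) (congrArg Subtype.val e)
  simpa [← act_end] using e1

theorem eig_cl {R : ℕ → Prop} {w : ℕ → F} (hw : Eqv X R w) (hρ : RhoSt W D R) {r : ℕ} (hR : R r) {v : V}
    (hv : v ∈ ES φ R w) {t : F} (ht : t ∈ AG X r) :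
    φ (yy E r t) v = psi0 F (lin X r (w r) t) • v := by
  have h := hv _ (wIn_cl (hρ r hR).1 (hρ _ (hρ r hR).2).1 hR (hρ r hR).2 t) (yy E r t)
    (yy_val E (hρ r hR).1 ht)
  rwa [val_cl hw hR t (eps_sq E (hρ r hR).1)] at h

theorem psi_eq_of_smul {v : V} (hv0 : v ≠ 0) {a b : F} (h : psi0 F a • v = psi0 F b • v) :
    psi0 F a = psi0 F b := smul_left_injective ℂ hv0 h

include E in
theorem phase_eq {r : ℕ} (hr : r < D.nroots) {x y : F} (hx : x ∈ AG X r) (hy : y ∈ AG X r)
    (h : ∀ t ∈ AG X r, psi0 F (lin X r x t) = psi0 F (lin X r y t)) : x = y :=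
  congrArg Subtype.val (chi_inj E hr (a₁ := ⟨x, hx⟩) (a₂ := ⟨y, hy⟩) (DFunLike.ext _ _ fun (t : ↥(AG X r)) => h t t.2))

include E in
theorem phase_unique {R : ℕ → Prop} {w w' : ℕ → F} (hρ : RhoSt W D R) (h : Eqv X R w) (h' : Eqv X R w') {v : V}
    (hv0 : v ≠ 0) (hv : v ∈ ES φ R w) (hv' : v ∈ ES φ R w') {r : ℕ} (hr : R r) : w r = w' r :=
  phase_eq E (hρ r hr).1 (eqv_mem E h hρ hr) (eqv_mem E h' hρ hr) fun _ ht => psi_eq_of_smul hv0
    ((eig_cl E h hρ hr hv ht).symm.trans (eig_cl E h' hρ hr hv' ht))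

end Cfsg.Lib.EDegTw
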