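import Cfsg.Agent.Chev.EDeg.TwMove

/-! Counting the phases of vectors fixed by successive radicals. -/

set_option autoImplicit false
set_option linter.unusedSectionVars false

open Cfsg.Lie
open Cfsg.Lib.Chev
open Cfsg.Lib.TwDeg (act_ne_zero)

namespace Cfsg.Lib.EDegTw

open Cfsg.Lib.EDeg (bit Mem okLe okLe_spec okUn_spec mem_of_kall sig nrm nrm_mem)

/-- A cell: leading root, zero phases, a word of orbits from a fundamental root, a torus node, and translations. -/
structure Cell where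
  /-- the leading root -/
  gam : ℕ
  /-- zero phases -/
  zm : ℕ
  /-- the word -/
  word : List ℕ
  /-- the fundamental root -/
  start : ℕ
  /-- the node -/
  node : ℕ
  /-- translating classes with partners -/
  rs : List (ℕ × ℕ)

/-- A step: classes added and their cells. -/
structure Step where
  /-- the new classes -/
  new : List ℕ
  /-- the cells -/
  cells : List Cell

section tables

variable (W : TwDat) (D : ChevalleyDatum) (C : Cert)

/-- The translations of a cell. -/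
noncomputable def okRs (m z γ : ℕ) (rs : List (ℕ × ℕ)) : Bool :=
  @List.rec (ℕ × ℕ) (fun _ => Bool) true (fun p rest ih =>
    okTrans W D m p.1 && kall (fun δ => !bit z δ || okFix W D z p.1 δ) (krange 0 D.nroots) &&
    okFix W D z p.1 γ && okSingle W D z p.1 p.2 γ && bit m p.2 &&
    kall (fun p' => okFix W D z p'.1 p.2 && Nat.blt p'.1 D.nroots) rest && ih) rs

/-- The size of the translations. -/
noncomputable def rsSize (q : ℕ) (rs : List (ℕ × ℕ)) : ℕ := (rs.map fun p => q ^ (cl W D p.1).length).prod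

/-- The size of a list of cells. -/
noncomputable def cellsSum (q : ℕ) (L : List Cell) : ℕ := (L.map fun c => (q - 1) * rsSize W D q c.rs).sum

/-- The size of the steps. -/
noncomputable def stepsSum (q : ℕ) (L : List Step) : ℕ := (L.map fun s => cellsSum W D q s.cells).sum

/-- Checks on a cell. -/
noncomputable def okCell (P pre all : ℕ) (N : List ℕ) (starts done : List ℕ) (c : Cell) : Bool :=
  N.elem c.gam && bit all c.gam && Nat.blt c.gam D.nroots && starts.elem c.start && Nat.blt c.node D.rank &&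
  Nat.beq (W.piAt c.node) c.node && (decide (C.cart c.node c.gam = 1) || decide (C.cart c.node c.gam = -1)) &&
  okLe D c.zm all && okLe D pre c.zm && !bit c.zm c.gam &&
  kall (fun d => bit c.zm d && Nat.blt d D.nroots) done &&
  okWey W D C c.word P all && Nat.beq (sig C (W.flat c.word) c.gam) c.start &&
  kall (fun δ => !bit all δ || Nat.beq δ c.gam || !Nat.beq (sig C (W.flat c.word) δ) c.start) (krange 0 D.nroots) &&
  okRs W D all c.zm c.gam c.rs

/-- Checks on the cells of a step. -/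
noncomputable def okCells (P pre all : ℕ) (N starts : List ℕ) (L : List Cell) : List ℕ → Bool :=
  @List.rec Cell (fun _ => List ℕ → Bool) (fun _ => true)
    (fun c _ ih done => okCell W D C P pre all N starts done c && ih (c.gam :: done)) L

/-- Checks on the steps. -/
noncomputable def okSteps (P : ℕ) (starts : List ℕ) (L : List Step) : ℕ → Bool :=
  @List.rec Step (fun _ => ℕ → Bool) (fun _ => true)
    (fun s _ ih m => okCl W D m && okCl W D (addCls W D m s.new) && okList W D m s.new m &&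
      okLe D m (addCls W D m s.new) &&
      kall (fun δ => !bit (addCls W D m s.new) δ || bit m δ || s.new.elem δ || s.new.elem (rh W D δ))
        (krange 0 D.nroots) &&
      okCells W D C P m (addCls W D m s.new) s.new starts s.cells [] && ih (addCls W D m s.new)) L

end tables

variable {D D' : ChevalleyDatum} {C C' : Cert} {W : TwDat} {T : List (List ℤ)} {F : Type*} [Field F] [Fintype F]
  {X : Tw D D' C C' W T F} (E : TEnv X)
  {V : Type*} [AddCommGroup V] [Module ℂ V] [FiniteDimensional ℂ V] {φ : ↥X.G1 →* Module.End ℂ V}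

theorem exists_vec {m : ℕ} {w : ℕ → F} (h : dm φ m w ≠ 0) : ∃ v ∈ ES φ (Mem D m) w, v ≠ 0 :=
  Submodule.exists_mem_ne_zero_of_ne_bot fun e => h (Submodule.finrank_eq_zero.2 e)

theorem dm_ne {m : ℕ} {w : ℕ → F} {v : V} (hv : v ∈ ES φ (Mem D m) w) (h0 : v ≠ 0) : dm φ m w ≠ 0 :=
  fun e => h0 ((Submodule.mem_bot ℂ).1 ((Submodule.finrank_eq_zero.1 e) ▸ hv))

include E in
theorem translations : ∀ (rs : List (ℕ × ℕ)) {m z γ : ℕ}, okRs W D m z γ rs = true →
    RhoSt W D (Mem D m) → (∀ δ, Mem D z δ → Mem D m δ) → Mem D m γ → ∀ w : ℕ → F, Eqv X (Mem D m) w →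
    (∀ δ, Mem D z δ → w δ = 0) → w γ ≠ 0 → dm φ m w ≠ 0 →
    ∃ S : Finset (ℕ → F), S.card = rsSize W D X.q rs ∧ ∀ f ∈ S, Eqv X (Mem D m) f ∧ (∀ δ, Mem D z δ → f δ = 0) ∧
      f γ = w γ ∧ dm φ m f ≠ 0 ∧ nrm (D := D) m f = f ∧
      ∀ δ, Mem D m δ → (∀ p ∈ rs, okFix W D z p.1 δ = true ∧ p.1 < D.nroots) → f δ = w δ := by
  classical
  intro rs
  induction rs with
  | nil =>
    intro m z γ _ hρ hz hγ w hw hw0 _ hne
    refine ⟨{nrm (D := D) m w}, by simp [rsSize], fun f hf => ?_⟩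
    rw [Finset.mem_singleton] at hf
    subst hf
    refine ⟨fun δ hδ => by rw [nrm_mem _ hδ, nrm_mem _ ⟨(hρ _ (hρ δ hδ).2).1, (hρ δ hδ).2.2⟩, hw δ hδ],
      fun δ hδ => by rw [nrm_mem _ (hz δ hδ), hw0 δ hδ], nrm_mem _ hγ, ?_, ?_, fun δ hδ _ => nrm_mem _ hδ⟩
    · rwa [dm_congr (w' := w) fun δ hδ => nrm_mem _ hδ]
    · funext δ
      by_cases hδ : Mem D m δ <;> simp [nrm, hδ]
  | cons p rest ih =>
    intro m z γ hok hρ hz hγ w hw hw0 hwγ hne
    replace hok : (okTrans W D m p.1 && kall (fun δ => !bit z δ || okFix W D z p.1 δ) (krange 0 D.nroots) &&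
      okFix W D z p.1 γ && okSingle W D z p.1 p.2 γ && bit m p.2 &&
      kall (fun p' => okFix W D z p'.1 p.2 && Nat.blt p'.1 D.nroots) rest && okRs W D m z γ rest) = true := hok
    simp only [Bool.and_eq_true, kall_iff, Nat.blt, Nat.ble_eq, Bool.or_eq_true, Bool.not_eq_true'] at hok
    obtain ⟨⟨⟨⟨⟨⟨htr, hfz⟩, hfg⟩, hsingle⟩, hpm⟩, hlater⟩, hrest⟩ := hok
    obtain ⟨-, hM, -, hpn, hrn⟩ := okSingle_spec E hsingle hw0 0
    have step : ∀ t : ↥(AG X p.1), Eqv X (Mem D m) (shift2 X w p.1 t) ∧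
        (∀ δ, Mem D z δ → shift2 X w p.1 t δ = 0) ∧ shift2 X w p.1 t γ = w γ ∧
        dm φ m (shift2 X w p.1 t) ≠ 0 := fun t => by
      obtain ⟨a, b⟩ := translate E (φ := φ) htr hρ hw t.2
      refine ⟨a, fun δ hδ => ?_, okFix_spec E hrn hfg hw0 t, ?_⟩
      · rw [okFix_spec E hrn ((hfz δ (mem_krange0 hδ.1)).resolve_left (by simp [hδ.2])) hw0 t, hw0 δ hδ]
      · obtain ⟨v, hv, hv0⟩ := exists_vec hne
        exact dm_ne (b v hv) (act_ne_zero φ _ hv0)
    choose S hS using fun t : ↥(AG X p.1) => ih hrest hρ hz hγ _ (step t).1 (step t).2.1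
      (by rw [(step t).2.2.1]; exact hwγ) (step t).2.2.2
    have hfix : ∀ t, ∀ f ∈ S t, f p.2 = w p.2 - (D.chainM p.1 p.2 1 : F) * (t : F) * w γ := fun t f hf => by
      rw [((hS t).2 f hf).2.2.2.2.2 p.2 ⟨hpn, hpm⟩ fun p' hp' => ⟨(hlater p' hp').1, (hlater p' hp').2⟩]
      exact (okSingle_spec E hsingle hw0 t).1
    have hdis : ((Finset.univ : Finset ↥(AG X p.1)) : Set ↥(AG X p.1)).PairwiseDisjoint S := by
      intro t _ t' _ htt
      refine Finset.disjoint_left.2 fun f h1 h2 => htt ?_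
      have e := (hfix t f h1).symm.trans (hfix t' f h2)
      simp only [sub_right_inj, mul_eq_mul_right_iff, hwγ, or_false, mul_right_inj' hM] at e
      exact Subtype.ext e
    refine ⟨Finset.univ.biUnion S, ?_, fun f hf => ?_⟩
    · rw [Finset.card_biUnion hdis, Finset.sum_congr rfl fun t _ => (hS t).1, Finset.sum_const, Finset.card_univ,
        card_AG E hrn, smul_eq_mul]
      simp [rsSize]
    · obtain ⟨t, -, hf⟩ := Finset.mem_biUnion.1 hf
      obtain ⟨a, b, c, d, e, g⟩ := (hS t).2 f hf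
      refine ⟨a, b, c.trans (step t).2.2.1, d, e, fun δ hδ hall => ?_⟩
      rw [g δ hδ fun p' hp' => hall p' (List.mem_cons_of_mem _ hp'), okFix_spec E hrn (hall p List.mem_cons_self).1 hw0 t]

include E in
theorem card_fixed : Nat.card {z : Fˣ // X.f (z : F) = z} = X.q - 1 := by
  classical
  have h := card_pow_eq_self X.hq (show 1 ≤ 2 by norm_num) X.hfq (show Nat.card F = X.q ^ 2 by rw [X.hcard, E.hm])
  rw [Nat.card_eq_fintype_card] at h ⊢
  have e : {z : Fˣ // X.f (z : F) = z} ≃ {x : {t : F // X.f t = t} // x ≠ ⟨0, map_zero _⟩} :=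
    { toFun := fun z => ⟨⟨z.1, z.2⟩, fun hh => z.1.ne_zero (congrArg Subtype.val hh)⟩
      invFun := fun x => ⟨Units.mk0 x.1.1 fun hh => x.2 (Subtype.ext hh), x.1.2⟩
      left_inv := fun z => Subtype.ext (Units.ext rfl)
      right_inv := fun x => Subtype.ext (Subtype.ext rfl) }
  rw [Fintype.card_congr e, Fintype.card_subtype_compl, h, Fintype.card_subtype_eq]

include E in
/-- The configurations of one cell. -/
theorem cellSet {m z γ : ℕ} {rs : List (ℕ × ℕ)} (hok : okRs W D m z γ rs = true) (hρ : RhoSt W D (Mem D m))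
    (hz : ∀ δ, Mem D z δ → Mem D m δ) (hγ : Mem D m γ) {i : Fin D.rank} (hi : Node X i)
    (hc : D.cartan i γ = 1 ∨ D.cartan i γ = -1) {w : ℕ → F} (hw : Eqv X (Mem D m) w)
    (hw0 : ∀ δ, Mem D z δ → w δ = 0) (hwγ : w γ ≠ 0) (hne : dm φ m w ≠ 0) :
    ∃ S : Finset (ℕ → F), S.card = (X.q - 1) * rsSize W D X.q rs ∧
      ∀ f ∈ S, Eqv X (Mem D m) f ∧ (∀ δ, Mem D z δ → f δ = 0) ∧ f γ ≠ 0 ∧ dm φ m f ≠ 0 ∧ nrm (D := D) m f = f := by
  classical
  let w' : {z : Fˣ // X.f (z : F) = z} → ℕ → F := fun u δ => ((u.1 ^ (-D.cartan i δ) : Fˣ) : F) * w δ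
  have hw' : ∀ u, Eqv X (Mem D m) (w' u) ∧ dm φ m (w' u) ≠ 0 := fun u => by
    obtain ⟨n, hn⟩ := torus E (φ := φ) hi u.2
    obtain ⟨a, b⟩ := hn (Mem D m) hρ w
    obtain ⟨v, hv, hv0⟩ := exists_vec hne
    exact ⟨a hw, dm_ne (b v hv) (act_ne_zero φ _ hv0)⟩
  choose S hS using fun u => translations E (φ := φ) rs hok hρ hz hγ (w' u) (hw' u).1
    (fun δ hδ => by simp [w', hw0 δ hδ]) (mul_ne_zero (Units.ne_zero _) hwγ) (hw' u).2
  have hdis : ((Finset.univ : Finset {z : Fˣ // X.f (z : F) = z}) : Set _).PairwiseDisjoint S := by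
    intro u _ u' _ huu
    refine Finset.disjoint_left.2 fun f h1 h2 => huu ?_
    have e := ((hS u).2 f h1).2.2.1.symm.trans ((hS u').2 f h2).2.2.1
    have e' := Units.ext (mul_right_cancel₀ hwγ e)
    refine Subtype.ext ?_
    rcases hc with e2 | e2 <;> simpa [e2] using e'
  refine ⟨Finset.univ.biUnion S, ?_, fun f hf => ?_⟩
  · rw [Finset.card_biUnion hdis, Finset.sum_congr rfl fun u _ => (hS u).1, Finset.sum_const, Finset.card_univ,
      ← Nat.card_eq_fintype_card, card_fixed E, smul_eq_mul]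
  · obtain ⟨u, -, hf⟩ := Finset.mem_biUnion.1 hf
    obtain ⟨a, b, c, d, e, -⟩ := (hS u).2 f hf
    exact ⟨a, b, by rw [c]; exact mul_ne_zero (Units.ne_zero _) hwγ, d, e⟩

/-- A vector on which exactly one fundamental root subgroup acts non-trivially among the positive ones. -/
def SVec (φ : ↥X.G1 →* Module.End ℂ V) (P k : ℕ) : Prop :=
  ∃ w : ℕ → F, Eqv X (Mem D P) w ∧ (∀ δ, Mem D P δ → δ ≠ k → w δ = 0) ∧ w k ≠ 0 ∧ dm φ P w ≠ 0

include E in
theorem cellsUnion {P pre all : ℕ} {N starts : List ℕ} (hρ : RhoSt W D (Mem D all))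
    (hU : ∀ k ∈ starts, SVec φ P k) : ∀ (L : List Cell) (done : List ℕ),
      okCells W D C P pre all N starts L done = true →
      ∃ S : Finset (ℕ → F), S.card = cellsSum W D X.q L ∧
        ∀ f ∈ S, Eqv X (Mem D all) f ∧ (∀ δ, Mem D pre δ → f δ = 0) ∧ (∀ δ ∈ done, f δ = 0) ∧
          (∃ δ ∈ N, f δ ≠ 0) ∧ nrm (D := D) all f = f ∧ dm φ all f ≠ 0 := by
  classical
  intro L
  induction L with
  | nil => exact fun _ _ => ⟨∅, rfl, by simp⟩
  | cons c L ih =>
    intro done hok
    replace hok : (okCell W D C P pre all N starts done c && okCells W D C P pre all N starts L (c.gam :: done)) =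
      true := hok
    simp only [okCell, Bool.and_eq_true, Bool.or_eq_true, decide_eq_true_eq, Nat.blt, Nat.ble_eq, kall_iff,
      Bool.not_eq_true', List.elem_eq_mem] at hok
    obtain ⟨⟨⟨⟨⟨⟨⟨⟨⟨⟨⟨⟨⟨⟨⟨hgN, hgb⟩, hgn⟩, hst⟩, hnode⟩, hfix⟩, hcart⟩, hzall⟩, hprez⟩, hzg⟩, hdz⟩, hW⟩, hsg⟩,
      hsd⟩, hrs⟩, hrest⟩ := hok
    have hgam : Mem D all c.gam := ⟨hgn, hgb⟩
    obtain ⟨w, hwe, hw0, hwk, hne⟩ := hU c.start hst
    obtain ⟨n, κ, hκ, heq, hn⟩ := wey E (φ := φ) hW
    obtain ⟨v, hv, hv0⟩ := exists_vec hne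
    have hz : ∀ δ, Mem D c.zm δ → κ δ * w (sig C (W.flat c.word) δ) = 0 := fun δ hδ => by
      have hall := okLe_spec hzall hδ
      rw [hw0 _ (hκ δ hall).1 ?_, mul_zero]
      intro e
      rcases hsd δ (mem_krange0 hall.1) with (h | h) | h
      · exact absurd hall.2 (by simp [h])
      · rw [Nat.eq_of_beq_eq_true h] at hδ
        exact absurd hδ.2 (by simp [hzg])
      · exact absurd e (Nat.ne_of_beq_eq_false h)
    obtain ⟨S1, hc1, hS1⟩ := cellSet E (φ := φ) hrs hρ (fun δ h => okLe_spec hzall h) hgam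
      (i := ⟨c.node, hnode⟩) (Nat.eq_of_beq_eq_true hfix)
      (by rw [← X.S.ok.cart_eq hnode hgn]; exact hcart) (heq w hwe) hz
      (mul_ne_zero (hκ _ hgam).2 (by rw [Nat.eq_of_beq_eq_true hsg]; exact hwk))
      (dm_ne (hn w v hv) (act_ne_zero φ n hv0))
    obtain ⟨S2, hc2, hS2⟩ := ih (c.gam :: done) hrest
    have hdis : Disjoint S1 S2 := Finset.disjoint_left.2 fun f h1 h2 =>
      (hS1 f h1).2.2.1 ((hS2 f h2).2.2.1 _ List.mem_cons_self)
    refine ⟨S1 ∪ S2, ?_, fun f hf => ?_⟩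
    · rw [Finset.card_union_of_disjoint hdis, hc1, hc2]
      simp [cellsSum]
    · rcases Finset.mem_union.1 hf with hf | hf
      · obtain ⟨a, b, c', d, e⟩ := hS1 f hf
        exact ⟨a, fun δ hδ => b δ (okLe_spec hprez hδ), fun δ hδ => b δ ⟨(hdz δ hδ).2, (hdz δ hδ).1⟩,
          ⟨c.gam, hgN, c'⟩, e, d⟩
      · obtain ⟨a, b, c', d, e⟩ := hS2 f hf
        exact ⟨a, b, fun δ hδ => c' δ (List.mem_cons_of_mem _ hδ), d, e⟩

include E in
theorem count {P : ℕ} {starts : List ℕ} (hU : ∀ k ∈ starts, SVec φ P k) :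
    ∀ (L : List Step) (m : ℕ), okSteps W D C P starts L m = true →
      stepsSum W D X.q L ≤ dm φ m fun _ => (0 : F) := by
  classical
  intro L
  induction L with
  | nil => exact fun _ _ => Nat.zero_le _
  | cons s L ih =>
    intro m hok
    replace hok : (okCl W D m && okCl W D (addCls W D m s.new) && okList W D m s.new m &&
      okLe D m (addCls W D m s.new) &&
      kall (fun δ => !bit (addCls W D m s.new) δ || bit m δ || s.new.elem δ || s.new.elem (rh W D δ))
        (krange 0 D.nroots) &&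
      okCells W D C P m (addCls W D m s.new) s.new starts s.cells [] &&
      okSteps W D C P starts L (addCls W D m s.new)) = true := hok
    simp only [Bool.and_eq_true] at hok
    obtain ⟨⟨⟨⟨⟨⟨hcl, hcl'⟩, hlist⟩, hle⟩, hcov⟩, hcells⟩, hrest⟩ := hok
    have h2 := ih _ hrest
    set all := addCls W D m s.new
    have hR := okCl_spec E hcl
    have hR' := okCl_spec E hcl'
    obtain ⟨S, hc, hS⟩ := cellsUnion E (φ := φ) hR'.rho hU s.cells [] hcells
    have h0 : (fun _ => (0 : F)) ∉ S := fun h => by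
      obtain ⟨δ, -, hδ⟩ := (hS _ h).2.2.2.1
      exact hδ rfl
    have hprops : ∀ f ∈ insert (fun _ => (0 : F)) S, Eqv X (Mem D all) f ∧ (∀ δ, Mem D m δ → f δ = 0) ∧
        nrm (D := D) all f = f := fun f hf => by
      rcases Finset.mem_insert.1 hf with rfl | hf
      · exact ⟨fun δ _ => by simp, fun _ _ => rfl, funext fun δ => by simp [nrm]⟩
      · exact ⟨(hS f hf).1, (hS f hf).2.1, (hS f hf).2.2.2.2.1⟩
    have h := split_ge E (φ := φ) s.new m m (fun _ => (0 : F)) hlist hR (fun _ h => h) (fun δ _ => by simp)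
      (fun _ _ _ => rfl) (insert (fun _ => 0) S) (fun f hf => ⟨(hprops f hf).1, fun δ hδ => (hprops f hf).2.1 δ hδ⟩)
      fun f hf f' hf' he => by
        rw [← (hprops f hf).2.2, ← (hprops f' hf').2.2]
        funext δ
        by_cases hδ : Mem D all δ
        · rw [nrm_mem f hδ, nrm_mem f' hδ]
          have := mem_of_kall hcov hδ.1
          simp only [hδ.2, Bool.not_true, Bool.false_or, Bool.or_eq_true, List.elem_eq_mem, decide_eq_true_eq] at this
          rcases this with (h' | h') | h'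
          · rw [(hprops f hf).2.1 δ ⟨hδ.1, h'⟩, (hprops f' hf').2.1 δ ⟨hδ.1, h'⟩]
          · exact he δ h'
          · have hρδ := (hR'.rho δ hδ).2
            have e1 := (hprops f hf).1 _ hρδ
            have e2 := (hprops f' hf').1 _ hρδ
            rw [(cls_row E hδ.1).2.1] at e1 e2
            rw [e1, e2, he _ h']
        · simp [nrm, hδ]
    rw [Finset.sum_insert h0] at h
    have hsum : S.card ≤ ∑ f ∈ S, dm φ all f := by
      rw [Finset.card_eq_sum_ones]
      exact Finset.sum_le_sum fun f hf => Nat.one_le_iff_ne_zero.2 (hS f hf).2.2.2.2.2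
    simp only [stepsSum, List.map_cons, List.sum_cons] at h2 ⊢
    change dm φ all (fun _ => (0 : F)) + ∑ f ∈ S, dm φ all f ≤ _ at h
    omega

end Cfsg.Lib.EDegTw
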