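import Cfsg.Agent.Chev.EDeg.TwAdj
import Cfsg.Agent.Chev.Tw.Inst

/-! The combinatorial data of the twisted type E6. -/

set_option autoImplicit false

open Cfsg.Lie
open Cfsg.Lib.Chev

namespace Cfsg.Lib.EDegTw.E6

/-- Witnesses that the class elements lie in the group. -/
def memb : List (ℕ × List ℕ) :=
  [(2, [3, 2, 1, 2, 3, 0, 1, 2]), (2, [2, 1, 2, 3, 0, 1, 2]), (2, [1, 2, 3, 0, 1, 2]), (0, [0, 1, 2, 3, 1, 2, 1, 0]), (0, [1, 2, 3, 1, 2, 1, 0]), (0, [0, 1, 2, 3, 0, 1, 2, 1, 0]), (2, [2, 3, 0, 1, 2]), (0, [2, 3, 1, 2, 1, 0]), (2, [3, 0, 1, 2]), (0, [3, 1, 2, 1, 0]), (0, [3, 2, 1, 0]), (2, [0, 1, 2]), (0, [1, 2, 1, 0]), (0, [2, 1, 0]), (0, [1, 0]), (0, [0]), (0, [1, 2, 3, 0, 1, 2, 1, 0]), (0, [2, 3, 0, 1, 2, 1, 0]), (2, [2, 3, 1, 2]), (0, [3, 0, 1, 2, 1, 0]), (2, [3, 1, 2]), (1, [3, 2, 1]), (1, [3, 0, 1, 2, 1]), (1, [3, 1, 2, 1]), (2, [3, 2]), (3, [3]), (0, [0, 1,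 2, 1, 0]), (2, [1, 2]), (1, [2, 1]), (1, [1]), (1, [0, 1, 2, 1]), (1, [1, 2, 1]), (2, [2]), (1, [2, 0, 1, 2, 1]), (1, [2, 1, 2, 1]), (1, [1, 2, 0, 1, 2, 1]), (1, [1, 2, 0, 1, 2]), (1, [2, 1, 2]), (1, [2, 0, 1, 2]), (2, []), (1, [1, 2]), (1, [0, 1, 2]), (1, []), (1, [2]), (2, [1]), (0, [0, 1, 2, 1]), (3, []), (2, [3]), (1, [3, 1, 2]), (1, [3, 0, 1, 2]), (1, [3, 2]), (2, [3, 1]), (0, [3, 0, 1, 2, 1]), (2, [2, 3, 1]), (0, [2, 3, 0, 1, 2, 1]), (0, [1, 2, 3, 0, 1, 2, 1]), (0, []), (0, [1]), (0, [2, 1]), (0, [1, 2, 1]), (2, [0, 1]), (0, [3, 2, 1]), (0, [3, 1, 2, 1]), (2, [3, 0, 1]), (0, [2, 3, 1, 2, 1]), (2, [2, 3, 0, 1]), (0, [0, 1, 2, 3, 0, 1, 2, 1]), (0, [1, 2, 3, 1, 2, 1]), (0, [0, 1, 2, 3, 1, 2, 1]), (2, [1, 2, 3, 0, 1]), (2, [2, 1, 2, 3, 0, 1]), (2, [3, 2, 1, 2, 3, 0, 1])]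

/-- The data at the highest root. -/
def top : Top where
  sn := 1
  th := 71
  g0 := 70
  s := 46
  up := [(53, 63), (54, 62), (55, 61), (65, 51), (66, 50), (69, 47), (70, 46)]
  low := [63, 52, 51, 49, 48, 47, 46]
  za := 3523391168473307545600
  van1 := [(33, 49, 47), (14, 62, 48), (29, 52, 49), (35, 52, 51), (11, 63, 46), (42, 49, 52), (36, 62, 63)]
  wn := [3]
  w0 := [2, 1, 2, 0, 1, 2]
  wb := [2, 1, 0, 2, 1, 2]
  z2 := 4720132556716981092352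
  van2 := [(34, 38, 36, [36, 38]), (35, 38, 37, [37, 38]), (36, 37, 38, [37, 38]), (33, 41, 39, [39, 41]), (14, 59, 40, [40, 45]), (29, 45, 41, [41, 45]), (35, 45, 44, [44, 45]), (42, 41, 45, [41, 45]), (36, 59, 60, [45, 60])]
  rest := [36, 38, 37, 60, 45, 41, 44, 40, 39]

/-- The complement of three fixed roots. -/
def qm : ℕ := 4722366271144937390080

/-- The positive roots. -/
def posm : ℕ := 4722366482800925736960

/-- A step. -/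
def step0 : Step where
  new := [70, 69, 66, 65, 63, 55, 54, 53, 52, 51, 49, 48, 47, 46]
  cells := [
    ⟨70, 2361183241434822606848, [2, 1, 2, 0, 1, 2], 46, 1, [(39, 69), (40, 68), (41, 67), (44, 65), (45, 64), (60, 53)]⟩,
    ⟨69, 3541774862152233910272, [1, 2, 0, 1, 2], 46, 3, [(37, 68), (38, 67), (44, 63), (45, 62), (60, 51)]⟩,
    ⟨65, 4648579506574807007232, [2, 0, 1, 2], 46, 3, [(36, 64), (39, 63), (41, 61), (60, 47)]⟩,
    ⟨63, 4703919738795935662080, [0, 1, 2], 46, 1, [(36, 62), (38, 61), (60, 46)]⟩,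
    ⟨53, 4720114683055959965696, [2, 1, 2], 46, 3, [(39, 51), (40, 50), (44, 47)]⟩,
    ⟨51, 4720128193854842077184, [1, 2], 46, 1, [(37, 50), (44, 46)]⟩,
    ⟨47, 4720132415979492737024, [2], 46, 1, [(39, 46)]⟩,
    ⟨46, 4720132556716981092352, [], 46, 3, []⟩]

/-- A step. -/
def step1 : Step where
  new := [60, 45, 44, 41, 40, 39]
  cells := [
    ⟨60, 4720132627085725270016, [0, 1], 39, 1, [(36, 59), (38, 58)]⟩,
    ⟨44, 4722150274903159341056, [1], 39, 1, [(37, 43)]⟩,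
    ⟨39, 4722150304589973291008, [], 39, 1, []⟩]

/-- The steps. -/
def steps : List Step := [step0, step1]

theorem okOne : Cfsg.Lib.EDeg.okOne chevE6 = true := by decide +kernel

theorem okCls : Cfsg.Lib.EDegTw.okCls Cfsg.Lib.Chev.E6.tw chevE6 = true := by decide +kernel

theorem okMemb : Cfsg.Lib.EDegTw.okMemb Cfsg.Lib.Chev.E6.tw chevE6 Cfsg.Lib.Chev.E6.cert memb = true := by
  decide +kernel

theorem okA : top.okA Cfsg.Lib.Chev.E6.tw chevE6 Cfsg.Lib.Chev.E6.cert = true := by decide +kernel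

theorem okH : top.okH Cfsg.Lib.Chev.E6.tw chevE6 Cfsg.Lib.Chev.E6.cert = true := by decide +kernel

theorem pos_eq : top.pos Cfsg.Lib.Chev.E6.tw chevE6 = posm := by decide +kernel

theorem okAdj : Cfsg.Lib.EDegTw.okAdj Cfsg.Lib.Chev.E6.tw chevE6 Cfsg.Lib.Chev.E6.cert posm qm 47 46 39 [3] [2] =
    true := by decide +kernel

theorem okSteps : Cfsg.Lib.EDegTw.okSteps Cfsg.Lib.Chev.E6.tw chevE6 Cfsg.Lib.Chev.E6.cert posm [46, 39] steps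
    (top.tm Cfsg.Lib.Chev.E6.tw chevE6) = true := by decide +kernel

theorem sizes : (steps.flatMap fun s => s.cells.map fun c =>
    (c.rs.map fun p => (cl Cfsg.Lib.Chev.E6.tw chevE6 p.1).length).sum) = [9, 8, 6, 5, 4, 3, 1, 0, 4, 2, 0] := by decide +kernel

theorem upSize : ((top.up.map Prod.fst).map fun r => (cl Cfsg.Lib.Chev.E6.tw chevE6 r).length).sum = 10 := by
  decide +kernel

end Cfsg.Lib.EDegTw.E6
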