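import Cfsg.Agent.Chev.EDeg.TwBase

/-! The class elements lie in the twisted group. -/

set_option autoImplicit false
set_option linter.unusedSectionVars false

open Cfsg.Lie
open Cfsg.Lib.Chev

namespace Cfsg.Lib.EDegTw

variable {D D' : ChevalleyDatum} {C C' : Cert} {W : TwDat} {T : List (List ℤ)} {F : Type*} [Field F] [Fintype F]
  {X : Tw D D' C C' W T F}

theorem memb_spec (hm : W.m = 2) (hcls : okCls W D = true) {tab : List (ℕ × List ℕ)}
    (htab : okMemb W D C tab = true) : ∀ r < D.nroots, ∀ t ∈ X.Allowed (cl W D r), X.y (cl W D r) t ∈ X.G1 := by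
  intro r hr t ht
  have hff : ∀ t, X.f (X.f t) = t := fun t => by
    have := X.f_iter t
    rwa [hm] at this
  have he : ∀ s < D.nroots, X.eps s * X.eps (rh W D s) = 1 := fun s hs => by
    have h := kall_krange hcls s hs
    simp only [Bool.and_eq_true, decide_eq_true_eq] at h
    have e : ep W D s * ep W D (rh W D s) = 1 := h.1.1.1.1.2
    show ((ep W D s : ℤ) : F) * ((ep W D (rh W D s) : ℤ) : F) = 1
    rw [← Int.cast_mul, e, Int.cast_one]
  have h := kall_krange htab r hr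
  simp only [Bool.and_eq_true, Bool.or_eq_true, decide_eq_true_eq, Nat.blt, Nat.ble_eq, kall_iff] at h
  obtain ⟨⟨⟨⟨⟨⟨⟨ha, hK⟩, hh⟩, hor⟩, hr1⟩, hr2⟩, hs⟩, heq⟩ := h
  set a := (tab.getD r (0, [])).1
  set K := (tab.getD r (0, [])).2
  set h0 := C.sr ((W.orbAt a).headD 0) with hh0
  set w := W.flat K with hw
  let K' : List (Fin W.nO) := K.pmap Fin.mk hK
  have e1 : K'.map Fin.val = K := by simp [K', List.map_pmap]
  have e2 : (X.flatW K').map Fin.val = w := by rw [X.flatW_val, e1]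
  set σ : F := (C.sgnL w h0 : F) with hσ
  set σ' : F := (C.sgnL w (rh W D h0) : F) with hσ'
  have hσσ : σ * σ = 1 := by
    rcases hs with e | e <;> rw [hσ, e] <;> simp
  have hfσ : X.f σ = σ := by rw [hσ, map_intCast]
  have hσe : σ' * X.eps h0 = X.eps r * σ := by
    have := congrArg (fun z : ℤ => (z : F)) heq
    simp only [Int.cast_mul] at this
    exact this
  have hh1 : rh W D h0 < D.nroots := X.rho_lt hh
  have hw1 := Nat.eq_of_beq_eq_true hr1
  have hw2 := Nat.eq_of_beq_eq_true hr2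
  have hsing : rh W D h0 = h0 → rh W D r = r ∧ X.eps r = X.eps h0 := fun e => by
    have e' : rh W D r = r := by rw [← hw2, e, hw1]
    refine ⟨e', ?_⟩
    have : σ' = σ := by rw [hσ', e]
    rw [this] at hσe
    linear_combination (-σ) * hσe + (X.eps h0 - X.eps r) * hσσ
  set t0 : F := σ * t with ht0
  have ht' := (mem_allowed hff (he r hr)).1 ht
  have ht0' : t0 ∈ X.Allowed (cl W D h0) := (mem_allowed hff (he h0 hh)).2 fun e => by
    obtain ⟨a1, a2⟩ := hsing e
    rw [ht0, map_mul, hfσ, ← a2]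
    linear_combination σ * ht' a1
  have hor' : X.orP a = cl W D h0 := hor
  have hn := X.N1_le_G1 (X.nW_mem_N1 K')
  have hin := mul_mem (mul_mem hn (X.y_mem_G1 ha (Or.inl hor'.symm) ht0')) (inv_mem hn)
  have c1 := X.S.nL_conj (F := F) (X.flatW K') hh t0
  have c2 := X.S.nL_conj (F := F) (X.flatW K') hh1 (X.eps h0 * X.f t0)
  rw [e2, hw1] at c1
  rw [e2, hw2] at c2
  have v1 : σ * t0 = t := by rw [ht0, ← mul_assoc, hσσ, one_mul]
  have v2 : σ' * (X.eps h0 * X.f t0) = X.eps r * X.f t := by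
    rw [ht0, map_mul, hfσ, ← mul_assoc, hσe]
    linear_combination (X.eps r * X.f t) * hσσ
  rw [← hσ, v1] at c1
  rw [← hσ', v2] at c2
  rw [y_cl] at hin ⊢
  by_cases hsg : rh W D h0 = h0
  · rw [if_pos hsg] at hin
    rw [if_pos (hsing hsg).1]
    exact c1 ▸ hin
  · rw [if_neg hsg] at hin
    have hsg' : rh W D r ≠ r := fun e => hsg (by
      have i1 := X.S.wpL_val (X.flatW K') ⟨h0, hh⟩
      have i2 := X.S.wpL_val (X.flatW K') ⟨rh W D h0, hh1⟩
      rw [e2] at i1 i2
      exact congrArg Fin.val ((X.S.wpL (X.flatW K')).injective (Fin.ext (by rw [i2, i1, hw1, hw2, e]) :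
        X.S.wpL (X.flatW K') ⟨rh W D h0, hh1⟩ = X.S.wpL (X.flatW K') ⟨h0, hh⟩)))
    rw [if_neg hsg']
    rw [← c1, ← c2]
    show X.nW K' * _ * _ * (X.nW K' * _ * _) ∈ X.G1
    simpa [Tw.nW, mul_assoc] using hin

end Cfsg.Lib.EDegTw
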