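import Cfsg.Agent.Chev.EDeg.Numeric

/-! Degrees just below the bound are excluded for the twisted type E6. -/

set_option autoImplicit false
set_option maxHeartbeats 1000000

namespace Cfsg.Lib.EDeg

theorem gcd_dvd_res {k : ℕ} {P c : ℤ} (h : P ∣ (k : ℤ) - c) : Nat.gcd k P.natAbs ∣ c.natAbs := by
  refine Int.natCast_dvd.1 ?_
  have h1 : ((Nat.gcd k P.natAbs : ℕ) : ℤ) ∣ (k : ℤ) := Int.natCast_dvd_natCast.2 (Nat.gcd_dvd_left _ _)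
  have h2 : ((Nat.gcd k P.natAbs : ℕ) : ℤ) ∣ P :=
    (Int.natCast_dvd_natCast.2 (Nat.gcd_dvd_right _ _)).trans (Int.natAbs_dvd.2 dvd_rfl)
  have := dvd_sub h1 (h2.trans h)
  simpa using this

theorem gcd_pow_dvd (k a : ℕ) : ∀ n : ℕ, Nat.gcd k (a ^ n) ∣ Nat.gcd k a ^ n
  | 0 => by simp
  | n + 1 => by
    rw [pow_succ, pow_succ]
    exact (gcd_mul_dvd_mul_gcd k _ _).trans (Nat.mul_dvd_mul_right (gcd_pow_dvd k a n) _)

theorem gcd_split {k a b A B : ℕ} (ha : Nat.gcd k a ∣ A) (hb : Nat.gcd k b ∣ B) : Nat.gcd k (a * b) ∣ A * B :=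
  (gcd_mul_dvd_mul_gcd k a b).trans (mul_dvd_mul ha hb)

theorem gcd_pow_le {k a A : ℕ} (n : ℕ) (h : Nat.gcd k a ∣ A) : Nat.gcd k (a ^ n) ∣ A ^ n :=
  (gcd_pow_dvd k a n).trans (pow_dvd_pow_of_dvd h n)

/-- The degrees just below the bound in type ²E₆. -/
theorem no_degree_tE6 {q k j : ℕ} (hq : IsPrimePow q) (hj : 1 ≤ j) (hj2 : j ≤ 2)
    (hk : k + j = q * ((q ^ 6 - q ^ 3 + 1) * (q ^ 4 + 1))) :
    ¬ k ∣ q ^ 36 * ((q ^ 2 - 1) * (q ^ 5 + 1) * (q ^ 6 - 1) * (q ^ 8 - 1) * (q ^ 9 + 1) * (q ^ 12 - 1)) := by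
  intro h
  have h2 := hq.two_le
  rcases Nat.lt_or_ge q 24 with hs | hs
  · have key : ∀ q < 24, 2 ≤ q → ∀ j < 3, 1 ≤ j →
        (q ^ 36 * ((q ^ 2 - 1) * (q ^ 5 + 1) * (q ^ 6 - 1) * (q ^ 8 - 1) * (q ^ 9 + 1) * (q ^ 12 - 1))) %
          (q * ((q ^ 6 - q ^ 3 + 1) * (q ^ 4 + 1)) - j) ≠ 0 := by decide +kernel
    refine key q hs h2 j (by omega) hj ?_
    rw [← hk, Nat.add_sub_cancel]
    exact Nat.mod_eq_zero_of_dvd h
  have hp : ∀ n, 1 ≤ q ^ n := fun n => Nat.one_le_pow _ _ (by omega)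
  have h63 : q ^ 3 ≤ q ^ 6 := Nat.pow_le_pow_right (by omega) (by omega)
  set z : ℤ := (q : ℤ) with hz
  set R0 : ℕ := (q ^ 3 + 1) * (q ^ 4 - 1) * (q ^ 12 - 1) * (q ^ 6 - 1) * (q ^ 5 + 1) * (q ^ 2 - 1)
  set M : ℕ := (q ^ 6 - q ^ 3 + 1) * (q ^ 4 + 1) with hM
  have e1 : (q ^ 2 - 1) * (q ^ 5 + 1) * (q ^ 6 - 1) * (q ^ 8 - 1) * (q ^ 9 + 1) * (q ^ 12 - 1) = R0 * M := by
    zify [hp 2, hp 4, hp 6, hp 8, hp 12, h63, hM, R0]
    ring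
  have h3 : k ∣ j * (R0 * M) := e1 ▸ dvd_mul_of_coprime hq hj (by omega) ⟨M, hk⟩ h
  have h4 : k ∣ j * (j * R0) := by
    have e : j * (R0 * M) * q = k * (j * R0) + j * (j * R0) := by
      calc j * (R0 * M) * q = j * R0 * (q * M) := by ring
        _ = _ := by rw [← hk]; ring
    exact (Nat.dvd_add_right (dvd_mul_right k _)).1 (e ▸ h3.mul_right q)
  have hkz : (k : ℤ) = z * ((z ^ 6 - z ^ 3 + 1) * (z ^ 4 + 1)) - (j : ℤ) := by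
    have := congrArg (fun n : ℕ => (n : ℤ)) hk
    simp only [hM, Nat.cast_add, Nat.cast_mul, Nat.cast_pow, Nat.cast_one, Nat.cast_sub h63] at this
    linarith
  have hR : R0 = (z - 1).natAbs ^ 4 * ((z + 1).natAbs ^ 6 * ((z ^ 2 + z + 1).natAbs ^ 2 * ((z ^ 2 + 1).natAbs ^ 2 *
      ((z ^ 2 - z + 1).natAbs ^ 3 * ((z ^ 4 - z ^ 3 + z ^ 2 - z + 1).natAbs *
        (z ^ 4 - z ^ 2 + 1).natAbs))))) := by
    rw [← Int.natAbs_natCast R0]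
    simp only [← Int.natAbs_mul, ← Int.natAbs_pow]
    congr 1
    simp only [R0, hz, Nat.cast_mul, Nat.cast_add, Nat.cast_one, Nat.cast_pow, Nat.cast_sub (hp 2),
      Nat.cast_sub (hp 4), Nat.cast_sub (hp 6), Nat.cast_sub (hp 12)]
    ring
  have g2 : Nat.gcd k (z + 1).natAbs ∣ 6 + j := by
    refine (gcd_dvd_res (c := -6 - (j : ℤ)) ⟨6 - 5 * z + 5 * z ^ 2 - 5 * z ^ 3 + 4 * z ^ 4 - 3 * z ^ 5 + 3 * z ^ 6 -
      2 * z ^ 7 + z ^ 8 - z ^ 9 + z ^ 10, by rw [hkz]; ring⟩).trans ?_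
    exact dvd_of_eq (by omega)
  have g3 : Nat.gcd k (z ^ 2 + z + 1).natAbs ∣ 1 + j := by
    refine (gcd_dvd_res (c := -1 - (j : ℤ)) ⟨1 - z ^ 2 + z ^ 3 - z ^ 4 + z ^ 5 - z ^ 8 + z ^ 9,
      by rw [hkz]; ring⟩).trans ?_
    exact dvd_of_eq (by omega)
  have g4 : Nat.gcd k (z ^ 2 + 1).natAbs ∣ 2 + j := by
    refine (gcd_dvd_res (c := -2 - (j : ℤ)) ⟨2 + z - 2 * z ^ 2 - z ^ 3 + z ^ 4 + 2 * z ^ 5 - z ^ 6 - z ^ 7 + z ^ 9,
      by rw [hkz]; ring⟩).trans ?_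
    exact dvd_of_eq (by omega)
  have g6 : Nat.gcd k (z ^ 2 - z + 1).natAbs ∣ 3 - j := by
    refine (gcd_dvd_res (c := 3 - (j : ℤ)) ⟨-3 - 2 * z + z ^ 2 + 3 * z ^ 3 + z ^ 4 - z ^ 5 - 2 * z ^ 6 + z ^ 8 + z ^ 9,
      by rw [hkz]; ring⟩).trans ?_
    exact dvd_of_eq (by omega)
  have g10 : Nat.gcd k (z ^ 4 - z ^ 3 + z ^ 2 - z + 1).natAbs ∣ q - j := by
    refine (gcd_dvd_res (c := z - (j : ℤ)) ⟨-z ^ 4 + z ^ 6 + z ^ 7, by rw [hkz]; ring⟩).trans ?_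
    exact dvd_of_eq (by omega)
  have hlow : q ^ 11 ≤ 2 * k := by
    have a0 : 2 * q ^ 8 ≤ q ^ 11 := by
      rw [show q ^ 11 = q ^ 3 * q ^ 8 by ring]
      exact Nat.mul_le_mul_right _ (le_trans h2 (Nat.le_self_pow (by norm_num) q))
    have a1 : q ^ 4 ≤ q ^ 5 := Nat.pow_le_pow_right (by omega) (by omega)
    have a2 : 2 ≤ q ^ 7 := le_trans h2 (Nat.le_self_pow (by norm_num) q)
    have e : k + j + q ^ 8 + q ^ 4 = q ^ 11 + q ^ 7 + q ^ 5 + q := by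
      rw [hk, hM]
      zify [h63]
      ring
    omega
  have h5 : k ∣ Nat.gcd k (j * (j * R0)) := Nat.dvd_gcd dvd_rfl h4
  obtain rfl | rfl : j = 1 ∨ j = 2 := by omega
  · have g12 : Nat.gcd k (z ^ 4 - z ^ 2 + 1).natAbs ∣ (z ^ 4 - z ^ 2 + 1).natAbs := Nat.gcd_dvd_right _ _
    have g1 : Nat.gcd k (z - 1).natAbs ∣ 1 := by
      refine (gcd_dvd_res (c := 2 - ((1 : ℕ) : ℤ)) ⟨2 + z + z ^ 2 + z ^ 3 + 2 * z ^ 4 + z ^ 5 + z ^ 6 + z ^ 8 + z ^ 9 +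
        z ^ 10, by rw [hkz]; ring⟩).trans ?_
      exact dvd_of_eq (by norm_num)
    rw [one_mul, one_mul, hR] at h5
    have h6 := h5.trans (gcd_split (gcd_pow_le 4 g1) (gcd_split (gcd_pow_le 6 g2) (gcd_split (gcd_pow_le 2 g3)
      (gcd_split (gcd_pow_le 2 g4) (gcd_split (gcd_pow_le 3 g6) (gcd_split g10 g12))))))
    have hP : (z ^ 4 - z ^ 2 + 1).natAbs ≤ q ^ 4 := by
      have b : (1 : ℤ) ≤ z ^ 2 := by rw [hz]; exact_mod_cast hp 2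
      have c : z ^ 2 ≤ z ^ 4 := by
        rw [hz]
        exact_mod_cast (Nat.pow_le_pow_right (show 0 < q by omega) (show 2 ≤ 4 by omega))
      have d : (z ^ 4 - z ^ 2 + 1).natAbs ≤ ((q ^ 4 : ℕ) : ℤ).natAbs := by
        push_cast
        rw [← hz]
        omega
      simpa using d
    have hpos : 0 < (q - 1) * (z ^ 4 - z ^ 2 + 1).natAbs := by
      refine Nat.mul_pos (by omega) (Int.natAbs_pos.2 ?_)
      have c : z ^ 2 ≤ z ^ 4 := by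
        rw [hz]
        exact_mod_cast (Nat.pow_le_pow_right (show 0 < q by omega) (show 2 ≤ 4 by omega))
      omega
    have h7 := Nat.le_of_dvd (by positivity) h6
    have h8 : (q - 1) * (z ^ 4 - z ^ 2 + 1).natAbs ≤ q ^ 5 := by
      rw [show q ^ 5 = q * q ^ 4 by ring]
      exact Nat.mul_le_mul (Nat.sub_le _ _) hP
    norm_num at h7
    have h9 : q ^ 11 ≤ 67765824 * q ^ 5 := by nlinarith
    rw [show q ^ 11 = q ^ 6 * q ^ 5 by ring] at h9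
    have h10 := Nat.le_of_mul_le_mul_right h9 (hp 5)
    have h11 : 24 ^ 6 ≤ q ^ 6 := Nat.pow_le_pow_left hs 6
    norm_num at h11
    omega
  · have g12 : Nat.gcd k (z ^ 4 - z ^ 2 + 1).natAbs ∣ 1 := by
      refine (gcd_dvd_res (c := 1 - ((2 : ℕ) : ℤ)) ⟨-1 + z - z ^ 2 + z ^ 3 - z ^ 4 + z ^ 5 + z ^ 7,
        by rw [hkz]; ring⟩).trans ?_
      exact dvd_of_eq (by norm_num)
    set Qz : ℤ := 2 + z + z ^ 2 + z ^ 3 + 2 * z ^ 4 + z ^ 5 + z ^ 6 + z ^ 8 + z ^ 9 + z ^ 10 with hQz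
    have hk1 : k = (z - 1).natAbs * Qz.natAbs := by
      rw [← Int.natAbs_mul, ← Int.natAbs_natCast k]
      congr 1
      rw [hkz, hQz]
      push_cast
      ring
    have g1 : Nat.gcd k ((z - 1).natAbs ^ 4) ∣ (q - 1) * 12 ^ 3 := by
      rw [hk1, show (z - 1).natAbs ^ 4 = (z - 1).natAbs * (z - 1).natAbs ^ 3 by ring, Nat.gcd_mul_left,
        show (z - 1).natAbs = q - 1 by omega]
      refine Nat.mul_dvd_mul_left _ (gcd_pow_le 3 ?_)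
      have h0 : (z - 1) ∣ ((Qz.natAbs : ℕ) : ℤ) - 12 := by
        have hQ0 : 0 ≤ Qz := by rw [hQz, hz]; positivity
        rw [Int.natAbs_of_nonneg hQ0, hQz]
        exact ⟨10 + 9 * z + 8 * z ^ 2 + 7 * z ^ 3 + 5 * z ^ 4 + 4 * z ^ 5 + 3 * z ^ 6 + 3 * z ^ 7 + 2 * z ^ 8 + z ^ 9,
          by ring⟩
      have := gcd_dvd_res h0
      rwa [show (z - 1).natAbs = q - 1 by omega] at this
    rw [hR] at h5
    have h6 := h5.trans (gcd_split (Nat.gcd_dvd_right k 2) (gcd_split (Nat.gcd_dvd_right k 2) (gcd_split g1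
      (gcd_split (gcd_pow_le 6 g2) (gcd_split (gcd_pow_le 2 g3)
        (gcd_split (gcd_pow_le 2 g4) (gcd_split (gcd_pow_le 3 g6) (gcd_split g10 g12))))))))
    have hpos : 0 < (q - 1) * (q - 2) := Nat.mul_pos (by omega) (by omega)
    have h7 := Nat.le_of_dvd (Nat.pos_of_ne_zero (by simp; omega)) h6
    have h8 : (q - 1) * (q - 2) ≤ q ^ 2 := by
      rw [pow_two]
      exact Nat.mul_le_mul (Nat.sub_le _ _) (Nat.sub_le _ _)
    norm_num at h7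
    have h9 : q ^ 11 ≤ 521838526464 * q ^ 2 := by nlinarith
    rw [show q ^ 11 = q ^ 9 * q ^ 2 by ring] at h9
    have h10 := Nat.le_of_mul_le_mul_right h9 (hp 2)
    have h11 : 24 ^ 9 ≤ q ^ 9 := Nat.pow_le_pow_left hs 9
    norm_num at h11
    omega

end Cfsg.Lib.EDeg
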