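import Cfsg.Agent.Chev.EDeg.TwData
import Cfsg.Agent.Chev.EDeg.TwMemb
import Cfsg.Agent.Chev.EDeg.TwNumeric
import Cfsg.Agent.Chev.EDeg.Final

/-! The minimal degree for type ²E₆. -/

set_option autoImplicit false
set_option maxHeartbeats 2000000

open Cfsg.Lie
open Cfsg.Lib.Chev

namespace Cfsg.Lib.EDegTw.E6

open Cfsg.Lib.EDeg (Mem)

theorem rsSize_eq (W : TwDat) (D : ChevalleyDatum) (q : ℕ) (rs : List (ℕ × ℕ)) :
    rsSize W D q rs = q ^ (rs.map fun p => (cl W D p.1).length).sum := by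
  induction rs with
  | nil => simp [rsSize]
  | cons p rs ih =>
    simp only [rsSize, List.map_cons, List.prod_cons, List.sum_cons] at ih ⊢
    rw [ih, pow_add]

theorem stepsSum_eq (W : TwDat) (D : ChevalleyDatum) (q : ℕ) (L : List Step) :
    stepsSum W D q L = ((L.flatMap fun s => s.cells.map fun c => (c.rs.map fun p => (cl W D p.1).length).sum).map
      fun e => (q - 1) * q ^ e).sum := by
  simp only [stepsSum, cellsSum, rsSize_eq]
  induction L with
  | nil => simp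
  | cons s L ih => simp [List.flatMap_cons, List.map_map, Function.comp_def, ih]

theorem prod_pow (q : ℕ) (g : ℕ → ℕ) (L : List ℕ) : (L.map fun e => q ^ g e).prod = q ^ (L.map g).sum := by
  induction L with
  | nil => simp
  | cons a L ih => simp [pow_add, ih]

theorem degree_bound {K : Type*} [Field K] [Fintype K]
    (X : Tw chevE6 chevF4 Cfsg.Lib.Chev.E6.cert F4.cert Cfsg.Lib.Chev.E6.tw Cfsg.Lib.Chev.E6.htTab K)
    (hq : IsPrimePow X.q) (hG : X.G1 = twistedE6 K X.q) (hK : Fintype.card K = X.q ^ 2) (k : ℕ)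
    (ρ : Representation ℂ ↥X.G1 (Fin k → ℂ)) (hρ : ρ.IsIrreducible) (hk : 2 ≤ k) :
    X.q * (X.q ^ 6 - X.q ^ 3 + 1) * (X.q ^ 4 + 1) ≤ k := by
  classical
  have E : TEnv X := ⟨okOne, rfl, okCls, memb_spec rfl okCls okMemb⟩
  have hs : IsSimpleGroup ↥X.G1 := by
    rw [hG]
    exact (Cfsg.Lib.Chev.E6.twSimple hq hK).1
  have hinj := Cfsg.Lib.EDeg.not_irreducible_line ρ hρ hk hs
  obtain ⟨h0, htm, -, -, hρth, -, -, -, -, hthm, hthn⟩ := partsA E top okA
  obtain ⟨x, hx, hx0⟩ := exists_ne_zero E hthn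
  have htot := total_dim E (φ := ρ) top okA hx hx0
  rw [Module.finrank_fin_fun, prod_pow, upSize] at htot
  set a := dm ρ (top.am Cfsg.Lib.Chev.E6.tw chevE6) (one1 top.th x)
  set fx := dm ρ (top.tm Cfsg.Lib.Chev.E6.tw chevE6) (fun _ => (0 : K))
  have h2 := hq.two_le
  have ha0 : a ≠ 0 := fun h => by
    rw [h, mul_zero, mul_zero, add_zero] at htot
    have htop : ES ρ (Mem chevE6 (top.tm Cfsg.Lib.Chev.E6.tw chevE6)) (fun _ => (0 : K)) = ⊤ :=
      Submodule.eq_top_of_finrank_eq (by rw [Module.finrank_fin_fun]; exact htot.symm)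
    have h1 : yy E top.th x = 1 := hinj (LinearMap.ext fun v => by
      have h3 := eig_cl E (φ := ρ) (w := fun _ => (0 : K)) (fun δ _ => by simp) htm.rho hthm
        (htop ▸ Submodule.mem_top : v ∈ ES ρ (Mem chevE6 (top.tm Cfsg.Lib.Chev.E6.tw chevE6)) (fun _ => (0 : K))) hx
      rw [h3, lin_zero, AddChar.map_zero_eq_one, one_smul, map_one]
      rfl)
    have h4 := congrArg Subtype.val h1
    rw [yy_val E hthn hx, y_cl, if_pos hρth] at h4
    exact hx0 (X.S.xG_eq_one hthn h4)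
  have hT : X.q * (X.q ^ 6 - X.q ^ 3 + 1) * (X.q ^ 4 + 1) ≤ X.q ^ 11 := by
    have h63 : X.q ^ 3 ≤ X.q ^ 6 := Nat.pow_le_pow_right (by omega) (by omega)
    have a1 : X.q ^ 7 + X.q ^ 5 + X.q ≤ X.q ^ 8 + X.q ^ 4 := by
      obtain ⟨p, hp⟩ : ∃ p, X.q = p + 2 := ⟨X.q - 2, by omega⟩
      rw [hp]
      ring_nf
      omega
    have e : X.q * (X.q ^ 6 - X.q ^ 3 + 1) * (X.q ^ 4 + 1) + X.q ^ 8 + X.q ^ 4 =
        X.q ^ 11 + X.q ^ 7 + X.q ^ 5 + X.q := by
      zify [h63]
      ring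
    omega
  rcases Nat.lt_or_ge a 2 with ha | ha
  · have ha1 : a = 1 := by omega
    rw [ha1, mul_one] at htot
    have hU := simple_vec E top okA okH hx hx0 ha1
    rw [pos_eq] at hU
    have hU2 := adjacent E okAdj hU
    have hfix := count E (φ := ρ) (starts := [46, 39]) (fun k hk => by
      rcases List.mem_cons.1 hk with rfl | hk
      · exact hU
      · obtain rfl := List.mem_singleton.1 hk
        exact hU2) steps _ okSteps
    rw [stepsSum_eq, sizes] at hfix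
    simp only [List.map_cons, List.map_nil, List.sum_cons, List.sum_nil] at hfix
    change _ ≤ fx at hfix
    by_contra hlt
    obtain ⟨j, hj⟩ := Nat.exists_eq_add_of_lt (not_le.1 hlt)
    have h63 : X.q ^ 3 ≤ X.q ^ 6 := Nat.pow_le_pow_right (by omega) (by omega)
    have hj2 : j + 1 ≤ 2 := by
      have hfix' := hfix
      zify [show 1 ≤ X.q by omega, h63] at hfix' hj htot
      ring_nf at hfix' hj htot
      omega
    refine Cfsg.Lib.EDeg.no_degree_tE6 hq (k := k) (j := j + 1) (by omega) hj2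
      (by rw [← mul_assoc]; omega) ?_
    have := hρ
    have hdiv := Cfsg.Lib.Chars.finrank_dvd_card ρ
    rw [Module.finrank_fin_fun, hG] at hdiv
    have hord := Cfsg.Lib.Chev.E6.twOrder hq hK
    have := hdiv.trans (dvd_mul_left _ (Nat.gcd 3 (X.q + 1)))
    rw [hord] at this
    simpa only [mul_assoc] using this
  · have h5 : 2 * ((X.q - 1) * X.q ^ 10) ≤ (X.q - 1) * (X.q ^ 10 * a) := by
      rw [mul_comm 2, mul_assoc]
      exact Nat.mul_le_mul_left _ (Nat.mul_le_mul_left _ ha)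
    have h6 : X.q ^ 11 ≤ 2 * ((X.q - 1) * X.q ^ 10) := by
      rw [← mul_assoc, show X.q ^ 11 = X.q * X.q ^ 10 by ring]
      exact Nat.mul_le_mul_right _ (by omega)
    omega

theorem bound {K : Type*} [Field K] [Fintype K] (q : ℕ) (hq : IsPrimePow q) (hK : Fintype.card K = q ^ 2) (k : ℕ)
    (ρ : Representation ℂ (twistedE6 K q) (Fin k → ℂ)) (hρ : ρ.IsIrreducible) (hk : 2 ≤ k) :
    q * (q ^ 6 - q ^ 3 + 1) * (q ^ 4 + 1) ≤ k := by
  obtain ⟨X, hX⟩ := Cfsg.Lib.Chev.E6.exists_tw hq hK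
  subst hX
  have hG := Cfsg.Lib.Chev.E6.G1_eq X
  have key : ∀ H : Subgroup (GL chevE6.Idx K), H = X.G1 → ∀ (ρ : Representation ℂ ↥H (Fin k → ℂ)),
      ρ.IsIrreducible → X.q * (X.q ^ 6 - X.q ^ 3 + 1) * (X.q ^ 4 + 1) ≤ k := by
    rintro H rfl ρ hρ
    exact degree_bound X hq hG hK k ρ hρ hk
  exact key _ hG.symm ρ hρ

end Cfsg.Lib.EDegTw.E6
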