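import Cfsg.Agent.Chev.EDeg.TwSplit
import Cfsg.Agent.Chev.EDeg.Adj

/-! Splitting along lists of classes, with checks on tables. -/

set_option autoImplicit false
set_option linter.unusedSectionVars false

open Cfsg.Lie
open Cfsg.Lib.Chev
open Cfsg.Lib.TwDeg (act_ne_zero)

namespace Cfsg.Lib.EDegTw

open Cfsg.Lib.EDeg (bit Mem okUn okUn_spec okLe okLe_spec mem_of_kall row tgt chainRoot_mem addBit)

section tables

variable (W : TwDat) (D : ChevalleyDatum)

/-- Adding a class to a mask. -/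
noncomputable def addCl (m r : ℕ) : ℕ := addBit (addBit m r) (rh W D r)

/-- Adding classes to a mask. -/
noncomputable def addCls (m : ℕ) (L : List ℕ) : ℕ :=
  @List.rec ℕ (fun _ => ℕ → ℕ) (fun a => a) (fun r _ ih a => ih (addCl W D a r)) L m

/-- A closed stable set of positive roots. -/
noncomputable def okCl (m : ℕ) : Bool :=
  kall (fun δ => !bit m δ || (Nat.ble (D.nroots / 2) δ && bit m (rh W D δ) &&
    kall (fun e => !bit m e.1 || bit m (tgt e)) (row D δ))) (krange 0 D.nroots)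

/-- One class may be adjoined. -/
noncomputable def okStep (m z r : ℕ) : Bool :=
  okUn D m (cl W D r) (addCl W D m r) && Nat.blt r D.nroots &&
  kall (fun c => Nat.ble (D.nroots / 2) c && !bit m c &&
    kall (fun e => !bit (addCl W D m r) e.1 || (bit m (tgt e) && bit z (tgt e))) (row D c)) (cl W D r)

/-- Classes may be adjoined one after another. -/
noncomputable def okList (z : ℕ) (L : List ℕ) : ℕ → Bool :=
  @List.rec ℕ (fun _ => ℕ → Bool) (fun _ => true)
    (fun r _ ih m => okStep W D m z r && ih (addCl W D m r)) L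

end tables

variable {D D' : ChevalleyDatum} {C C' : Cert} {W : TwDat} {T : List (List ℤ)} {F : Type*} [Field F] [Fintype F]
  {X : Tw D D' C C' W T F} (E : TEnv X)

theorem addCls_cons (m r : ℕ) (L : List ℕ) : addCls W D m (r :: L) = addCls W D (addCl W D m r) L := rfl

theorem addCls_nil (m : ℕ) : addCls W D m [] = m := rfl

include E in
theorem okCl_spec {m : ℕ} (h : okCl W D m = true) : Cl W D (Mem D m) where
  rho δ hδ := by
    have := mem_of_kall h hδ.1
    simp only [hδ.2, Bool.not_true, Bool.false_or, Bool.and_eq_true] at this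
    exact ⟨hδ.1, (cls_row E hδ.1).1, this.1.2⟩
  pos δ hδ := by
    have := mem_of_kall h hδ.1
    simp only [hδ.2, Bool.not_true, Bool.false_or, Bool.and_eq_true] at this
    exact Nat.le_of_ble_eq_true this.1.1
  closed r δ k hr hδ hk := by
    have := mem_of_kall h hr.1
    simp only [hr.2, Bool.not_true, Bool.false_or, Bool.and_eq_true, kall_iff] at this
    obtain ⟨e, he, rfl, rfl⟩ := chainRoot_mem hk
    refine ⟨(chain_some X.S.chain hr.1 (k := 0) hk).1, ?_⟩
    have := this.2 e he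
    simpa [hδ.2] using this

include E in
theorem okStep_spec {m z r : ℕ} {w : ℕ → F} (h : okStep W D m z r = true)
    (hw : ∀ k, Mem D m k → bit z k = true → w k = 0) :
    SStep W D (Mem D m) w r ∧ ∀ δ, Un W D r (Mem D m) δ ↔ Mem D (addCl W D m r) δ := by
  simp only [okStep, Bool.and_eq_true, kall_iff, Nat.blt, Nat.ble_eq, Bool.not_eq_true', Bool.or_eq_true] at h
  obtain ⟨⟨hu, hr⟩, hc⟩ := h
  refine ⟨⟨hr, fun c hcc => (hc c hcc).1.1, fun c hcc hm => ?_, fun c hcc δ hδ k hk => ?_⟩, fun δ => okUn_spec hu δ⟩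
  · have := hm.2
    rw [(hc c hcc).1.2] at this
    exact Bool.noConfusion this
  · obtain ⟨e, he, rfl, rfl⟩ := chainRoot_mem hk
    have hδ' := (okUn_spec hu _).1 hδ
    have hcn := (cl_rho E hr hcc).1
    obtain ⟨a, b⟩ := ((hc c hcc).2 e he).resolve_left (by simp [hδ'.2])
    have hk' : Mem D m (tgt e) := ⟨(chain_some X.S.chain hcn (k := 0) hk).1, a⟩
    exact ⟨hk', hw _ hk' b⟩

variable {V : Type*} [AddCommGroup V] [Module ℂ V] [FiniteDimensional ℂ V] {φ : ↥X.G1 →* Module.End ℂ V}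

/-- The dimension of an eigenspace. -/
noncomputable def dm (φ : ↥X.G1 →* Module.End ℂ V) (m : ℕ) (w : ℕ → F) : ℕ :=
  Module.finrank ℂ ↥(ES φ (Mem D m) w)

theorem dm_congr {m : ℕ} {w w' : ℕ → F} (h : ∀ δ, Mem D m δ → w δ = w' δ) : dm φ m w = dm φ m w' := by
  rw [dm, ES_congr (fun _ => Iff.rfl) h]; rfl

include E in
theorem step_props {m z r : ℕ} {w : ℕ → F} (h : okStep W D m z r = true) (hR : Cl W D (Mem D m))
    (hw : Eqv X (Mem D m) w) (hz : ∀ k, Mem D m k → bit z k = true → w k = 0) :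
    Cl W D (Mem D (addCl W D m r)) ∧
    (∀ x ∈ AG X r, Eqv X (Mem D (addCl W D m r)) (upd X w r x)) ∧
    (∀ x δ, Mem D m δ → Mem D (addCl W D m r) δ ∧ upd X w r x δ = w δ) ∧
    Mem D (addCl W D m r) r ∧
    dm φ m w = ∑ x : ↥(AG X r), dm φ (addCl W D m r) (upd X w r x) := by
  obtain ⟨hs, hu⟩ := okStep_spec E h hz
  refine ⟨?_, fun x hx δ hδ => upd_eqv E hR hs hw hx δ ((hu δ).2 hδ), fun x δ hδ =>
    ⟨(hu δ).1 (Or.inr hδ), upd_old hs hδ x⟩, (hu r).1 (Or.inl (mem_cl.2 (Or.inl rfl))), ?_⟩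
  · have := hs.cl' E hR
    exact ⟨fun δ hδ => ⟨hδ.1, (hu _).1 (this.rho δ ((hu δ).2 hδ)).2⟩, fun δ hδ => this.pos δ ((hu δ).2 hδ),
      fun a δ k ha hδ hk => (hu k).1 (this.closed a δ k ((hu a).2 ha) ((hu δ).2 hδ) hk)⟩
  · rw [dm, split E hR hs hw]
    refine Finset.sum_congr rfl fun x _ => ?_
    rw [dm, ES_congr hu fun _ _ => rfl]

include E in
theorem split_ge : ∀ (L : List ℕ) (m z : ℕ) (w : ℕ → F), okList W D z L m = true → Cl W D (Mem D m) →
    (∀ k, Mem D z k → Mem D m k) → Eqv X (Mem D m) w → (∀ k, Mem D m k → bit z k = true → w k = 0) →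
    ∀ S : Finset (ℕ → F), (∀ f ∈ S, Eqv X (Mem D (addCls W D m L)) f ∧ ∀ δ, Mem D m δ → f δ = w δ) →
      (∀ f ∈ S, ∀ f' ∈ S, (∀ r ∈ L, f r = f' r) → f = f') →
      ∑ f ∈ S, dm φ (addCls W D m L) f ≤ dm φ m w := by
  intro L
  induction L with
  | nil =>
    intro m z w _ _ _ _ _ S hS hd
    rcases S.eq_empty_or_nonempty with rfl | ⟨f, hf⟩
    · simp
    · rw [Finset.eq_singleton_iff_unique_mem.2 ⟨hf, fun f' hf' => hd f' hf' f hf (by simp)⟩, Finset.sum_singleton]
      exact le_of_eq (dm_congr (hS f hf).2)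
  | cons r L ih =>
    intro m z w hok hR hzm hw hz S hS hd
    classical
    replace hok : (okStep W D m z r && okList W D z L (addCl W D m r)) = true := hok
    rw [Bool.and_eq_true] at hok
    obtain ⟨hs, hu⟩ := okStep_spec E hok.1 hz
    obtain ⟨p1, p2, p3, p4, p5⟩ := step_props E (φ := φ) hok.1 hR hw hz
    have hsub : ∀ L' m', (∀ δ, Mem D m δ → Mem D m' δ) → okList W D z L' m' = true → ∀ δ, Mem D m' δ →
        Mem D (addCls W D m' L') δ := by
      intro L'
      induction L' with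
      | nil => exact fun _ _ _ δ h => h
      | cons a L' ih' =>
        intro m' hm hok' δ hδ
        replace hok' : (okStep W D m' z a && okList W D z L' (addCl W D m' a)) = true := hok'
        simp only [okStep, Bool.and_eq_true] at hok'
        exact ih' _ (fun δ h => (okUn_spec hok'.1.1.1 δ).1 (Or.inr (hm δ h))) hok'.2 δ
          ((okUn_spec hok'.1.1.1 δ).1 (Or.inr hδ))
    have hkey : ∀ f ∈ S, f r ∈ AG X r := fun f hf =>
      (allowed_iff E hs.lt).2 fun e => by
        have := (hS f hf).1 r (hsub L _ (fun δ h => (hu δ).1 (Or.inr h)) hok.2 r p4)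
        rw [e] at this
        exact this.symm
    rw [p5, ← Finset.sum_fiberwise S (fun f => if h : f r ∈ AG X r then (⟨f r, h⟩ : ↥(AG X r)) else 0)]
    refine Finset.sum_le_sum fun x _ => ih _ z _ hok.2 p1 (fun k hk => (p3 x k (hzm k hk)).1)
      (p2 x x.2) (fun k hk' hk => by rw [(p3 x k (hzm k ⟨hk'.1, hk⟩)).2]; exact hz k (hzm k ⟨hk'.1, hk⟩) hk) _ ?_ ?_
    · intro f hf
      rw [Finset.mem_filter] at hf
      have hx : f r = x := by
        have := hf.2
        rw [dif_pos (hkey f hf.1)] at this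
        exact congrArg Subtype.val this
      refine ⟨(hS f hf.1).1, fun δ hδ => ?_⟩
      rcases (hu δ).2 hδ with hc | hc
      · rcases mem_cl.1 hc with rfl | rfl
        · rw [upd_self, hx]
        · rw [upd_img E hs.lt x.2, ← hx]
          exact (hS f hf.1).1 r (hsub L _ (fun δ h => (hu δ).1 (Or.inr h)) hok.2 r p4)
      · rw [(p3 x δ hc).2, (hS f hf.1).2 δ hc]
    · intro f hf f' hf' he
      rw [Finset.mem_filter] at hf hf'
      refine hd f hf.1 f' hf'.1 fun s hs' => (List.mem_cons.1 hs').elim (fun e => ?_) (he s)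
      have e1 := hf.2.trans hf'.2.symm
      rw [dif_pos (hkey f hf.1), dif_pos (hkey f' hf'.1)] at e1
      rw [e]
      exact congrArg Subtype.val e1

include E in
theorem split_const : ∀ (L : List ℕ) (m z : ℕ) (w : ℕ → F), okList W D z L m = true → Cl W D (Mem D m) →
    (∀ k, Mem D z k → Mem D m k) → Eqv X (Mem D m) w → (∀ k, Mem D m k → bit z k = true → w k = 0) →
    ∀ a : ℕ, (∀ f : ℕ → F, Eqv X (Mem D (addCls W D m L)) f → (∀ δ, Mem D m δ → f δ = w δ) →
      dm φ (addCls W D m L) f = a) →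
    dm φ m w = (L.map fun r => X.q ^ (cl W D r).length).prod * a := by
  intro L
  induction L with
  | nil => exact fun m z w _ _ _ hw _ a ha => by simpa [addCls_nil] using ha w hw fun _ _ => rfl
  | cons r L ih =>
    intro m z w hok hR hzm hw hz a ha
    replace hok : (okStep W D m z r && okList W D z L (addCl W D m r)) = true := hok
    rw [Bool.and_eq_true] at hok
    obtain ⟨p1, p2, p3, p4, p5⟩ := step_props E (φ := φ) hok.1 hR hw hz
    rw [p5, Finset.sum_congr rfl fun (x : ↥(AG X r)) _ => ih _ z _ hok.2 p1 (fun k hk => (p3 x k (hzm k hk)).1)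
      (p2 x x.2) (fun k hk' hk => by rw [(p3 x k (hzm k ⟨hk'.1, hk⟩)).2]; exact hz k (hzm k ⟨hk'.1, hk⟩) hk) a fun f hf hfw =>
        ha f hf fun δ hδ => by rw [hfw δ (p3 x δ hδ).1, (p3 x δ hδ).2]]
    rw [Finset.sum_const, Finset.card_univ, card_AG E (okStep_spec E hok.1 hz).1.lt, smul_eq_mul, List.map_cons,
      List.prod_cons, mul_assoc]

include E in
/-- Common eigenvectors extend along a list. -/
theorem extend : ∀ (L : List ℕ) (m z : ℕ) (w : ℕ → F), okList W D z L m = true → Cl W D (Mem D m) →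
    (∀ k, Mem D z k → Mem D m k) → Eqv X (Mem D m) w → (∀ k, Mem D m k → bit z k = true → w k = 0) →
    dm φ m w ≠ 0 →
    ∃ w' : ℕ → F, (∀ δ, Mem D m δ → w' δ = w δ) ∧ Eqv X (Mem D (addCls W D m L)) w' ∧
      dm φ (addCls W D m L) w' ≠ 0 := by
  intro L
  induction L with
  | nil => exact fun m z w _ _ _ hw _ h => ⟨w, fun _ _ => rfl, hw, h⟩
  | cons r L ih =>
    intro m z w hok hR hzm hw hz h
    replace hok : (okStep W D m z r && okList W D z L (addCl W D m r)) = true := hok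
    rw [Bool.and_eq_true] at hok
    obtain ⟨p1, p2, p3, p4, p5⟩ := step_props E (φ := φ) hok.1 hR hw hz
    rw [p5] at h
    obtain ⟨x, -, hx⟩ := Finset.exists_ne_zero_of_sum_ne_zero h
    obtain ⟨w', h1, h2, h3⟩ := ih _ z _ hok.2 p1 (fun k hk => (p3 x k (hzm k hk)).1)
      (p2 x x.2) (fun k hk' hk => by rw [(p3 x k (hzm k ⟨hk'.1, hk⟩)).2]; exact hz k (hzm k ⟨hk'.1, hk⟩) hk) hx
    exact ⟨w', fun δ hδ => by rw [h1 δ (p3 x δ hδ).1, (p3 x δ hδ).2], h2, h3⟩

end Cfsg.Lib.EDegTw
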