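import Cfsg.Agent.Chev.EDeg.TwList

/-! Translations, monomial and torus elements acting on phases. -/

set_option autoImplicit false
set_option linter.unusedSectionVars false

open Cfsg.Lie
open Cfsg.Lib.Chev
open Cfsg.Lib.TwDeg (act_ne_zero)

namespace Cfsg.Lib.EDegTw

open Cfsg.Lib.EDeg (bit Mem okRow okRow_spec sig shiftW shiftW_some shiftW_none shiftW_zero mem_of_kall)

section tables

variable (W : TwDat) (D : ChevalleyDatum) (C : Cert)

/-- Translation by a class respects a mask. -/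
noncomputable def okTrans (m r : ℕ) : Bool :=
  okRow D m r (fun _ k => bit m k) && okRow D m (rh W D r) (fun _ k => bit m k)

/-- A term absent or vanishing. -/
noncomputable def okNil (z r δ : ℕ) : Bool := !Nat.blt (sumOr D r δ) D.nroots || bit z (sumOr D r δ)

/-- Translation by a class fixes a coordinate. -/
noncomputable def okFix (z r δ : ℕ) : Bool :=
  okNil D z r δ && (Nat.beq (rh W D r) r ||
    (okNil D z (rh W D r) δ &&
      (!Nat.blt (sumOr D r δ) D.nroots || okNil D z (rh W D r) (sumOr D r δ))))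

/-- Translation by a class moves a coordinate by a single term. -/
noncomputable def okSingle (z r δ k : ℕ) : Bool :=
  Nat.beq (sumOr D r δ) k && Nat.blt k D.nroots && Nat.blt r D.nroots && Nat.blt δ D.nroots &&
    (Nat.beq (rh W D r) r || (okNil D z (rh W D r) δ && okNil D z (rh W D r) k))

/-- A word of orbits carries one mask onto another. -/
noncomputable def okWey (K : List ℕ) (src dst : ℕ) : Bool :=
  kall (fun b => Nat.blt b W.nO) K &&
  kall (fun δ => !bit dst δ ||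
    (bit src (sig C (W.flat K) δ) && Nat.blt (sig C (W.flat K) δ) D.nroots &&
      Nat.beq (C.wL (W.flat K) (sig C (W.flat K) δ)) δ &&
      Nat.beq (sig C (W.flat K) (rh W D δ)) (rh W D (sig C (W.flat K) δ)) &&
      (decide (C.sgnL (W.flat K) (sig C (W.flat K) δ) = 1) || decide (C.sgnL (W.flat K) (sig C (W.flat K) δ) = -1)) &&
      decide (C.sgnL (W.flat K) (rh W D (sig C (W.flat K) δ)) * ep W D (sig C (W.flat K) δ) =
        ep W D δ * C.sgnL (W.flat K) (sig C (W.flat K) δ)))) (krange 0 D.nroots)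

end tables

variable {D D' : ChevalleyDatum} {C C' : Cert} {W : TwDat} {T : List (List ℤ)} {F : Type*} [Field F] [Fintype F]
  {X : Tw D D' C C' W T F} (E : TEnv X)

include E in
theorem okTrans_spec {m r : ℕ} (h : okTrans W D m r = true) :
    Trans D (Mem D m) r ∧ Trans D (Mem D m) (rh W D r) := by
  simp only [okTrans, Bool.and_eq_true] at h
  have key : ∀ c, okRow D m c (fun _ k => bit m k) = true → Trans D (Mem D m) c := fun c hc => by
    obtain ⟨hn, hs⟩ := okRow_spec hc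
    exact ⟨hn, fun δ hδ => ⟨(hs δ hδ).1, (hs δ hδ).2.1, fun k hk =>
      ⟨(chain_some X.S.chain hn (k := 0) hk).1, (hs δ hδ).2.2 k hk⟩⟩⟩
  exact ⟨key _ h.1, key _ h.2⟩

include E in
theorem okNil_spec {z r δ k : ℕ} {w : ℕ → F} (hr : r < D.nroots) (h : okNil D z r δ = true)
    (hw : ∀ j, Mem D z j → w j = 0) (hk : D.chainRoot r δ 1 = some k) : w k = 0 := by
  have hkn := (chain_some X.S.chain hr (k := 0) hk).1
  simp only [okNil, sumOr_some hk, Bool.or_eq_true, Bool.not_eq_true'] at h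
  refine hw k ⟨hkn, h.resolve_left ?_⟩
  simp [Nat.blt, Nat.ble_eq_true_of_le (show k + 1 ≤ _ from hkn)]

include E in
theorem okFix_spec {z r δ : ℕ} {w : ℕ → F} (hr : r < D.nroots) (h : okFix W D z r δ = true)
    (hw : ∀ j, Mem D z j → w j = 0) (t : F) : shift2 X w r t δ = w δ := by
  simp only [okFix, Bool.and_eq_true, Bool.or_eq_true] at h
  obtain ⟨h1, h2⟩ := h
  unfold shift2
  by_cases hs : rh W D r = r
  · rw [if_pos hs]
    exact shiftW_zero fun k hk => okNil_spec E hr h1 hw hk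
  · rw [if_neg hs]
    obtain ⟨h2, h3⟩ := h2.resolve_left fun e => hs (Nat.eq_of_beq_eq_true e)
    have hr' := (cls_row E hr).1
    rw [shiftW_zero fun k hk => ?_, shiftW_zero fun k hk => okNil_spec E hr' h2 hw hk]
    rw [shiftW_zero fun k2 hk2 => ?_]
    · exact okNil_spec E hr h1 hw hk
    · rw [sumOr_some hk] at h3
      refine okNil_spec E hr' (h3.resolve_left ?_) hw hk2
      simp [Nat.blt, Nat.ble_eq_true_of_le
        (show k + 1 ≤ _ from (chain_some X.S.chain hr (k := 0) hk).1)]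

include E in
theorem okSingle_spec {z r δ k : ℕ} {w : ℕ → F} (h : okSingle W D z r δ k = true)
    (hw : ∀ j, Mem D z j → w j = 0) (t : F) :
    shift2 X w r t δ = w δ - (D.chainM r δ 1 : F) * t * w k ∧ (D.chainM r δ 1 : F) ≠ 0 ∧
      D.chainRoot r δ 1 = some k ∧ δ < D.nroots ∧ r < D.nroots := by
  simp only [okSingle, Bool.and_eq_true, Bool.or_eq_true, Nat.blt, Nat.ble_eq] at h
  obtain ⟨⟨⟨⟨h1, hkn⟩, hr⟩, hδ⟩, h2⟩ := h
  have hk := of_sumOr (Nat.eq_of_beq_eq_true h1) hkn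
  refine ⟨?_, ?_, hk, hδ, hr⟩
  · unfold shift2
    by_cases hs : rh W D r = r
    · rw [if_pos hs, shiftW_some hk]
    · rw [if_neg hs]
      obtain ⟨a, b⟩ := h2.resolve_left fun e => hs (Nat.eq_of_beq_eq_true e)
      have hr' := (cls_row E hr).1
      rw [shiftW_some hk, shiftW_zero fun j hj => okNil_spec E hr' a hw hj,
        shiftW_zero fun j hj => okNil_spec E hr' b hw hj]
  · rcases Cfsg.Lib.EDeg.unit_M E.hone hr hk with e | e <;> simp [e]

variable {V : Type*} [AddCommGroup V] [Module ℂ V] [FiniteDimensional ℂ V] {φ : ↥X.G1 →* Module.End ℂ V}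

include E in
theorem translate {m r : ℕ} {w : ℕ → F} (h : okTrans W D m r = true) (hρ : RhoSt W D (Mem D m))
    (hw : Eqv X (Mem D m) w) {t : F} (ht : t ∈ AG X r) :
    Eqv X (Mem D m) (shift2 X w r t) ∧
      ∀ v ∈ ES φ (Mem D m) w, φ (yy E r t) v ∈ ES φ (Mem D m) (shift2 X w r t) := by
  obtain ⟨h1, h2⟩ := okTrans_spec E h
  refine ⟨shift2_eqv E (fun δ hδ => (hρ δ hδ).2) h1 (fun _ => h2) hw ht, fun v hv => carry _ ?_ hv⟩
  rw [yy_val E h1.1 ht]
  exact carr_y E h1 (fun _ => h2) w t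

include E in
theorem wey {K : List ℕ} {src dst : ℕ} (h : okWey W D C K src dst = true) :
    ∃ (n : ↥X.G1) (κ : ℕ → F), (∀ δ, Mem D dst δ → Mem D src (sig C (W.flat K) δ) ∧ κ δ ≠ 0) ∧
      (∀ w, Eqv X (Mem D src) w → Eqv X (Mem D dst) fun δ => κ δ * w (sig C (W.flat K) δ)) ∧
      ∀ w, ∀ v ∈ ES φ (Mem D src) w,
        φ n v ∈ ES φ (Mem D dst) fun δ => κ δ * w (sig C (W.flat K) δ) := by
  simp only [okWey, Bool.and_eq_true, kall_iff, Nat.blt, Nat.ble_eq, Bool.or_eq_true, Bool.not_eq_true',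
    decide_eq_true_eq] at h
  obtain ⟨hK, hm⟩ := h
  let K' : List (Fin W.nO) := K.pmap Fin.mk hK
  have e1 : K'.map Fin.val = K := by simp [K', List.map_pmap]
  have e2 : (X.flatW K').map Fin.val = W.flat K := by rw [X.flatW_val, e1]
  set L := W.flat K with hL
  have hmem : ∀ δ, Mem D dst δ → Mem D src (sig C L δ) ∧ C.wL L (sig C L δ) = δ ∧
      sig C L (rh W D δ) = rh W D (sig C L δ) ∧
      ((C.sgnL L (sig C L δ) : F) = 1 ∨ (C.sgnL L (sig C L δ) : F) = -1) ∧
      (C.sgnL L (rh W D (sig C L δ)) : F) * X.eps (sig C L δ) = X.eps δ * (C.sgnL L (sig C L δ) : F) := by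
    intro δ hδ
    obtain ⟨⟨⟨⟨⟨a, b⟩, c⟩, d⟩, e⟩, f⟩ := (hm δ (mem_krange0 hδ.1)).resolve_left (by simp [hδ.2])
    refine ⟨⟨b, a⟩, Nat.eq_of_beq_eq_true c, Nat.eq_of_beq_eq_true d, ?_, ?_⟩
    · rcases e with e | e
      · exact Or.inl (by rw [e, Int.cast_one])
      · exact Or.inr (by rw [e]; simp)
    · have := congrArg (fun z : ℤ => (z : F)) f
      simp only [Int.cast_mul] at this
      exact this
  refine ⟨⟨X.nW K', X.N1_le_G1 (X.nW_mem_N1 K')⟩, fun δ => (C.sgnL L (sig C L δ) : F),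
    fun δ hδ => ⟨(hmem δ hδ).1, ?_⟩, fun w hw δ hδ => ?_, fun w v hv => carry _ (carr_of_letters fun δ _ hδ a => ?_) hv⟩
  · rcases (hmem δ hδ).2.2.2.1 with e | e <;> simp [e]
  · obtain ⟨hs, -, h3, -, h5⟩ := hmem δ hδ
    simp only
    rw [h3, hw _ hs, map_mul, map_intCast]
    linear_combination (X.f (w (sig C L δ))) * h5
  · obtain ⟨hs, h2, -, h4, -⟩ := hmem δ hδ
    set c := (C.sgnL L (sig C L δ) : F)
    refine ⟨[(sig C L δ, c * a)], fun p hp => by obtain rfl := List.mem_singleton.1 hp; exact ⟨hs.1, hs⟩, ?_, ?_⟩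
    · have h1 := X.S.nL_conj (F := F) (X.flatW K') hs.1 (c * a)
      rw [e2, h2, ← mul_assoc, show c * c = 1 by rcases h4 with e | e <;> simp [e], one_mul,
        mul_inv_eq_iff_eq_mul] at h1
      show X.S.ok.xG δ a * X.S.nL F (X.flatW K') = X.S.nL F (X.flatW K') * _
      simp only [Ok.wG, List.map_cons, List.map_nil, List.prod_cons, List.prod_nil, mul_one]
      exact h1.symm
    · simp [val]
      ring

/-- A node fixed by the twisting with admissible torus values. -/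
def Node (X : Tw D D' C C' W T F) (i : Fin D.rank) : Prop := W.piAt i = i.val

include E in
theorem torus {i : Fin D.rank} (hi : Node X i) {z : Fˣ} (hz : X.f (z : F) = z) :
    ∃ n : ↥X.G1, ∀ R : ℕ → Prop, RhoSt W D R → ∀ w : ℕ → F,
      (Eqv X R w → Eqv X R fun δ => ((z ^ (-D.cartan i δ) : Fˣ) : F) * w δ) ∧
      ∀ v ∈ ES φ R w, φ n v ∈ ES φ R fun δ => ((z ^ (-D.cartan i δ) : Fˣ) : F) * w δ := by
  have hc : (Pi.mulSingle i z : Fin D.rank → Fˣ) ∈ X.CT := fun j => by
    have hfix : X.piF i = i := Fin.ext hi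
    by_cases hj : j = i
    · subst hj
      rw [hfix, Pi.mulSingle_eq_same, hz]
    · have : X.piF j ≠ i := fun e => hj (X.piF_bijective.1 (e.trans hfix.symm))
      simp [Pi.mulSingle_eq_of_ne hj, Pi.mulSingle_eq_of_ne this]
  refine ⟨⟨Ok.tG D F (Pi.mulSingle i z), X.T1_le_G1 ⟨_, hc, rfl⟩⟩, fun R hR w => ⟨fun hw δ hδ => ?_,
    fun v hv => carry _ (carr_of_letters fun δ hδn hδ a => ?_) hv⟩⟩
  · obtain ⟨hδn, -⟩ := hR δ hδ
    have hp := (X.pi_spec i.isLt).2.2.2.2.2 δ hδn
    rw [show W.piAt i = i.val from hi, X.S.ok.cart_eq i.isLt (X.rho_lt hδn), X.S.ok.cart_eq i.isLt hδn] at hp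
    simp only
    rw [hw δ hδ, map_mul, Units.val_zpow_eq_zpow_val, Units.val_zpow_eq_zpow_val, map_zpow₀, hz,
      show D.cartan i (rh W D δ) = D.cartan i δ from hp]
    ring
  · refine ⟨[(δ, ((z ^ (-D.cartan i δ) : Fˣ) : F) * a)],
      fun p hp => by obtain rfl := List.mem_singleton.1 hp; exact ⟨hδn, hδ⟩, ?_, by simp [val]; ring⟩
    have h := congrArg Subtype.val (Cfsg.Lib.EDeg.tt_conj (env E) i z hδn a)
    simpa [Cfsg.Lib.EDeg.g, Cfsg.Lib.EDeg.tt, Ok.wG] using h

end Cfsg.Lib.EDegTw
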