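import Cfsg.Agent.Chev.EDeg.TwChar
import Cfsg.Agent.Chev.ClosedPsi

/-! Splitting eigenspaces along classes. -/

set_option autoImplicit false
set_option linter.unusedSectionVars false

open Cfsg.Lie
open Cfsg.Lib.Chev
open Cfsg.Lib.TwDeg (proj e_mul_proj mem_iff sum_proj proj_mul act_end act_ne_zero)

namespace Cfsg.Lib.EDegTw

open Cfsg.Lib.EDeg (Env commTerms_eq shiftW_zero)

variable {D D' : ChevalleyDatum} {C C' : Cert} {W : TwDat} {T : List (List ℤ)} {F : Type*} [Field F] [Fintype F]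
  {X : Tw D D' C C' W T F} (E : TEnv X)

/-- Adding a class. -/
def Un (W : TwDat) (D : ChevalleyDatum) (r : ℕ) (R : ℕ → Prop) (δ : ℕ) : Prop := δ ∈ cl W D r ∨ R δ

/-- A closed stable set of positive roots. -/
structure Cl (W : TwDat) (D : ChevalleyDatum) (R : ℕ → Prop) : Prop where
  rho : RhoSt W D R
  pos : ∀ δ, R δ → D.nroots / 2 ≤ δ
  closed : ∀ r δ k, R r → R δ → D.chainRoot r δ 1 = some k → R k

/-- A class that may be adjoined. -/
structure SStep (W : TwDat) (D : ChevalleyDatum) (R : ℕ → Prop) (w : ℕ → F) (r : ℕ) : Prop where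
  lt : r < D.nroots
  pos : ∀ c ∈ cl W D r, D.nroots / 2 ≤ c
  out : ∀ c ∈ cl W D r, ¬ R c
  sums : ∀ c ∈ cl W D r, ∀ δ, Un W D r R δ → ∀ k, D.chainRoot c δ 1 = some k → R k ∧ w k = 0

section basic

variable {R : ℕ → Prop} {w : ℕ → F} {r : ℕ}

include E

theorem SStep.cl_lt (h : SStep W D R w r) {c : ℕ} (hc : c ∈ cl W D r) : c < D.nroots := by
  rcases mem_cl.1 hc with rfl | rfl
  · exact h.lt
  · exact (cls_row E h.lt).1

theorem SStep.stab (hR : Cl W D R) (h : SStep W D R w r) {c : ℕ} (hc : c ∈ cl W D r) : Stab D R w c :=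
  ⟨h.cl_lt E hc, fun δ hδ => ⟨(hR.rho δ hδ).1, fun e => by
    have h1 := hR.pos δ hδ
    have h2 := X.S.neg_lt_half (h.cl_lt E hc) (h.pos c hc)
    omega, h.sums c hc δ (Or.inr hδ)⟩⟩

theorem cl_rho {δ : ℕ} (hr : r < D.nroots) (hδ : δ ∈ cl W D r) : δ < D.nroots ∧ rh W D δ ∈ cl W D r := by
  rcases mem_cl.1 hδ with e | e <;> rw [e]
  · exact ⟨hr, mem_cl.2 (Or.inr rfl)⟩
  · exact ⟨(cls_row E hr).1, mem_cl.2 (Or.inl (cls_row E hr).2.1)⟩

theorem SStep.cl' (hR : Cl W D R) (h : SStep W D R w r) : Cl W D (Un W D r R) where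
  rho δ hδ := hδ.elim (fun hc => ⟨(cl_rho E h.lt hc).1, Or.inl (cl_rho E h.lt hc).2⟩)
    fun hc => ⟨(hR.rho δ hc).1, Or.inr (hR.rho δ hc).2⟩
  pos δ hδ := hδ.elim (h.pos δ) (hR.pos δ)
  closed a δ k ha hδ hk := by
    rcases ha with ha | ha
    · exact Or.inr (h.sums a ha δ hδ k hk).1
    · rcases hδ with hc | hc
      · exact Or.inr (h.sums δ hc a (Or.inr ha) k (chain_eqv E (hR.rho a ha).1 hk (h.cl_lt E hc)).2.1).1
      · exact Or.inr (hR.closed a δ k ha hc hk)

theorem closedPsi (hR : Cl W D R) : ClosedPsi D (fun i : Fin D.nroots => R i.val) := by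
  intro a b _ _ ha hb q hq hlt
  rw [commTerms_eq E.hone a.isLt b.isLt] at hq
  cases hk : D.chainRoot a.val b.val 1 with
  | none => rw [hk] at hq; simp at hq
  | some k =>
    rw [hk] at hq
    obtain rfl := List.mem_singleton.1 hq
    exact hR.closed _ _ k ha hb hk

theorem wG_mem_UPsi (hR : Cl W D R) : ∀ {L : List (ℕ × F)}, WIn D R L →
    X.S.ok.wG L ∈ X.S.UPsi F (fun i : Fin D.nroots => R i.val)
  | [], _ => by simp [Ok.wG]
  | p :: L, hL => by
    obtain ⟨hlt, hp⟩ := hL p List.mem_cons_self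
    rw [show X.S.ok.wG (p :: L) = X.S.ok.xG p.1 p.2 * X.S.ok.wG L by simp [Ok.wG]]
    exact mul_mem (X.S.mem_UPsi (r := ⟨p.1, hlt⟩) (hR.pos _ hp) hp _)
      (wG_mem_UPsi hR fun q hq => hL q (List.mem_cons_of_mem _ hq))

theorem chain_cl_none (hr : r < D.nroots) {a b : ℕ} (ha : a ∈ cl W D r) (hb : b ∈ cl W D r) :
    D.chainRoot a b 1 = none := by
  by_cases hab : b = a
  · subst hab
    cases hk : D.chainRoot b b 1 with
    | none => rfl
    | some k => exact absurd rfl (chain_some X.S.chain (cl_rho E hr hb).1 (k := 0) hk).2.2.2.1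
  · have hc : TwDat.commOK D a b = true := by
      rcases mem_cl.1 ha with rfl | rfl <;> rcases mem_cl.1 hb with rfl | rfl
      · exact absurd rfl hab
      · exact (cls_row E hr).2.2.2.2.1
      · exact (cls_row E hr).2.2.2.2.2
      · exact absurd rfl hab
    simp only [TwDat.commOK, Bool.or_eq_true, Bool.and_eq_true, knil_iff] at hc
    obtain ⟨-, h2⟩ := hc.resolve_left fun e => hab (Nat.eq_of_beq_eq_true e).symm
    rw [commTerms_eq E.hone (cl_rho E hr ha).1 (cl_rho E hr hb).1] at h2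
    cases hk : D.chainRoot a b 1 with
    | none => rfl
    | some k => rw [hk] at h2; simp at h2

theorem x_comm (hr : r < D.nroots) {a b : ℕ} (ha : a ∈ cl W D r) (hb : b ∈ cl W D r) (t u : F) :
    Commute (X.S.ok.xG a t) (X.S.ok.xG b u) := by
  rcases eq_or_ne a b with rfl | hab
  · show _ * _ = _ * _
    rw [X.S.ok.xG_mul, X.S.ok.xG_mul, add_comm]
  · refine X.S.commute_of_commOK (cl_rho E hr ha).1 (cl_rho E hr hb).1 ?_ t u
    rcases mem_cl.1 ha with rfl | rfl <;> rcases mem_cl.1 hb with rfl | rfl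
    · exact absurd rfl hab
    · exact (cls_row E hr).2.2.2.2.1
    · exact (cls_row E hr).2.2.2.2.2
    · exact absurd rfl hab

/-- Moving the class to the left of a word. -/
theorem decomp (hR : Cl W D R) (h : SStep W D R w r) {w' : ℕ → F} (hw : ∀ δ, R δ → w' δ = w δ) :
    ∀ L, WIn D (Un W D r R) L → ∃ A A', ∃ L', WIn D R L' ∧
      X.S.ok.wG L = X.S.ok.xG r A * X.S.ok.xG (rh W D r) A' * X.S.ok.wG L' ∧
      val w' L = w' r * A + w' (rh W D r) * A' + val w' L' := by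
  intro L
  induction L with
  | nil => exact fun _ => ⟨0, 0, [], fun p hp => by simp at hp, by simp [X.S.xG_zero, Ok.wG], by simp [val]⟩
  | cons p L ih =>
    intro hL
    obtain ⟨A, A', L', hL', e, ev⟩ := ih fun q hq => hL q (List.mem_cons_of_mem _ hq)
    rw [show X.S.ok.wG (p :: L) = X.S.ok.xG p.1 p.2 * X.S.ok.wG L by simp [Ok.wG], e, val_cons, ev]
    by_cases hp : p.1 = r
    · refine ⟨p.2 + A, A', L', hL', ?_, by rw [hp]; ring⟩
      rw [hp, ← mul_assoc, ← mul_assoc, X.S.ok.xG_mul]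
    by_cases hp' : p.1 = rh W D r
    · refine ⟨A, p.2 + A', L', hL', ?_, by rw [hp']; ring⟩
      rw [hp', ← mul_assoc, ← mul_assoc,
        (x_comm E h.lt (mem_cl.2 (Or.inr rfl)) (mem_cl.2 (Or.inl rfl)) p.2 A).eq, mul_assoc (X.S.ok.xG r A),
        X.S.ok.xG_mul]
    have hpR : R p.1 := (hL p List.mem_cons_self).2.resolve_left fun hc => (mem_cl.1 hc).elim hp hp'
    have hs := fun c hc => h.stab E hR (c := c) hc
    obtain ⟨L1, a1, b1, c1⟩ := (carr_x E (hs r (mem_cl.2 (Or.inl rfl))).trans w A) [(p.1, p.2)]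
      fun q hq => by obtain rfl := List.mem_singleton.1 hq; exact ⟨(hR.rho _ hpR).1, hpR⟩
    obtain ⟨L2, a2, b2, c2⟩ := (carr_x E (hs _ (mem_cl.2 (Or.inr rfl))).trans w A') L1 a1
    rw [val_congr (R := R) (w' := w) (fun δ hδ => shiftW_zero fun k hk =>
        (((hs r (mem_cl.2 (Or.inl rfl))).2 δ hδ).2.2 k hk).2) [(p.1, p.2)]
        (fun q hq => by obtain rfl := List.mem_singleton.1 hq; exact hpR)] at c1
    rw [val_congr (R := R) (w' := w) (fun δ hδ => shiftW_zero fun k hk =>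
        (((hs _ (mem_cl.2 (Or.inr rfl))).2 δ hδ).2.2 k hk).2) L1 (fun q hq => (a1 q hq).2)] at c2
    refine ⟨A, A', L2 ++ L', a2.append hL', ?_, ?_⟩
    · rw [show X.S.ok.xG p.1 p.2 = X.S.ok.wG [(p.1, p.2)] by simp [Ok.wG], X.wG_append, ← mul_assoc, ← mul_assoc, b1,
        mul_assoc (X.S.ok.xG r A), b2]
      simp only [mul_assoc]
    · rw [val_append, val_congr hw L2 (fun q hq => (a2 q hq).2), c2, c1, hw _ hpR]
      simp [val]
      ring

/-- A fixed word splits off an element of the class. -/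
theorem fixed_part (hR : Cl W D R) (h : SStep W D R w r) {w' : ℕ → F} (hw : ∀ δ, R δ → w' δ = w δ)
    (hw' : w' (rh W D r) = X.eps r * X.f (w' r)) {L : List (ℕ × F)} (hL : WIn D (Un W D r R) L)
    (hfix : X.sig (X.S.ok.wG L) = X.S.ok.wG L) :
    ∃ t ∈ AG X r, ∃ L', WIn D R L' ∧ X.S.ok.wG L = X.y (cl W D r) t * X.S.ok.wG L' ∧
      val w' L = lin X r (w' r) t + val w' L' := by
  obtain ⟨A, A', L', hL', e, ev⟩ := decomp E hR h hw L hL
  obtain ⟨hρn, hρρ, -, hee, -⟩ := cls_row E h.lt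
  set L'' := L'.map fun p => (X.rho p.1, X.eps p.1 * X.f p.2) with hL''
  have hL2 : WIn D R L'' := fun p hp => by
    obtain ⟨q, hq, rfl⟩ := List.mem_map.1 hp
    exact ⟨(hR.rho _ (hR.rho q.1 (hL' q hq).2).2).1, (hR.rho q.1 (hL' q hq).2).2⟩
  rw [e, map_mul, map_mul, sig_x E h.lt, sig_x E hρn, hρρ, X.sig_wG L' fun p hp => (hL' p hp).1, ← hL''] at hfix
  set B := X.eps (rh W D r) * X.f A' with hB
  set B' := X.eps r * X.f A with hB'
  have hz : X.S.ok.xG r (A - B) * X.S.ok.xG (rh W D r) (A' - B') = X.S.ok.wG L'' * (X.S.ok.wG L')⁻¹ := by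
    rw [eq_mul_inv_iff_mul_eq]
    have c1 := x_comm E h.lt (mem_cl.2 (Or.inr rfl)) (mem_cl.2 (Or.inl rfl))
    have h2 : X.S.ok.wG L'' = X.S.ok.xG r (-B) * (X.S.ok.xG (rh W D r) (-B') * X.S.ok.xG r A) *
        X.S.ok.xG (rh W D r) A' * X.S.ok.wG L' := by
      rw [← X.S.ok.xG_inv, ← X.S.ok.xG_inv]
      have h3 := congrArg (fun z => (X.S.ok.xG r B)⁻¹ * (X.S.ok.xG (rh W D r) B')⁻¹ * z) hfix
      simp only [mul_assoc, inv_mul_cancel_left] at h3 ⊢
      exact h3
    rw [h2, (c1 (-B') A).eq]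
    simp only [← mul_assoc]
    rw [X.S.ok.xG_mul, mul_assoc (X.S.ok.xG r (-B + A)), X.S.ok.xG_mul, neg_add_eq_sub, neg_add_eq_sub]
  have hclosed : ∀ (P : ℕ → Prop), (∀ a, P a → a ∈ cl W D r) →
      ClosedPsi D (fun i : Fin D.nroots => P i.val) := fun P hP a b _ _ ha hb q hq _ => by
    rw [commTerms_eq E.hone a.isLt b.isLt, chain_cl_none E h.lt (hP _ ha) (hP _ hb)] at hq
    simp at hq
  have h1 : X.S.ok.xG r (A - B) * X.S.ok.xG (rh W D r) (A' - B') = 1 := by
    have hm1 : X.S.ok.xG r (A - B) * X.S.ok.xG (rh W D r) (A' - B') ∈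
        X.S.UPsi F (fun i : Fin D.nroots => i.val ∈ cl W D r) :=
      mul_mem (X.S.mem_UPsi (Ψ := fun i : Fin D.nroots => i.val ∈ cl W D r) (r := ⟨r, h.lt⟩)
          (h.pos r (mem_cl.2 (Or.inl rfl))) (mem_cl.2 (Or.inl rfl)) _)
        (X.S.mem_UPsi (Ψ := fun i : Fin D.nroots => i.val ∈ cl W D r) (r := ⟨rh W D r, hρn⟩)
          (h.pos _ (mem_cl.2 (Or.inr rfl))) (mem_cl.2 (Or.inr rfl)) _)
    have hm2 : X.S.ok.xG r (A - B) * X.S.ok.xG (rh W D r) (A' - B') ∈
        X.S.UPsi F (fun i : Fin D.nroots => R i.val) := hz ▸ mul_mem (wG_mem_UPsi E hR hL2) (inv_mem (wG_mem_UPsi E hR hL'))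
    have := X.S.UPsi_inter (hclosed _ fun _ h => h) (closedPsi E hR) hm1 hm2
    rwa [X.S.UPsi_eq_bot fun i _ hi => h.out _ hi.1 hi.2, Subgroup.mem_bot] at this
  by_cases hs : rh W D r = r
  · rw [hs] at h1 e ev hB
    rw [X.S.ok.xG_mul] at h1
    have h0 := X.S.xG_eq_one h.lt h1
    rw [hB, hB'] at h0
    have hmem : A + A' ∈ AG X r := (allowed_iff E h.lt).2 fun _ => by
      rw [map_add]
      linear_combination -h0
    refine ⟨A + A', hmem, L', hL', ?_, ?_⟩
    · rw [e, X.S.ok.xG_mul, y_cl, if_pos hs]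
    · rw [ev, lin, if_pos hs]
      ring
  · have h2 : X.S.ok.xG r (A - B) = X.S.ok.xG (rh W D r) (-(A' - B')) := by
      rw [← X.S.ok.xG_inv]
      exact eq_inv_of_mul_eq_one_left h1
    have h3 : X.S.ok.xG r (A - B) = 1 := by
      have hm1 := X.S.mem_UPsi (F := F) (Ψ := fun i : Fin D.nroots => i.val = r) (r := ⟨r, h.lt⟩)
        (h.pos r (mem_cl.2 (Or.inl rfl))) rfl (A - B)
      have hm2 := X.S.mem_UPsi (F := F) (Ψ := fun i : Fin D.nroots => i.val = rh W D r) (r := ⟨rh W D r, hρn⟩)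
        (h.pos _ (mem_cl.2 (Or.inr rfl))) rfl (-(A' - B'))
      rw [← h2] at hm2
      have := X.S.UPsi_inter (hclosed (· = r) fun a ha => ha ▸ mem_cl.2 (Or.inl rfl))
        (hclosed (· = rh W D r) fun a ha => ha ▸ mem_cl.2 (Or.inr rfl)) hm1 hm2
      rwa [X.S.UPsi_eq_bot fun i _ hi => hs (hi.2.symm.trans hi.1), Subgroup.mem_bot] at this
    have ea := sub_eq_zero.1 (X.S.xG_eq_one h.lt h3)
    rw [h3, one_mul] at h1
    have eb := sub_eq_zero.1 (X.S.xG_eq_one hρn h1)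
    refine ⟨A, (allowed_iff E h.lt).2 fun x => absurd x hs, L', hL', ?_, ?_⟩
    · rw [e, y_cl, if_neg hs, eb, hB']
    · rw [ev, lin, if_neg hs, hw', eb, hB', map_mul]
      linear_combination (X.f (w' r) * X.f A) * eps_sq E h.lt

end basic

variable {V : Type*} [AddCommGroup V] [Module ℂ V] [FiniteDimensional ℂ V] {φ : ↥X.G1 →* Module.End ℂ V}
  {R : ℕ → Prop} {w : ℕ → F} {r : ℕ}

include E in
theorem join (hR : Cl W D R) (h : SStep W D R w r) {w' : ℕ → F} (hw : ∀ δ, R δ → w' δ = w δ)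
    (hw' : w' (rh W D r) = X.eps r * X.f (w' r)) {v : V} (hv : v ∈ ES φ R w)
    (he : ∀ t ∈ AG X r, φ (yy E r t) v = psi0 F (lin X r (w' r) t) • v) : v ∈ ES φ (Un W D r R) w' := by
  intro L hL g hg
  obtain ⟨t, ht, L', hL', e, ev⟩ := fixed_part E hR h hw hw' hL (by rw [← hg]; exact X.G1_le_Fx g.2)
  have e' : (((yy E r t)⁻¹ * g : ↥X.G1) : GL D.Idx F) = X.S.ok.wG L' := by
    rw [Subgroup.coe_mul, Subgroup.coe_inv, hg, e, yy_val E h.lt ht, inv_mul_cancel_left]
  rw [show g = yy E r t * ((yy E r t)⁻¹ * g) by group, act_end, hv L' hL' _ e', map_smul, he t ht, smul_smul, ev,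
    val_congr hw L' fun p hp => (hL' p hp).2, AddChar.map_add_eq_mul, mul_comm]

/-- The extension of phases to a class. -/
noncomputable def upd (X : Tw D D' C C' W T F) (w : ℕ → F) (r : ℕ) (x : F) (δ : ℕ) : F :=
  if δ = r then x else if δ = rh W D r then X.eps r * X.f x else w δ

theorem upd_self (x : F) : upd X w r x r = x := if_pos rfl

theorem upd_old (h : SStep W D R w r) {δ : ℕ} (hδ : R δ) (x : F) : upd X w r x δ = w δ := by
  unfold upd
  rw [if_neg fun e => h.out r (mem_cl.2 (Or.inl rfl)) (by rwa [e] at hδ),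
    if_neg fun e => h.out _ (mem_cl.2 (Or.inr rfl)) (by rwa [e] at hδ)]

include E in
theorem upd_img (hr : r < D.nroots) {x : F} (hx : x ∈ AG X r) :
    upd X w r x (rh W D r) = X.eps r * X.f x := by
  unfold upd
  by_cases h1 : rh W D r = r
  · rw [if_pos h1]
    exact ((allowed_iff E hr).1 hx h1).symm
  · rw [if_neg h1, if_pos rfl]

include E in
theorem upd_eqv (hR : Cl W D R) (h : SStep W D R w r) (hw : Eqv X R w) {x : F} (hx : x ∈ AG X r) :
    Eqv X (Un W D r R) (upd X w r x) := by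
  intro δ hδ
  rcases hδ with hc | hc
  · rcases mem_cl.1 hc with rfl | rfl
    · rw [upd_img E h.lt hx, upd_self]
    · rw [(cls_row E h.lt).2.1, upd_self, upd_img E h.lt hx, map_mul, feps E, ff E, ← mul_assoc,
        mul_comm (X.eps (rh W D r)), (cls_row E h.lt).2.2.2.1, one_mul]
  · rw [upd_old h (hR.rho δ hc).2, upd_old h hc, hw δ hc]

include E in
theorem yy_add (hr : r < D.nroots) (s t : ↥(AG X r)) :
    yy E r (s : F) * yy E r (t : F) = yy E r ((s + t : ↥(AG X r)) : F) := by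
  refine Subtype.ext ?_
  rw [Subgroup.coe_mul, yy_val E hr s.2, yy_val E hr t.2, yy_val E hr (s + t).2, y_cl, y_cl, y_cl]
  by_cases h : rh W D r = r
  · simp only [h, if_true, AddSubgroup.coe_add, X.S.ok.xG_mul]
  · simp only [h, if_false, AddSubgroup.coe_add]
    have c := (x_comm E hr (mem_cl.2 (Or.inr rfl)) (mem_cl.2 (Or.inl rfl)) (X.eps r * X.f s) (t : F)).eq
    rw [mul_assoc, ← mul_assoc (X.S.ok.xG (rh W D r) _), c, mul_assoc, ← mul_assoc, X.S.ok.xG_mul, X.S.ok.xG_mul,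
      map_add, mul_add]

include E in
theorem stab_act (hR : Cl W D R) (h : SStep W D R w r) (t : ↥(AG X r)) {v : V} (hv : v ∈ ES φ R w) :
    φ (yy E r (t : F)) v ∈ ES φ R w := by
  have hs := fun c hc => h.stab E hR (c := c) hc
  have h1 := carry (φ := φ) (yy E r (t : F)) (R := R) (R' := R) (w := w) (w' := shift2 X w r t) (by
    rw [yy_val E h.lt t.2]
    exact carr_y E (hs r (mem_cl.2 (Or.inl rfl))).trans (fun _ => (hs _ (mem_cl.2 (Or.inr rfl))).trans) w t) hv
  rwa [ES_congr (fun _ => Iff.rfl) fun δ hδ => shift2_stab (hs r (mem_cl.2 (Or.inl rfl)))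
    (fun _ => hs _ (mem_cl.2 (Or.inr rfl))) hδ] at h1

include E in
theorem mem_un_iff (hR : Cl W D R) (h : SStep W D R w r) (hw : Eqv X R w) (x : ↥(AG X r)) (v : V) :
    v ∈ ES φ (Un W D r R) (upd X w r x) ↔
      v ∈ ES φ R w ∧ ∀ t : ↥(AG X r), φ (yy E r (t : F)) v = chi X r x t • v := by
  constructor
  · intro hv
    refine ⟨ES_mono (fun δ hδ => Or.inr hδ) (fun δ hδ => (upd_old h hδ _).symm) hv, fun t => ?_⟩
    rw [eig_cl E (upd_eqv E hR h hw x.2) (h.cl' E hR).rho (Or.inl (mem_cl.2 (Or.inl rfl))) hv t.2, upd_self]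
    rfl
  · rintro ⟨hv, he⟩
    refine join E hR h (fun δ hδ => upd_old h hδ _) (by rw [upd_img E h.lt x.2, upd_self]) hv fun t ht => ?_
    rw [upd_self]
    exact he ⟨t, ht⟩

include E in
/-- The eigenspace splits under a class stabilising it. -/
theorem split (hR : Cl W D R) (h : SStep W D R w r) (hw : Eqv X R w) :
    Module.finrank ℂ ↥(ES φ R w) =
      ∑ x : ↥(AG X r), Module.finrank ℂ ↥(ES φ (Un W D r R) (upd X w r x)) := by
  classical
  have he := yy_add E h.lt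
  have hY : ∀ (x : ↥(AG X r)) (v : V), v ∈ ES φ R w →
      proj φ (fun t : ↥(AG X r) => yy E r (t : F)) (chi X r x) v ∈ ES φ (Un W D r R) (upd X w r x) := by
    intro x v hv
    rw [mem_un_iff E hR h hw]
    refine ⟨?_, fun t => LinearMap.congr_fun (e_mul_proj he (chi X r x) t) v⟩
    simp only [proj, LinearMap.smul_apply, LinearMap.sum_apply]
    exact Submodule.smul_mem _ _ (Submodule.sum_mem _ fun a _ => Submodule.smul_mem _ _ (stab_act E hR h a hv))
  have hid : ∀ (x y : ↥(AG X r)) (v : V), v ∈ ES φ (Un W D r R) (upd X w r x) →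
      proj φ (fun t : ↥(AG X r) => yy E r (t : F)) (chi X r y) v = if y = x then v else 0 := by
    intro x y v hv
    obtain ⟨u, hu⟩ := (mem_iff he (chi X r x) v).2 ((mem_un_iff E hR h hw x v).1 hv).2
    rw [← hu, ← Module.End.mul_apply, proj_mul he]
    rcases eq_or_ne y x with rfl | hne
    · simp
    · simp [hne, (chi_inj E h.lt).ne hne]
  let e : ↥(ES φ R w) ≃ₗ[ℂ] Π x : ↥(AG X r), ↥(ES φ (Un W D r R) (upd X w r x)) :=
    { toFun := fun v x => ⟨proj φ (fun t : ↥(AG X r) => yy E r (t : F)) (chi X r x) v, hY x v v.2⟩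
      map_add' := fun u v => funext fun x => Subtype.ext (by simp)
      map_smul' := fun c v => funext fun x => Subtype.ext (by simp)
      invFun := fun f => ⟨∑ x, (f x : V), Submodule.sum_mem _ fun x _ =>
        ((mem_un_iff E hR h hw x _).1 (f x).2).1⟩
      left_inv := fun v => Subtype.ext (by
        have h' := LinearMap.congr_fun (sum_proj (φ := φ) he) (v : V)
        rw [LinearMap.sum_apply, Module.End.one_apply, ← (chEq E h.lt).sum_comp] at h'
        exact h')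
      right_inv := fun f => funext fun y => Subtype.ext (by
        show proj φ _ (chi X r y) (∑ x, (f x : V)) = f y
        rw [map_sum, Finset.sum_congr rfl fun x _ => hid x y _ (f x).2]
        simp) }
  rw [e.finrank_eq, Module.finrank_pi_fintype]

include E in
/-- On a line stabilised by a class, the class acts by a character. -/
theorem line_eig (hr : r < D.nroots) (hst : ∀ t : ↥(AG X r), ∀ v ∈ ES φ R w, φ (yy E r (t : F)) v ∈ ES φ R w)
    (h1 : Module.finrank ℂ ↥(ES φ R w) = 1) :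
    ∃ x : ↥(AG X r), ∀ v ∈ ES φ R w, ∀ t : ↥(AG X r), φ (yy E r (t : F)) v = chi X r x t • v := by
  classical
  have he := yy_add E hr
  have : Nontrivial ↥(ES φ R w) := Module.nontrivial_of_finrank_eq_succ h1
  obtain ⟨v, hv⟩ := exists_ne (0 : ↥(ES φ R w))
  have hv0 : (v : V) ≠ 0 := fun e => hv (Subtype.ext e)
  have hsum := LinearMap.congr_fun (sum_proj (φ := φ) he) (v : V)
  rw [LinearMap.sum_apply, Module.End.one_apply, ← (chEq E hr).sum_comp] at hsum
  obtain ⟨x, -, hx⟩ := Finset.exists_ne_zero_of_sum_ne_zero (by rw [hsum]; exact hv0)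
  have hmem : proj φ (fun t : ↥(AG X r) => yy E r (t : F)) (chEq E hr x) (v : V) ∈ ES φ R w := by
    simp only [proj, LinearMap.smul_apply, LinearMap.sum_apply]
    exact Submodule.smul_mem _ _ (Submodule.sum_mem _ fun a _ => Submodule.smul_mem _ _ (hst a v v.2))
  refine ⟨x, fun u hu t => ?_⟩
  obtain ⟨c, hc⟩ := exists_smul_eq_of_finrank_eq_one h1 (x := ⟨_, hmem⟩) (fun e => hx (congrArg Subtype.val e))
    ⟨u, hu⟩
  have hc' : c • proj φ (fun t : ↥(AG X r) => yy E r (t : F)) (chEq E hr x) (v : V) = u := congrArg Subtype.val hc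
  rw [← hc', map_smul, smul_comm]
  exact congrArg (c • ·) (LinearMap.congr_fun (e_mul_proj he (chEq E hr x) t) (v : V))

end Cfsg.Lib.EDegTw
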