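import Cfsg.Agent.Chev.EDeg.Move
import Cfsg.Agent.Chev.Tw.Weyl

/-! Tables for the twisted groups of order two with a simply laced ambient system. -/

set_option autoImplicit false
set_option linter.unusedSectionVars false

open Cfsg.Lie
open Cfsg.Lib.Chev

namespace Cfsg.Lib.EDegTw

open Cfsg.Lib.EDeg (bit Mem okOne okRow row tgt sig)

section tables

variable (W : TwDat) (D : ChevalleyDatum) (C : Cert)

/-- The image of a root. -/
noncomputable def rh (r : ℕ) : ℕ := W.G.rho D.rank r

/-- The integral sign of a root. -/
noncomputable def ep (r : ℕ) : ℤ := W.G.eps D.rank r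

/-- The class of a root. -/
noncomputable def cl (r : ℕ) : List ℕ := if Nat.beq (rh W D r) r then [r] else [r, rh W D r]

/-- The sum root as a number, with a bound outside the range when absent. -/
noncomputable def sumOr (r δ : ℕ) : ℕ := (D.chainRoot r δ 1).getD D.nroots

/-- The second order term. -/
noncomputable def two (r r' δ : ℕ) : ℕ × ℤ :=
  let k := sumOr D r δ
  bif Nat.blt k D.nroots then
    (let k2 := sumOr D r' k; bif Nat.blt k2 D.nroots then (k2, D.chainM r δ 1 * D.chainM r' k 1) else (D.nroots, 0))
  else (D.nroots, 0)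

/-- Checks on the classes. -/
noncomputable def okCls : Bool :=
  kall (fun r =>
    Nat.blt (rh W D r) D.nroots && Nat.beq (rh W D (rh W D r)) r &&
    (decide (ep W D r = 1) || decide (ep W D r = -1)) && decide (ep W D r * ep W D (rh W D r) = 1) &&
    TwDat.commOK D r (rh W D r) && TwDat.commOK D (rh W D r) r &&
    kall (fun e => Nat.beq (sumOr D (rh W D r) (rh W D e.1)) (rh W D (tgt e)) &&
      decide (ep W D r * ep W D e.1 * D.chainM (rh W D r) (rh W D e.1) 1 = ep W D (tgt e) * D.chainM r e.1 1) &&
      Nat.beq (sumOr D e.1 r) (tgt e)) (row D r) &&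
    kall (fun δ => (Nat.beq (rh W D r) r) ||
      (Nat.beq (two D r (rh W D r) δ).1 (two D (rh W D r) r δ).1 &&
        decide ((two D r (rh W D r) δ).2 = (two D (rh W D r) r δ).2))) (krange 0 D.nroots))
    (krange 0 D.nroots)

/-- Witnesses that the class elements lie in the group: an orbit and a word of orbits for each root. -/
noncomputable def okMemb (tab : List (ℕ × List ℕ)) : Bool :=
  kall (fun r =>
    let a := (tab.getD r (0, [])).1
    let K := (tab.getD r (0, [])).2
    let w := W.flat K
    let h := C.sr ((W.orbAt a).headD 0)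
    Nat.blt a W.nO && kall (fun b => Nat.blt b W.nO) K && Nat.blt h D.nroots &&
    decide (kmap C.sr (W.orbAt a) = cl W D h) && Nat.beq (C.wL w h) r &&
    Nat.beq (C.wL w (rh W D h)) (rh W D r) && (decide (C.sgnL w h = 1) || decide (C.sgnL w h = -1)) &&
    decide (C.sgnL w (rh W D h) * ep W D h = ep W D r * C.sgnL w h)) (krange 0 D.nroots)

end tables

variable {W : TwDat} {D : ChevalleyDatum}

theorem sumOr_some {r δ k : ℕ} (h : D.chainRoot r δ 1 = some k) : sumOr D r δ = k := by simp [sumOr, h]

theorem of_sumOr {r δ k : ℕ} (h : sumOr D r δ = k) (hk : k < D.nroots) : D.chainRoot r δ 1 = some k := by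
  unfold sumOr at h
  cases e : D.chainRoot r δ 1 with
  | none => rw [e] at h; simp at h; omega
  | some k' => rw [e] at h; simp at h; rw [h]

end Cfsg.Lib.EDegTw
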