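import Cfsg.Agent.Chev.EDeg.TwCount

/-! The eigenspaces at the highest root of a twisted group. -/

set_option autoImplicit false
set_option linter.unusedSectionVars false
set_option maxHeartbeats 1000000

open Cfsg.Lie
open Cfsg.Lib.Chev
open Cfsg.Lib.TwDeg (act_end act_ne_zero)

namespace Cfsg.Lib.EDegTw

open Cfsg.Lib.EDeg (bit Mem okUn okUn_spec okLe okLe_spec mem_of_kall sig)

/-- A single phase. -/
def one1 {F : Type*} [Zero F] (r : ℕ) (x : F) : ℕ → F := Function.update (fun _ => (0 : F)) r x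

theorem one1_self {F : Type*} [Zero F] (r : ℕ) (x : F) : one1 r x r = x := Function.update_self ..

theorem one1_ne {F : Type*} [Zero F] {r δ : ℕ} (h : δ ≠ r) (x : F) : one1 r x δ = 0 := by
  rw [one1, Function.update_of_ne h]

/-- The combinatorial data at the highest root. -/
structure Top where
  /-- the node joined to the highest root -/
  sn : ℕ
  /-- the highest root -/
  th : ℕ
  /-- the difference of the highest root and that fundamental root -/
  g0 : ℕ
  /-- that fundamental root -/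
  s : ℕ
  /-- the classes of the abelian set with translating classes -/
  up : List (ℕ × ℕ)
  /-- the other classes of the radical -/
  low : List ℕ
  /-- the zero phases of the first line -/
  za : ℕ
  /-- vanishing: translator, coordinate, vanishing root -/
  van1 : List (ℕ × ℕ × ℕ)
  /-- word exchanging the two roots over the highest difference -/
  wn : List ℕ
  /-- word to the fundamental root -/
  w0 : List ℕ
  /-- the word back -/
  wb : List ℕ
  /-- the zero phases of the second line -/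
  z2 : ℕ
  /-- vanishing: translator, coordinate, vanishing root, classes joined -/
  van2 : List (ℕ × ℕ × ℕ × List ℕ)
  /-- the remaining positive classes -/
  rest : List ℕ

namespace Top

section tables

variable (W : TwDat) (D : ChevalleyDatum) (C : Cert) (T : Top)

/-- The mask of the highest root. -/
noncomputable def tm : ℕ := addCls W D 0 [T.th]

/-- The mask of the abelian set. -/
noncomputable def am : ℕ := addCls W D (T.tm W D) (T.up.map Prod.fst)

/-- The mask of the radical. -/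
noncomputable def ph : ℕ := addCls W D (T.am W D) T.low

/-- The mask of all positive roots. -/
noncomputable def pos : ℕ := addCls W D (T.ph W D) T.rest

/-- A single fixed coordinate over a word. -/
noncomputable def okImg (K : List ℕ) (m b a : ℕ) : Bool :=
  Nat.beq (sig C (W.flat K) b) a &&
    kall (fun δ => !bit m δ || Nat.beq δ b || !Nat.beq (sig C (W.flat K) δ) a) (krange 0 D.nroots)

/-- Checks on the abelian set. -/
noncomputable def okA : Bool :=
  okCl W D 0 && okList W D 0 [T.th] 0 && okCl W D (T.tm W D) &&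
  okList W D 0 (T.up.map Prod.fst) (T.tm W D) && okCl W D (T.am W D) &&
  kall (fun δ => !bit (T.am W D) δ || Nat.beq δ T.th || (T.up.map Prod.fst).elem δ ||
    (T.up.map Prod.fst).elem (rh W D δ)) (krange 0 D.nroots) &&
  kall (fun δ => !bit (T.tm W D) δ || Nat.beq δ T.th) (krange 0 D.nroots) &&
  kall (fun p => okTrans W D (T.am W D) p.2 && okSingle W D 0 p.2 p.1 T.th && bit (T.am W D) p.1 &&
    (!Nat.beq (rh W D p.2) p.2 || Nat.beq (rh W D p.1) p.1) && !Nat.beq p.1 T.th &&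
    kall (fun δ => !bit (T.am W D) δ || Nat.beq δ p.1 || Nat.beq δ (rh W D p.1) || okFix W D 0 p.2 δ)
      (krange 0 D.nroots)) T.up &&
  bit (T.am W D) T.th && Nat.beq (rh W D T.th) T.th && Nat.beq (rh W D T.g0) T.g0 &&
  bit (T.am W D) T.g0 && Nat.blt T.g0 D.nroots && !Nat.beq T.g0 T.th &&
  Nat.blt T.sn D.rank && Nat.beq (W.piAt T.sn) T.sn && decide (C.cart T.sn T.th = 1) &&
  decide (C.cart T.sn T.g0 = -1) && okWey W D C T.wn (T.am W D) (T.am W D) &&
  okImg W D C T.wn (T.am W D) T.g0 T.th && okImg W D C T.wn (T.am W D) T.th T.g0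

/-- Checks on the first line. -/
noncomputable def okV1 (L : List (ℕ × ℕ × ℕ)) : ℕ → Bool :=
  @List.rec (ℕ × ℕ × ℕ) (fun _ => ℕ → Bool)
    (fun z => kall (fun δ => !bit (T.ph W D) δ || Nat.beq δ T.g0 || bit z δ) (krange 0 D.nroots))
    (fun p _ ih z => okTrans W D (T.ph W D) p.1 &&
      kall (fun δ => !bit (T.am W D) δ || okFix W D z p.1 δ) (krange 0 D.nroots) &&
      okSingle W D z p.1 p.2.1 p.2.2 && bit (T.ph W D) p.2.1 && bit (T.ph W D) p.2.2 &&
      okUn D z (cl W D p.2.2) (addCl W D z p.2.2) && ih (addCl W D z p.2.2)) L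

/-- Checks on a class fixing the second line. -/
noncomputable def okSt (r : ℕ) : Bool :=
  okTrans W D (T.ph W D) r && Nat.blt r D.nroots &&
    kall (fun δ => !bit (T.ph W D) δ || okFix W D T.z2 r δ) (krange 0 D.nroots)

/-- Checks on the second line. -/
noncomputable def okV2 (L : List (ℕ × ℕ × ℕ × List ℕ)) : ℕ → Bool :=
  @List.rec (ℕ × ℕ × ℕ × List ℕ) (fun _ => ℕ → Bool)
    (fun z => okList W D z T.rest (T.ph W D) && okCl W D (T.pos W D) &&
      kall (fun δ => !bit (T.pos W D) δ || Nat.beq δ T.s || bit z δ) (krange 0 D.nroots))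
    (fun p _ ih z => T.okSt W D p.1 && kall (fun r => T.okSt W D r) p.2.2.2 &&
      okList W D z p.2.2.2 0 && okTrans W D (addCls W D 0 p.2.2.2) p.1 &&
      okSingle W D z p.1 p.2.1 p.2.2.1 && bit (addCls W D 0 p.2.2.2) p.2.1 &&
      bit (addCls W D 0 p.2.2.2) p.2.2.1 &&
      okUn D z (cl W D p.2.2.1) (addCl W D z p.2.2.1) && ih (addCl W D z p.2.2.1)) L

/-- Checks on the radical. -/
noncomputable def okH : Bool :=
  okList W D T.za T.low (T.am W D) && okCl W D (T.ph W D) && okLe D T.za (T.am W D) &&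
  kall (fun δ => bit T.za δ == (bit (T.am W D) δ && !Nat.beq δ T.g0)) (krange 0 D.nroots) &&
  T.okV1 W D T.van1 T.za &&
  Nat.blt T.s D.nroots && Nat.beq (rh W D T.s) T.s && bit (T.ph W D) T.s &&
  okWey W D C T.w0 (T.ph W D) (T.ph W D) && okImg W D C T.w0 (T.ph W D) T.s T.g0 &&
  okWey W D C T.wb (T.ph W D) (T.am W D) && okImg W D C T.wb (T.am W D) T.g0 T.s &&
  kall (fun δ => bit T.z2 δ == (bit (T.ph W D) δ && !Nat.beq δ T.s)) (krange 0 D.nroots) &&
  kall (fun r => T.okSt W D r) T.rest && T.okV2 W D T.van2 T.z2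

end tables

end Top

variable {D D' : ChevalleyDatum} {C C' : Cert} {W : TwDat} {Tb : List (List ℤ)} {F : Type*} [Field F] [Fintype F]
  {X : Tw D D' C C' W Tb F} (E : TEnv X)
  {V : Type*} [AddCommGroup V] [Module ℂ V] [FiniteDimensional ℂ V] {φ : ↥X.G1 →* Module.End ℂ V}

include E in
theorem one1_eqv {R : ℕ → Prop} (hR : RhoSt W D R) {r : ℕ} (hr : rh W D r = r) {x : F} (hx : x ∈ AG X r) :
    Eqv X R (one1 r x) := by
  intro δ hδ
  rcases eq_or_ne δ r with rfl | hd
  · rw [hr, one1_self, (allowed_iff E (hR δ hδ).1).1 hx hr]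
  · rw [one1_ne hd, map_zero, mul_zero, one1_ne fun e => hd ?_]
    rw [← (cls_row E (hR δ hδ).1).2.1, e, hr]

include E in
theorem img_zero {K : List ℕ} {src dst b a : ℕ} {κ : ℕ → F} (himg : Top.okImg W D C K dst b a = true) (x : F)
    {δ : ℕ} (hδ : Mem D dst δ) :
    κ δ * one1 a x (sig C (W.flat K) δ) = one1 b (κ b * x) δ := by
  simp only [Top.okImg, Bool.and_eq_true, kall_iff, Bool.or_eq_true, Bool.not_eq_true'] at himg
  rcases eq_or_ne δ b with rfl | hd
  · rw [Nat.eq_of_beq_eq_true himg.1, one1_self, one1_self]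
  · rw [one1_ne hd, one1_ne, mul_zero]
    rcases himg.2 δ (mem_krange0 hδ.1) with (h | h) | h
    · exact absurd hδ.2 (by simp [h])
    · exact absurd (Nat.eq_of_beq_eq_true h) hd
    · exact Nat.ne_of_beq_eq_false h

include E in
theorem scale {m r : ℕ} (hρ : RhoSt W D (Mem D m)) {i : Fin D.rank} (hi : Node X i) (hr : rh W D r = r)
    (hrn : r < D.nroots) (hc : D.cartan i r = 1 ∨ D.cartan i r = -1) {x y : F} (hx : x ∈ AG X r) (hy : y ∈ AG X r)
    (hx0 : x ≠ 0) (hy0 : y ≠ 0) : dm φ m (one1 r x) ≤ dm φ m (one1 r y) := by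
  set u : Fˣ := Units.mk0 (y / x) (div_ne_zero hy0 hx0)
  have hu : X.f (u : F) = u := by
    have hex := (allowed_iff E hrn).1 hx hr
    have hey := (allowed_iff E hrn).1 hy hr
    show X.f (y / x) = y / x
    rw [map_div₀]
    rcases (cls_row E hrn).2.2.1 with he | he <;> rw [he] at hex hey
    · rw [one_mul] at hex hey
      rw [hex, hey]
    · rw [neg_one_mul, neg_eq_iff_eq_neg] at hex hey
      rw [hex, hey, neg_div_neg_eq]
  obtain ⟨n, hn⟩ := torus E (φ := φ) hi (z := u ^ (-D.cartan i r)) (by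
    rw [Units.val_zpow_eq_zpow_val, map_zpow₀, hu])
  refine (finrank_le_of_map n (hn (Mem D m) hρ (one1 r x)).2).trans (le_of_eq (dm_congr fun δ _ => ?_))
  rcases eq_or_ne δ r with rfl | hd
  · rw [one1_self, one1_self]
    rcases hc with e | e <;> simp [e, u, hx0]
  · rw [one1_ne hd, one1_ne hd, mul_zero]

variable (T : Top) (hA : T.okA W D C = true)
include E hA

theorem partsA : Cl W D (Mem D 0) ∧ Cl W D (Mem D (T.tm W D)) ∧ Cl W D (Mem D (T.am W D)) ∧
    Mem D (T.am W D) T.th ∧ rh W D T.th = T.th ∧ Mem D (T.am W D) T.g0 ∧ rh W D T.g0 = T.g0 ∧ T.g0 ≠ T.th ∧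
    (∃ _ : T.sn < D.rank, W.piAt T.sn = T.sn ∧ D.cartan T.sn T.th = 1 ∧ D.cartan T.sn T.g0 = -1) ∧
    Mem D (T.tm W D) T.th ∧ T.th < D.nroots := by
  have h := hA
  simp only [Top.okA, Bool.and_eq_true, decide_eq_true_eq, Nat.blt, Nat.ble_eq, Bool.not_eq_true'] at h
  obtain ⟨⟨⟨⟨⟨⟨⟨⟨⟨⟨⟨⟨⟨⟨⟨⟨⟨⟨⟨⟨h0, hl⟩, ht⟩, -⟩, ha⟩, -⟩, -⟩, -⟩, hth⟩, hρth⟩, hρg⟩, hg⟩, hgn⟩, hne⟩, hsn⟩, hpi⟩,
    hct⟩, hcg⟩, -⟩, -⟩, -⟩ := h
  replace hl : (okStep W D 0 0 T.th && true) = true := hl
  rw [Bool.and_true] at hl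
  obtain ⟨hs, hu⟩ := okStep_spec E (w := fun _ => (0 : F)) hl fun _ _ _ => rfl
  refine ⟨okCl_spec E h0, okCl_spec E ht, okCl_spec E ha, ⟨hs.lt, hth⟩, Nat.eq_of_beq_eq_true hρth, ⟨hgn, hg⟩,
    Nat.eq_of_beq_eq_true hρg, Nat.ne_of_beq_eq_false hne, ⟨hsn, Nat.eq_of_beq_eq_true hpi, ?_, ?_⟩,
    (hu T.th).1 (Or.inl (mem_cl.2 (Or.inl rfl))), hs.lt⟩
  · rw [← X.S.ok.cart_eq hsn hs.lt]; exact hct
  · rw [← X.S.ok.cart_eq hsn hgn]; exact hcg

theorem move_up : ∀ (L : List (ℕ × ℕ)), (∀ p ∈ L, p ∈ T.up) → ∀ w w' : ℕ → F,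
    Eqv X (Mem D (T.am W D)) w → Eqv X (Mem D (T.am W D)) w' → w T.th ≠ 0 →
    (∀ δ, Mem D (T.am W D) δ → δ ∉ L.map Prod.fst → rh W D δ ∉ L.map Prod.fst → w δ = w' δ) →
    dm φ (T.am W D) w ≤ dm φ (T.am W D) w' := by
  intro L
  induction L with
  | nil => exact fun _ w w' _ _ _ h => le_of_eq (dm_congr fun δ hδ => h δ hδ (by simp) (by simp))
  | cons p L ih =>
    intro hL w w' hwe hwe' hw h
    obtain ⟨-, -, hcl, hth, hρth, -⟩ := partsA E T hA
    have hA' := hA
    simp only [Top.okA, Bool.and_eq_true, kall_iff] at hA'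
    have hp := hA'.1.1.1.1.1.1.1.1.1.1.1.1.1.2 p (hL p List.mem_cons_self)
    simp only [Bool.or_eq_true, Bool.not_eq_true'] at hp
    obtain ⟨⟨⟨⟨⟨htr, hsing⟩, hpm⟩, hsgl⟩, hne⟩, hfix⟩ := hp
    obtain ⟨-, hM, hchain, hp1, hd⟩ := okSingle_spec E hsing (w := w) (fun j hj => absurd hj.2 (by simp [bit])) 0
    have hpm' : Mem D (T.am W D) p.1 := ⟨hp1, hpm⟩
    set t := (w p.1 - w' p.1) / ((D.chainM p.2 p.1 1 : F) * w T.th) with ht
    have htA : t ∈ AG X p.2 := (allowed_iff E hd).2 fun hd1 => by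
      have hp1' := Nat.eq_of_beq_eq_true (hsgl.resolve_left (by simp [hd1]))
      obtain ⟨-, -, e⟩ := chain_eqv E hd hchain hp1
      rw [hd1, hp1'] at e
      have e' : X.eps p.2 * X.eps p.1 = X.eps T.th := mul_right_cancel₀ hM e
      have a1 := hwe p.1 hpm'
      have a2 := hwe' p.1 hpm'
      have a3 := hwe T.th hth
      rw [hp1'] at a1 a2
      rw [hρth] at a3
      have hfp : X.f (w p.1 - w' p.1) = X.eps p.1 * (w p.1 - w' p.1) := by
        rw [map_sub]
        linear_combination (-(X.eps p.1)) * a1 + X.eps p.1 * a2 -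
          (X.f (w p.1) - X.f (w' p.1)) * eps_sq E hp1
      have hft : X.f (w T.th) = X.eps T.th * w T.th := by
        linear_combination (-(X.eps T.th)) * a3 - X.f (w T.th) * eps_sq E hth.1
      rw [ht, map_div₀, map_mul, fM E, hfp, hft, ← e']
      have h1 : X.eps p.2 ≠ 0 := fun hh => by simpa [hh] using eps_sq E hd
      have h2 : X.eps p.1 ≠ 0 := fun hh => by simpa [hh] using eps_sq E hp1
      field_simp
    obtain ⟨he, hmap⟩ := translate E (φ := φ) htr hcl.rho hwe htA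
    refine le_trans (finrank_le_of_map _ hmap)
      (ih (fun q hq => hL q (List.mem_cons_of_mem _ hq)) (shift2 X w p.2 t) w' he hwe' ?_ fun δ hδ hn1 hn2 => ?_)
    · rw [okFix_spec E hd ((hfix T.th (mem_krange0 hth.1)).resolve_left ?_) (fun j hj => absurd hj.2 (by simp [bit])) t]
      · exact hw
      · rintro ((h' | h') | h')
        · exact absurd hth.2 (by simp [h'])
        · exact Nat.ne_of_beq_eq_false hne (Nat.eq_of_beq_eq_true h').symm
        · refine Nat.ne_of_beq_eq_false hne ?_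
          rw [← (cls_row E hp1).2.1, ← Nat.eq_of_beq_eq_true h', hρth]
    · have key : shift2 X w p.2 t p.1 = w' p.1 := by
        rw [(okSingle_spec E hsing (fun j hj => absurd hj.2 (by simp [bit])) t).1, ht]
        field_simp
        ring
      rcases eq_or_ne δ p.1 with rfl | hd1
      · exact key
      rcases eq_or_ne δ (rh W D p.1) with rfl | hd2
      · rw [he p.1 hpm', hwe' p.1 hpm', key]
      rw [okFix_spec E hd ((hfix δ (mem_krange0 hδ.1)).resolve_left ?_) (fun j hj => absurd hj.2 (by simp [bit])) t]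
      · refine h δ hδ ?_ ?_
        · simp only [List.map_cons, List.mem_cons, not_or]
          exact ⟨hd1, hn1⟩
        · simp only [List.map_cons, List.mem_cons, not_or]
          exact ⟨fun e => hd2 (by rw [← e, (cls_row E hδ.1).2.1]), hn2⟩
      · rintro ((h' | h') | h')
        · exact absurd hδ.2 (by simp [h'])
        · exact hd1 (Nat.eq_of_beq_eq_true h')
        · exact hd2 (Nat.eq_of_beq_eq_true h')

theorem a_dim {w w' : ℕ → F} (hwe : Eqv X (Mem D (T.am W D)) w) (hwe' : Eqv X (Mem D (T.am W D)) w')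
    (hw : w T.th ≠ 0) (hw' : w' T.th ≠ 0) : dm φ (T.am W D) w = dm φ (T.am W D) w' := by
  obtain ⟨-, -, hcl, hth, hρth, -, -, -, ⟨hsn, hpi, hct, -⟩, -⟩ := partsA E T hA
  have hA' := hA
  simp only [Top.okA, Bool.and_eq_true, kall_iff, Bool.or_eq_true, Bool.not_eq_true', List.elem_eq_mem,
    decide_eq_true_eq] at hA'
  have hcov := hA'.1.1.1.1.1.1.1.1.1.1.1.1.1.1.1.2
  have le : ∀ w : ℕ → F, Eqv X (Mem D (T.am W D)) w → w T.th ≠ 0 → ∀ w' : ℕ → F, Eqv X (Mem D (T.am W D)) w' →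
      w T.th = w' T.th → dm φ (T.am W D) w ≤ dm φ (T.am W D) w' := fun w a b w' a' e =>
    move_up E T hA T.up (fun p h => h) w w' a a' b fun δ hδ h1 h2 => by
      rcases hcov δ (mem_krange0 hδ.1) with ((h | h) | h) | h
      · exact absurd hδ.2 (by simp [h])
      · rw [Nat.eq_of_beq_eq_true h, e]
      · exact absurd h h1
      · exact absurd h h2
  have one : ∀ w : ℕ → F, Eqv X (Mem D (T.am W D)) w → w T.th ≠ 0 →
      w T.th ∈ AG X T.th ∧ dm φ (T.am W D) w = dm φ (T.am W D) (one1 T.th (w T.th)) := fun w a b => by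
    have hm := eqv_mem E a hcl.rho hth
    have a1 := one1_eqv E hcl.rho hρth hm
    exact ⟨hm, le_antisymm (le w a b _ a1 (one1_self ..).symm) (le _ a1 (by rwa [one1_self]) w a (one1_self ..))⟩
  obtain ⟨m1, e1⟩ := one w hwe hw
  obtain ⟨m2, e2⟩ := one w' hwe' hw'
  rw [e1, e2]
  exact le_antisymm (scale E hcl.rho (i := ⟨T.sn, hsn⟩) hpi hρth hth.1 (Or.inl hct) m1 m2 hw hw')
    (scale E hcl.rho (i := ⟨T.sn, hsn⟩) hpi hρth hth.1 (Or.inl hct) m2 m1 hw' hw)

theorem g0_dim {y x : F} (hy : y ∈ AG X T.g0) (hy0 : y ≠ 0) (hx : x ∈ AG X T.th) (hx0 : x ≠ 0) :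
    dm φ (T.am W D) (one1 T.g0 y) = dm φ (T.am W D) (one1 T.th x) := by
  obtain ⟨-, -, hcl, hth, hρth, hg, hρg, -, ⟨hsn, hpi, -, hcg⟩, -⟩ := partsA E T hA
  have hA' := hA
  simp only [Top.okA, Bool.and_eq_true] at hA'
  obtain ⟨⟨⟨-, hW⟩, hi1⟩, hi2⟩ := hA'
  obtain ⟨n, κ, hκ, heq, hn⟩ := wey E (φ := φ) hW
  have up : ∀ (a b : ℕ) (z : F), rh W D a = a → rh W D b = b → Mem D (T.am W D) b →
      Top.okImg W D C T.wn (T.am W D) b a = true → z ∈ AG X a → z ≠ 0 → ∃ z' ∈ AG X b, z' ≠ 0 ∧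
        dm φ (T.am W D) (one1 a z) ≤ dm φ (T.am W D) (one1 b z') := fun a b z hfa hfb hb himg hz hz0 => by
    have h1 := heq _ (one1_eqv E hcl.rho hfa hz)
    have hm := eqv_mem E h1 hcl.rho hb
    have e : κ b * one1 a z (sig C (W.flat T.wn) b) = κ b * z := by
      rw [img_zero E (src := T.am W D) himg z hb, one1_self]
    rw [e] at hm
    exact ⟨_, hm, mul_ne_zero (hκ b hb).2 hz0, (finrank_le_of_map n (hn _)).trans
      (le_of_eq (dm_congr fun δ hδ => img_zero E (src := T.am W D) himg z hδ))⟩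
  obtain ⟨x1, hx1, hx10, h1⟩ := up T.g0 T.th y hρg hρth hth hi2 hy hy0
  obtain ⟨y1, hy1, hy10, h2⟩ := up T.th T.g0 x hρth hρg hg hi1 hx hx0
  refine le_antisymm (h1.trans (le_of_eq (a_dim E T hA (one1_eqv E hcl.rho hρth hx1) (one1_eqv E hcl.rho hρth hx)
    (by rwa [one1_self]) (by rwa [one1_self])))) (h2.trans ?_)
  exact scale E hcl.rho (i := ⟨T.sn, hsn⟩) hpi hρg hg.1 (Or.inr hcg) hy1 hy hy10 hy0

theorem th_dim {x x' : F} (hx : x ∈ AG X T.th) (hx0 : x ≠ 0) (hx' : x' ∈ AG X T.th) (hx0' : x' ≠ 0) :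
    dm φ (T.tm W D) (one1 T.th x) =
      ((T.up.map Prod.fst).map fun r => X.q ^ (cl W D r).length).prod * dm φ (T.am W D) (one1 T.th x') := by
  obtain ⟨-, ht, hcl, hth, hρth, -, -, -, -, htm, -⟩ := partsA E T hA
  have hA' := hA
  simp only [Top.okA, Bool.and_eq_true] at hA'
  have hl := hA'.1.1.1.1.1.1.1.1.1.1.1.1.1.1.1.1.1.2
  refine split_const E _ _ 0 _ hl ht (fun k hk => absurd hk.2 (by simp [bit])) (one1_eqv E ht.rho hρth hx)
    (fun k _ hk => absurd hk (by simp [bit])) _ fun f hf hfw => ?_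
  refine a_dim E T hA hf (one1_eqv E hcl.rho hρth hx') ?_ (by rwa [one1_self])
  rwa [hfw T.th htm, one1_self]

theorem total_dim {x' : F} (hx' : x' ∈ AG X T.th) (hx0' : x' ≠ 0) :
    Module.finrank ℂ V = dm φ (T.tm W D) (fun _ => (0 : F)) +
      (X.q - 1) * (((T.up.map Prod.fst).map fun r => X.q ^ (cl W D r).length).prod *
        dm φ (T.am W D) (one1 T.th x')) := by
  classical
  obtain ⟨h0, -, -, -, hρth, -, -, -, -, -, hthn⟩ := partsA E T hA
  have hA' := hA
  simp only [Top.okA, Bool.and_eq_true, kall_iff, Bool.or_eq_true, Bool.not_eq_true'] at hA'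
  have hl := hA'.1.1.1.1.1.1.1.1.1.1.1.1.1.1.1.1.1.1.1.2
  have honly := hA'.1.1.1.1.1.1.1.1.1.1.1.1.1.1.2
  replace hl : (okStep W D 0 0 T.th && true) = true := hl
  rw [Bool.and_true] at hl
  obtain ⟨-, -, -, -, p5⟩ := step_props E (φ := φ) (w := fun _ => (0 : F)) hl h0 (fun δ _ => by simp) fun _ _ _ => rfl
  have htop : dm φ 0 (fun _ => (0 : F)) = Module.finrank ℂ V := by
    have e : ES φ (Mem D 0) (fun _ => (0 : F)) = ⊤ := by
      refine eq_top_iff.2 fun v _ L hL g hg => ?_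
      obtain rfl : L = [] := List.eq_nil_iff_forall_not_mem.2 fun p hp => by simpa [bit] using (hL p hp).2.2
      obtain rfl : g = 1 := Subtype.ext (by simpa [Ok.wG] using hg)
      simp [val]
    rw [dm, e, finrank_top]
  rw [← htop, p5, ← Finset.add_sum_erase _ _ (Finset.mem_univ (0 : ↥(AG X T.th)))]
  have heq : ∀ (x : ↥(AG X T.th)) δ, Mem D (addCl W D 0 T.th) δ →
      upd X (fun _ => (0 : F)) T.th x δ = one1 T.th (x : F) δ := fun x δ hδ => by
    obtain rfl : δ = T.th := Nat.eq_of_beq_eq_true ((honly δ (mem_krange0 hδ.1)).resolve_left (by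
      rw [show T.tm W D = addCl W D 0 T.th from rfl]; simp [hδ.2]))
    rw [upd_self, one1_self]
  congr 1
  · exact dm_congr fun δ hδ => by
      rw [heq 0 δ hδ]
      simp [one1, Function.update_apply]
  · rw [Finset.sum_congr rfl fun (x : ↥(AG X T.th)) hx => show dm φ (addCl W D 0 T.th) (upd X (fun _ => (0 : F)) T.th (x : F)) =
        ((T.up.map Prod.fst).map fun r => X.q ^ (cl W D r).length).prod * dm φ (T.am W D) (one1 T.th x') by
      rw [dm_congr (heq x)]
      exact th_dim E T hA x.2 (fun e => (Finset.mem_erase.1 hx).1 (Subtype.ext e)) hx' hx0',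
      Finset.sum_const, Finset.card_erase_of_mem (Finset.mem_univ _), Finset.card_univ, card_AG E hthn, smul_eq_mul]
    simp [cl, hρth]

variable (hH : T.okH W D C = true)
include hH

/-- A vector with phases concentrated at one fundamental root. -/
theorem simple_vec {x' : F} (hx' : x' ∈ AG X T.th) (hx0' : x' ≠ 0)
    (ha : dm φ (T.am W D) (one1 T.th x') = 1) : SVec φ (T.pos W D) T.s := by
  classical
  obtain ⟨-, -, hcl, -, -, hg, hρg, -, -, -, -⟩ := partsA E T hA
  simp only [Top.okH, Bool.and_eq_true, Nat.blt, Nat.ble_eq] at hH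
  obtain ⟨⟨⟨⟨⟨⟨⟨⟨⟨⟨⟨⟨⟨⟨hlow, hclph⟩, hzle⟩, hza⟩, hv1⟩, hsn⟩, hρs⟩, hsb⟩, hW0⟩, hi0⟩, hWb⟩, hib⟩, hz2⟩, hrest⟩, hV2⟩ := hH
  have hph := okCl_spec E hclph
  have hρs' := Nat.eq_of_beq_eq_true hρs
  have hsm : Mem D (T.ph W D) T.s := ⟨hsn, hsb⟩
  obtain ⟨y, hy, hy0⟩ := exists_ne_zero E hg.1
  have hline : dm φ (T.am W D) (one1 T.g0 y) = 1 := (g0_dim E T hA hy hy0 hx' hx0').trans ha
  have hzav : ∀ k, Mem D T.za k → one1 T.g0 y k = 0 := fun k hk => by
    have := beq_iff_eq.1 (mem_of_kall hza hk.1)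
    rw [hk.2, eq_comm, Bool.and_eq_true, Bool.not_eq_true'] at this
    exact one1_ne (Nat.ne_of_beq_eq_false this.2) y
  obtain ⟨w, hwa, hwe, hwne⟩ := extend E (φ := φ) T.low _ T.za (one1 T.g0 y) hlow hcl
    (fun k hk => okLe_spec hzle hk) (one1_eqv E hcl.rho hρg hy) (fun k hk hb => hzav k ⟨hk.1, hb⟩) (by omega)
  change Eqv X (Mem D (T.ph W D)) w at hwe
  change dm φ (T.ph W D) w ≠ 0 at hwne
  obtain ⟨v, hv, hv0⟩ := exists_vec hwne
  have hsub : ∀ δ, Mem D (T.am W D) δ → Mem D (T.ph W D) δ := by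
    have key : ∀ L m, okList W D T.za L m = true → ∀ δ, Mem D m δ → Mem D (addCls W D m L) δ := by
      intro L
      induction L with
      | nil => exact fun _ _ _ h => h
      | cons a L ih =>
        intro m hok δ hδ
        replace hok : (okStep W D m T.za a && okList W D T.za L (addCl W D m a)) = true := hok
        simp only [okStep, Bool.and_eq_true] at hok
        exact ih _ hok.2 δ ((okUn_spec hok.1.1.1 δ).1 (Or.inr hδ))
    exact key _ _ hlow
  have hle' : ES φ (Mem D (T.ph W D)) w ≤ ES φ (Mem D (T.am W D)) (one1 T.g0 y) :=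
    ES_mono hsub fun δ hδ => (hwa δ hδ).symm
  have heq := Submodule.eq_of_le_of_finrank_le hle' (by
    change dm φ (T.am W D) _ ≤ dm φ (T.ph W D) w
    omega)
  have van : ∀ (L : List (ℕ × ℕ × ℕ)) (z : ℕ), T.okV1 W D L z = true → (∀ k, Mem D z k → w k = 0) →
      ∀ δ, Mem D (T.ph W D) δ → δ ≠ T.g0 → w δ = 0 := by
    intro L
    induction L with
    | nil =>
      intro z hok hz δ hδ hd
      have := mem_of_kall (show kall (fun δ => !bit (T.ph W D) δ || Nat.beq δ T.g0 || bit z δ) (krange 0 D.nroots) =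
        true from hok) hδ.1
      simp only [hδ.2, Bool.not_true, Bool.false_or, Bool.or_eq_true] at this
      exact hz δ ⟨hδ.1, this.resolve_left fun e => hd (Nat.eq_of_beq_eq_true e)⟩
    | cons p L ih =>
      intro z hok hz
      replace hok : (okTrans W D (T.ph W D) p.1 &&
        kall (fun δ => !bit (T.am W D) δ || okFix W D z p.1 δ) (krange 0 D.nroots) &&
        okSingle W D z p.1 p.2.1 p.2.2 && bit (T.ph W D) p.2.1 && bit (T.ph W D) p.2.2 &&
        okUn D z (cl W D p.2.2) (addCl W D z p.2.2) && T.okV1 W D L (addCl W D z p.2.2)) = true := hok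
      simp only [Bool.and_eq_true] at hok
      obtain ⟨⟨⟨⟨⟨⟨htr, hfix⟩, hsing⟩, hd⟩, hk⟩, hun⟩, hrest'⟩ := hok
      obtain ⟨-, hM, hch, hdn, hrn⟩ := okSingle_spec E hsing hz 0
      obtain ⟨t, ht, ht0⟩ := exists_ne_zero E hrn
      obtain ⟨he, hmap⟩ := translate E (φ := φ) htr hph.rho hwe ht
      have hv' := hmap v hv
      have hv'' : φ (yy E p.1 t) v ∈ ES φ (Mem D (T.ph W D)) w := by
        rw [heq]
        refine ES_mono hsub (fun δ hδ => ?_) hv'
        have := mem_of_kall hfix hδ.1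
        simp only [hδ.2, Bool.not_true, Bool.false_or] at this
        rw [okFix_spec E hrn this hz t, hwa δ hδ]
      have h3 := phase_unique E hph.rho he hwe (act_ne_zero φ _ hv0) hv' hv'' (⟨hdn, hd⟩ : Mem D (T.ph W D) p.2.1)
      rw [(okSingle_spec E hsing hz t).1, sub_eq_self] at h3
      have hk0 : w p.2.2 = 0 := (mul_eq_zero.1 h3).resolve_left (mul_ne_zero hM ht0)
      refine ih _ hrest' fun δ hδ => ?_
      rcases (okUn_spec hun δ).2 hδ with h | h
      · rcases mem_cl.1 h with e | e <;> rw [e]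
        · exact hk0
        · rw [hwe p.2.2 ⟨(chain_some X.S.chain hrn (k := 0) hch).1, hk⟩, hk0, map_zero, mul_zero]
      · exact hz δ h
  have hlowz : ∀ δ, Mem D (T.ph W D) δ → δ ≠ T.g0 → w δ = 0 := van T.van1 T.za hv1 fun k hk => by
    rw [hwa k (okLe_spec hzle hk)]
    exact hzav k hk
  -- the second line
  obtain ⟨n, κ, hκ, heqn, hn⟩ := wey E (φ := φ) hW0
  obtain ⟨nb, κb, hκb, heqb, hnb⟩ := wey E (φ := φ) hWb
  set c : F := κ T.s * y with hc
  have hw1 : ∀ δ, Mem D (T.ph W D) δ → w δ = one1 T.g0 y δ := fun δ hδ => by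
    rcases eq_or_ne δ T.g0 with rfl | hd
    · exact hwa _ hg
    · rw [hlowz δ hδ hd, one1_ne hd]
  have hc0 : c ≠ 0 := mul_ne_zero (hκ _ hsm).2 hy0
  have hv2 : φ n v ∈ ES φ (Mem D (T.ph W D)) (one1 T.s c) := by
    rw [ES_congr (fun _ => Iff.rfl) (w' := fun δ => κ δ * w (sig C (W.flat T.w0) δ)) fun δ hδ => ?_]
    · exact hn w v hv
    · rw [hw1 _ (hκ δ hδ).1, img_zero E (src := T.ph W D) hi0 y hδ]
  have hcA : c ∈ AG X T.s := by
    have h1 := eqv_mem E (heqn w hwe) hph.rho hsm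
    rwa [hw1 _ (hκ _ hsm).1, img_zero E (src := T.ph W D) hi0 y hsm, one1_self] at h1
  have hwe2 : Eqv X (Mem D (T.ph W D)) (one1 T.s c) := one1_eqv E hph.rho hρs' hcA
  have hv20 : φ n v ≠ 0 := act_ne_zero φ n hv0
  have h2line : Module.finrank ℂ ↥(ES φ (Mem D (T.ph W D)) (one1 T.s c)) = 1 := by
    refine le_antisymm ?_ (Nat.pos_of_ne_zero (dm_ne hv2 hv20))
    refine (finrank_le_of_map nb (hnb (one1 T.s c))).trans (le_of_eq ?_)
    have e := img_zero E (κ := κb) (src := T.ph W D) hib c (δ := T.g0) hg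
    rw [one1_self] at e
    have hb : κb T.g0 * c ∈ AG X T.g0 := by
      have h1 := eqv_mem E (heqb _ hwe2) hcl.rho hg
      rwa [e] at h1
    rw [← ha, ← g0_dim E T hA hb (mul_ne_zero (hκb _ hg).2 hc0) hx' hx0']
    exact dm_congr fun δ hδ => img_zero E (src := T.ph W D) hib c hδ
  -- stabilising classes act by characters
  have heig : ∀ r, T.okSt W D r = true → ∃ x : ↥(AG X r), ∀ t : ↥(AG X r),
      φ (yy E r (t : F)) (φ n v) = chi X r x t • φ n v := fun r hr => by
    simp only [Top.okSt, Bool.and_eq_true, Nat.blt, Nat.ble_eq] at hr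
    obtain ⟨⟨htr, hrn⟩, hfix⟩ := hr
    obtain ⟨x, hx⟩ := line_eig E (φ := φ) hrn (fun t u hu => by
      have h' := (translate E (φ := φ) htr hph.rho hwe2 t.2).2 u hu
      rwa [ES_congr (fun _ => Iff.rfl) (w' := one1 T.s c) fun δ hδ => ?_] at h'
      have := mem_of_kall hfix hδ.1
      simp only [hδ.2, Bool.not_true, Bool.false_or] at this
      refine okFix_spec E hrn this (fun j hj => ?_) t
      have := beq_iff_eq.1 (mem_of_kall hz2 hj.1)
      rw [hj.2, eq_comm, Bool.and_eq_true, Bool.not_eq_true'] at this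
      exact one1_ne (Nat.ne_of_beq_eq_false this.2) c) h2line
    exact ⟨x, fun t => hx _ hv2 t⟩
  set v2 := φ n v
  let Zero : ℕ → Prop := fun δ => ∀ (R : ℕ → Prop) (u : ℕ → F), RhoSt W D R → Eqv X R u → v2 ∈ ES φ R u → R δ → u δ = 0
  have zero_of : ∀ (R : ℕ → Prop) (u : ℕ → F), RhoSt W D R → Eqv X R u → v2 ∈ ES φ R u → ∀ δ, R δ → u δ = 0 →
      Zero δ := fun R u h1 h2 h3 δ h4 h5 R' u' a1 a2 a3 a4 => by
    have hc : RhoSt W D (fun j => R j ∧ R' j) := fun j hj => ⟨(h1 j hj.1).1, (h1 j hj.1).2, (a1 j hj.2).2⟩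
    have := phase_unique E hc (fun j hj => a2 j hj.2) (fun j hj => h2 j hj.1) hv20
      (ES_mono (fun j hj => hj.2) (fun _ _ => rfl) a3) (ES_mono (fun j hj => hj.1) (fun _ _ => rfl) h3)
      (r := δ) ⟨h4, a4⟩
    rw [this, h5]
  have joinL : ∀ (L : List ℕ) (z m : ℕ) (u : ℕ → F), okList W D z L m = true → (∀ r ∈ L, T.okSt W D r = true) →
      (∀ δ, Mem D z δ → Zero δ) → Cl W D (Mem D m) → Eqv X (Mem D m) u → v2 ∈ ES φ (Mem D m) u →
      ∃ u' : ℕ → F, Cl W D (Mem D (addCls W D m L)) ∧ Eqv X (Mem D (addCls W D m L)) u' ∧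
        v2 ∈ ES φ (Mem D (addCls W D m L)) u' ∧ ∀ δ, Mem D m δ → u' δ = u δ := by
    intro L
    induction L with
    | nil => exact fun z m u _ _ _ a b c => ⟨u, a, b, c, fun _ _ => rfl⟩
    | cons r L ih =>
      intro z m u hok hst hz hR hu hv'
      replace hok : (okStep W D m z r && okList W D z L (addCl W D m r)) = true := hok
      rw [Bool.and_eq_true] at hok
      have hz' : ∀ k, Mem D m k → bit z k = true → u k = 0 := fun k hk hb => hz k ⟨hk.1, hb⟩ _ u hR.rho hu hv' hk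
      obtain ⟨hs, hun⟩ := okStep_spec E hok.1 hz'
      obtain ⟨p1, p2, p3, -, -⟩ := step_props E (φ := φ) hok.1 hR hu hz'
      obtain ⟨x, hx⟩ := heig r (hst r List.mem_cons_self)
      have hj := (mem_un_iff E hR hs hu x v2).2 ⟨hv', hx⟩
      rw [ES_congr hun fun _ _ => rfl] at hj
      obtain ⟨u', a, b, c, d⟩ := ih z _ _ hok.2 (fun r' hr' => hst r' (List.mem_cons_of_mem _ hr')) hz p1
        (p2 x x.2) hj
      exact ⟨u', a, b, c, fun δ hδ => by rw [d δ (p3 x δ hδ).1, (p3 x δ hδ).2]⟩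
  have hv2' : ∀ (L : List (ℕ × ℕ × ℕ × List ℕ)) (z : ℕ), T.okV2 W D L z = true → (∀ δ, Mem D z δ → Zero δ) →
      SVec φ (T.pos W D) T.s := by
    intro L
    induction L with
    | nil =>
      intro z hok hz
      replace hok : (okList W D z T.rest (T.ph W D) && okCl W D (T.pos W D) &&
        kall (fun δ => !bit (T.pos W D) δ || Nat.beq δ T.s || bit z δ) (krange 0 D.nroots)) = true := hok
      simp only [Bool.and_eq_true] at hok
      obtain ⟨⟨hl, -⟩, hcov⟩ := hok
      obtain ⟨u, hR, hu, hvu, hold⟩ := joinL T.rest z _ _ hl (fun r hr => (kall_iff _ _).1 hrest r hr) hz hph hwe2 hv2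
      refine ⟨u, hu, fun δ hδ hd => ?_, by rw [hold T.s hsm, one1_self]; exact hc0, dm_ne hvu hv20⟩
      have := mem_of_kall hcov hδ.1
      have hb : bit (T.pos W D) δ = true := hδ.2
      simp only [hb, Bool.not_true, Bool.false_or, Bool.or_eq_true] at this
      exact hz δ ⟨hδ.1, this.resolve_left fun e => hd (Nat.eq_of_beq_eq_true e)⟩ _ u hR.rho hu hvu hδ
    | cons p L ih =>
      intro z hok hz
      replace hok : (T.okSt W D p.1 && kall (fun r => T.okSt W D r) p.2.2.2 &&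
        okList W D z p.2.2.2 0 && okTrans W D (addCls W D 0 p.2.2.2) p.1 &&
        okSingle W D z p.1 p.2.1 p.2.2.1 && bit (addCls W D 0 p.2.2.2) p.2.1 &&
        bit (addCls W D 0 p.2.2.2) p.2.2.1 &&
        okUn D z (cl W D p.2.2.1) (addCl W D z p.2.2.1) && T.okV2 W D L (addCl W D z p.2.2.1)) = true := hok
      simp only [Bool.and_eq_true] at hok
      obtain ⟨⟨⟨⟨⟨⟨⟨⟨hst, hsts⟩, hl⟩, htr⟩, hsing⟩, hd⟩, hk⟩, hun⟩, hrest'⟩ := hok
      have h0 : v2 ∈ ES φ (Mem D 0) (fun _ => (0 : F)) := by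
        intro L hL g hg
        obtain rfl : L = [] := List.eq_nil_iff_forall_not_mem.2 fun q hq => by simpa [bit] using (hL q hq).2.2
        obtain rfl : g = 1 := Subtype.ext (by simpa [Ok.wG] using hg)
        simp [val]
      obtain ⟨u, hR, hu, hvu, -⟩ := joinL p.2.2.2 z 0 _ hl (fun r hr => (kall_iff _ _).1 hsts r hr) hz
        (partsA E T hA).1 (fun δ _ => by simp) h0
      set R' := addCls W D 0 p.2.2.2
      -- phases known to vanish
      set u0 : ℕ → F := fun δ => if Mem D R' δ then u δ else 0 with hu0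
      have hu0e : Eqv X (Mem D R') u0 := fun δ hδ => by
        rw [hu0]
        simp only [if_pos hδ, if_pos (show Mem D R' (rh W D δ) from (hR.rho δ hδ).2)]
        exact hu δ hδ
      have hvu0 : v2 ∈ ES φ (Mem D R') u0 := by
        rwa [ES_congr (fun _ => Iff.rfl) (w' := u) fun δ hδ => if_pos hδ]
      have hzero : ∀ j, Mem D z j → u0 j = 0 := fun j hj => by
        rw [hu0]
        simp only
        split_ifs with h
        · exact hz j hj _ u hR.rho hu hvu h
        · rfl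
      obtain ⟨-, hM, hch, hdn, hrn⟩ := okSingle_spec E hsing hzero 0
      obtain ⟨t, ht, ht0⟩ := exists_ne_zero E hrn
      obtain ⟨he, hmap⟩ := translate E (φ := φ) htr hR.rho hu0e ht
      obtain ⟨x, hx⟩ := heig p.1 hst
      have h1 : φ (yy E p.1 t) v2 ∈ ES φ (Mem D R') u0 := by
        rw [hx ⟨t, ht⟩]
        exact Submodule.smul_mem _ _ hvu0
      have h3 := phase_unique E hR.rho he hu0e (act_ne_zero φ _ hv20) (hmap v2 hvu0) h1
        (⟨hdn, hd⟩ : Mem D R' p.2.1)
      rw [(okSingle_spec E hsing hzero t).1, sub_eq_self] at h3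
      have hkn : Mem D R' p.2.2.1 := ⟨(chain_some X.S.chain hrn (k := 0) hch).1, hk⟩
      have hk0 : u0 p.2.2.1 = 0 := (mul_eq_zero.1 h3).resolve_left (mul_ne_zero hM ht0)
      refine ih _ hrest' fun δ hδ => ?_
      rcases (okUn_spec hun δ).2 hδ with h | h
      · rcases mem_cl.1 h with e | e <;> rw [e]
        · exact zero_of _ u0 hR.rho hu0e hvu0 _ hkn hk0
        · exact zero_of _ u0 hR.rho hu0e hvu0 _ (hR.rho _ hkn).2 (by rw [hu0e _ hkn, hk0, map_zero, mul_zero])
      · exact hz δ h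
  refine hv2' T.van2 T.z2 hV2 fun δ hδ => ?_
  have h2 := beq_iff_eq.1 (mem_of_kall hz2 hδ.1)
  rw [hδ.2, eq_comm, Bool.and_eq_true, Bool.not_eq_true'] at h2
  exact zero_of _ _ hph.rho hwe2 hv2 δ ⟨hδ.1, h2.1⟩ (one1_ne (Nat.ne_of_beq_eq_false h2.2) c)

end Cfsg.Lib.EDegTw
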